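import Mathlib

set_option autoImplicit false
set_option linter.unusedSectionVars false

namespace Cfsg.Agent.Helper3

open Module LinearMap

section Spectral

variable {V : Type*} [AddCommGroup V] [Module ℂ V] [FiniteDimensional ℂ V]

omit [FiniteDimensional ℂ V] in
/-- An endomorphism of finite order is semisimple. -/
theorem isSemisimple_of_pow_eq_one (f : End ℂ V) (n : ℕ) (hn : n ≠ 0) (hf : f ^ n = 1) :
    f.IsSemisimple := by
  have hsq : Squarefree (Polynomial.X ^ n - 1 : Polynomial ℂ) := by
    apply Polynomial.Separable.squarefree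
    have := Polynomial.separable_X_pow_sub_C (1 : ℂ) (n := n) (by exact_mod_cast hn) one_ne_zero
    simpa using this
  apply Module.End.isSemisimple_of_squarefree_aeval_eq_zero hsq
  simp [hf]

theorem isInternal_eigenspace (f : End ℂ V) (hf : f.IsSemisimple) :
    DirectSum.IsInternal (fun μ : ℂ => f.eigenspace μ) := by
  classical
  exact DirectSum.isInternal_submodule_of_iSupIndep_of_iSup_eq_top f.eigenspaces_iSupIndep
    hf.iSup_eigenspace_eq_top

theorem finite_eigenspace_ne_bot (f : End ℂ V) : {μ : ℂ | f.eigenspace μ ≠ ⊥}.Finite :=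
  WellFoundedGT.finite_ne_bot_of_iSupIndep f.eigenspaces_iSupIndep

theorem trace_eq_of_scalar_on_eigenspaces (f g : End ℂ V) (hf : f.IsSemisimple) (φ : ℂ → ℂ)
    (h : ∀ μ : ℂ, ∀ v ∈ f.eigenspace μ, g v = φ μ • v) :
    LinearMap.trace ℂ V g = ∑ᶠ μ : ℂ, φ μ * (finrank ℂ (f.eigenspace μ) : ℂ) := by
  classical
  have hint := isInternal_eigenspace f hf
  have hfin := finite_eigenspace_ne_bot f
  have hmaps : ∀ μ, Set.MapsTo g (f.eigenspace μ) (f.eigenspace μ) := fun μ v hv => by
    rw [h μ v hv]; exact Submodule.smul_mem _ _ hv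
  rw [LinearMap.trace_eq_sum_trace_restrict' hint hfin hmaps]
  rw [finsum_eq_sum_of_support_subset (s := hfin.toFinset)]
  · apply Finset.sum_congr rfl
    intro μ _
    have : g.restrict (hmaps μ) = φ μ • LinearMap.id := by
      ext v
      have := h μ v v.2
      simp only [LinearMap.smul_apply, LinearMap.id_coe, id_eq, Submodule.coe_smul]
      exact this
    rw [this]; simp
  · intro μ hμ
    simp only [Function.mem_support, ne_eq, mul_eq_zero, not_or] at hμ
    simp only [Set.Finite.coe_toFinset, Set.mem_ofPred_eq]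
    intro hbot
    apply hμ.2
    rw [hbot]; simp

end Spectral

section Rep

open scoped ComplexConjugate

variable {G : Type*} [Group G] [Finite G] {V : Type*} [AddCommGroup V] [Module ℂ V]
  [FiniteDimensional ℂ V] (ρ : Representation ℂ G V)

omit [FiniteDimensional ℂ V] [Finite G] in
theorem rho_pow_orderOf (g : G) : (ρ g) ^ (orderOf g) = 1 := by
  rw [← map_pow, pow_orderOf_eq_one, map_one]

omit [FiniteDimensional ℂ V] in
theorem rho_isSemisimple (g : G) : Module.End.IsSemisimple (ρ g) :=
  isSemisimple_of_pow_eq_one (ρ g) (orderOf g) (orderOf_pos g).ne' (rho_pow_orderOf ρ g)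

/-- multiplicity of the eigenvalue `μ` of `ρ g`. -/
noncomputable def mult (g : G) (μ : ℂ) : ℕ := finrank ℂ (Module.End.eigenspace (ρ g) μ)

omit [FiniteDimensional ℂ V] in
theorem eigenvalue_pow_orderOf (g : G) (μ : ℂ) (h : Module.End.eigenspace (ρ g) μ ≠ ⊥) :
    μ ^ (orderOf g) = 1 := by
  obtain ⟨v, hv, hv0⟩ := Submodule.exists_mem_ne_zero_of_ne_bot h
  rw [Module.End.mem_eigenspace_iff] at hv
  have h1 : ((ρ g) ^ (orderOf g)) v = μ ^ (orderOf g) • v := by
    have : ∀ k : ℕ, ((ρ g) ^ k) v = μ ^ k • v := by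
      intro k
      induction k with
      | zero => simp
      | succ k ih => rw [pow_succ', Module.End.mul_apply, ih, map_smul, hv, smul_smul, pow_succ]
    exact this _
  rw [rho_pow_orderOf, Module.End.one_apply] at h1
  have h2 : (μ ^ (orderOf g) - 1) • v = 0 := by rw [sub_smul, one_smul, ← h1, sub_self]
  rcases smul_eq_zero.mp h2 with h3 | h3
  · exact sub_eq_zero.mp h3
  · exact absurd h3 hv0

theorem mult_ne_zero_iff (g : G) (μ : ℂ) : mult ρ g μ ≠ 0 ↔ Module.End.eigenspace (ρ g) μ ≠ ⊥ := by
  unfold mult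
  rw [ne_eq, Submodule.finrank_eq_zero]

theorem eigenvalue_pow_of_mult_ne_zero (g : G) (μ : ℂ) (h : mult ρ g μ ≠ 0) :
    μ ^ (orderOf g) = 1 := eigenvalue_pow_orderOf ρ g μ ((mult_ne_zero_iff ρ g μ).mp h)

theorem norm_eigenvalue (g : G) (μ : ℂ) (h : mult ρ g μ ≠ 0) : ‖μ‖ = 1 := by
  have := eigenvalue_pow_of_mult_ne_zero ρ g μ h
  exact Complex.norm_eq_one_of_pow_eq_one this (orderOf_pos g).ne'

theorem finite_mult_support (g : G) : (Function.support (mult ρ g)).Finite := by
  have := finite_eigenspace_ne_bot (ρ g)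
  refine this.subset ?_
  intro μ hμ
  exact (mult_ne_zero_iff ρ g μ).mp hμ

/-- trace of anything acting by a scalar `φ μ` on each eigenspace of `ρ g`. -/
theorem trace_eq_finsum_mult (g : G) (T : Module.End ℂ V) (φ : ℂ → ℂ)
    (h : ∀ μ : ℂ, ∀ v ∈ Module.End.eigenspace (ρ g) μ, T v = φ μ • v) :
    LinearMap.trace ℂ V T = ∑ᶠ μ : ℂ, φ μ * (mult ρ g μ : ℂ) :=
  trace_eq_of_scalar_on_eigenspaces (ρ g) T (rho_isSemisimple ρ g) φ h

theorem char_eq_finsum (g : G) : ρ.character g = ∑ᶠ μ : ℂ, μ * (mult ρ g μ : ℂ) := by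
  unfold Representation.character
  apply trace_eq_finsum_mult ρ g (ρ g) id
  intro μ v hv
  exact Module.End.mem_eigenspace_iff.mp hv

theorem finrank_eq_finsum (g : G) : (finrank ℂ V : ℂ) = ∑ᶠ μ : ℂ, (mult ρ g μ : ℂ) := by
  have := trace_eq_finsum_mult ρ g 1 (fun _ => 1) (by intro μ v _; simp)
  simpa using this

theorem char_pow_eq_finsum (g : G) (m : ℕ) :
    ρ.character (g ^ m) = ∑ᶠ μ : ℂ, μ ^ m * (mult ρ g μ : ℂ) := by
  unfold Representation.character
  apply trace_eq_finsum_mult ρ g (ρ (g ^ m)) (fun μ => μ ^ m)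
  intro μ v hv
  rw [Module.End.mem_eigenspace_iff] at hv
  rw [map_pow]
  induction m with
  | zero => simp
  | succ k ih => rw [pow_succ', Module.End.mul_apply, ih, map_smul, hv, smul_smul, pow_succ]

theorem char_inv_eq_finsum (g : G) :
    ρ.character g⁻¹ = ∑ᶠ μ : ℂ, μ⁻¹ * (mult ρ g μ : ℂ) := by
  unfold Representation.character
  apply trace_eq_finsum_mult ρ g (ρ g⁻¹) (fun μ => μ⁻¹)
  intro μ v hv
  by_cases hv0 : v = 0
  · simp [hv0]
  have hne : Module.End.eigenspace (ρ g) μ ≠ ⊥ := by
    intro hb; rw [hb] at hv; exact hv0 ((Submodule.mem_bot ℂ).mp hv)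
  have hμ : μ ≠ 0 := by
    intro h0
    have := eigenvalue_pow_orderOf ρ g μ hne
    rw [h0, zero_pow (orderOf_pos g).ne'] at this
    exact zero_ne_one this
  rw [Module.End.mem_eigenspace_iff] at hv
  have : ρ g⁻¹ (ρ g v) = v := by
    rw [← Module.End.mul_apply, ← map_mul, inv_mul_cancel, map_one, Module.End.one_apply]
  rw [hv, map_smul] at this
  rw [← this, smul_smul, inv_mul_cancel₀ hμ, one_smul] 
  rw [this]

theorem char_inv (g : G) : ρ.character g⁻¹ = conj (ρ.character g) := by
  rw [char_inv_eq_finsum, char_eq_finsum]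
  have hfin := finite_mult_support ρ g
  rw [finsum_eq_sum_of_support_subset (s := hfin.toFinset),
    finsum_eq_sum_of_support_subset (s := hfin.toFinset), map_sum]
  · apply Finset.sum_congr rfl
    intro μ hμ
    have hm : mult ρ g μ ≠ 0 := by simpa using hμ
    have hn := norm_eigenvalue ρ g μ hm
    rw [map_mul, Complex.conj_natCast]
    congr 1
    exact Complex.inv_eq_conj hn
  · intro μ hμ
    simp only [Function.mem_support, ne_eq, mul_eq_zero, not_or] at hμ
    simpa using hμ.2
  · intro μ hμ
    simp only [Function.mem_support, ne_eq, mul_eq_zero, not_or] at hμ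
    simpa using hμ.2

theorem char_isIntegral (g : G) : IsIntegral ℤ (ρ.character g) := by
  rw [char_eq_finsum]
  have hfin := finite_mult_support ρ g
  rw [finsum_eq_sum_of_support_subset (s := hfin.toFinset)]
  · apply IsIntegral.sum
    intro μ hμ
    have hm : mult ρ g μ ≠ 0 := by simpa using hμ
    apply IsIntegral.mul
    · exact IsIntegral.of_pow (orderOf_pos g) (by
        rw [eigenvalue_pow_of_mult_ne_zero ρ g μ hm]; exact isIntegral_one)
    · have := isIntegral_algebraMap (R := ℤ) (A := ℂ) (x := (mult ρ g μ : ℤ))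
      simpa using this
  · intro μ hμ
    simp only [Function.mem_support, ne_eq, mul_eq_zero, not_or] at hμ
    simpa using hμ.2

theorem norm_char_le (g : G) : ‖ρ.character g‖ ≤ (finrank ℂ V : ℝ) := by
  have hfin := finite_mult_support ρ g
  have h1 : (finrank ℂ V : ℝ) = ∑ μ ∈ hfin.toFinset, (mult ρ g μ : ℝ) := by
    have := finrank_eq_finsum ρ g
    rw [finsum_eq_sum_of_support_subset (s := hfin.toFinset)] at this
    · exact_mod_cast this
    · intro μ hμ
      simpa using hμ
  rw [h1, char_eq_finsum, finsum_eq_sum_of_support_subset (s := hfin.toFinset)]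
  · refine (norm_sum_le _ _).trans ?_
    apply Finset.sum_le_sum
    intro μ hμ
    have hm : mult ρ g μ ≠ 0 := by simpa using hμ
    rw [norm_mul, norm_eigenvalue ρ g μ hm, one_mul]
    simp
  · intro μ hμ
    simp only [Function.mem_support, ne_eq, mul_eq_zero, not_or] at hμ
    simpa using hμ.2

theorem eq_smul_id_of_unique_eigenvalue (g : G) (u : ℂ)
    (h : ∀ μ : ℂ, mult ρ g μ ≠ 0 → μ = u) : ρ g = u • (LinearMap.id : V →ₗ[ℂ] V) := by
  have htop := (rho_isSemisimple ρ g).iSup_eigenspace_eq_top
  have hle : (⨆ μ : ℂ, Module.End.eigenspace (ρ g) μ) ≤ Module.End.eigenspace (ρ g) u := by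
    apply iSup_le
    intro μ
    by_cases hm : mult ρ g μ = 0
    · have : Module.End.eigenspace (ρ g) μ = ⊥ := by
        by_contra hne
        exact ((mult_ne_zero_iff ρ g μ).mpr hne) hm
      rw [this]; exact bot_le
    · rw [h μ hm]
  rw [htop] at hle
  ext v
  have : v ∈ Module.End.eigenspace (ρ g) u := hle Submodule.mem_top
  rw [Module.End.mem_eigenspace_iff] at this
  simpa using this

theorem smul_id_pow_orderOf [Nontrivial V] (g : G) (ω : ℂ)
    (h : ρ g = ω • (LinearMap.id : V →ₗ[ℂ] V)) : ω ^ orderOf g = 1 := by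
  obtain ⟨v, hv⟩ := exists_ne (0 : V)
  apply eigenvalue_pow_orderOf ρ g ω
  intro hbot
  have : v ∈ Module.End.eigenspace (ρ g) ω := by
    rw [Module.End.mem_eigenspace_iff, h]; simp
  rw [hbot] at this
  exact hv ((Submodule.mem_bot ℂ).mp this)

theorem norm_char_eq_iff (g : G) :
    ‖ρ.character g‖ = (finrank ℂ V : ℝ) ↔ ∃ ω : ℂ, ρ g = ω • (LinearMap.id : V →ₗ[ℂ] V) := by
  constructor
  · intro hnorm
    rcases Nat.eq_zero_or_pos (finrank ℂ V) with hn | hn
    · have : Subsingleton V := Module.finrank_zero_iff.mp hn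
      exact ⟨0, by ext v; exact Subsingleton.elim _ _⟩
    set n : ℕ := finrank ℂ V with hndef
    have hn0 : (n : ℂ) ≠ 0 := by exact_mod_cast hn.ne'
    set S := ρ.character g with hS
    set u : ℂ := S / n with hu
    have hun : ‖u‖ = 1 := by
      rw [hu, norm_div, hnorm]; simp [hn.ne']
    refine ⟨u, eq_smul_id_of_unique_eigenvalue ρ g u ?_⟩
    have hfin := finite_mult_support ρ g
    have hSsum : S = ∑ μ ∈ hfin.toFinset, μ * (mult ρ g μ : ℂ) := by
      rw [hS, char_eq_finsum, finsum_eq_sum_of_support_subset (s := hfin.toFinset)]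
      intro μ hμ
      simp only [Function.mem_support, ne_eq, mul_eq_zero, not_or] at hμ
      simpa using hμ.2
    have hnsum : (n : ℝ) = ∑ μ ∈ hfin.toFinset, (mult ρ g μ : ℝ) := by
      have := finrank_eq_finsum ρ g
      rw [finsum_eq_sum_of_support_subset (s := hfin.toFinset)] at this
      · exact_mod_cast this
      · intro μ hμ
        simpa using hμ
    -- real part computation
    have h1 : (conj u * S).re = n := by
      have : conj u * S = (n : ℂ) * (conj u * u) := by rw [hu]; field_simp
      rw [this, Complex.conj_mul', hun]; simp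
    have h2 : (conj u * S).re = ∑ μ ∈ hfin.toFinset, (mult ρ g μ : ℝ) * (conj u * μ).re := by
      rw [hSsum, Finset.mul_sum, Complex.re_sum]
      apply Finset.sum_congr rfl
      intro μ _
      have : conj u * (μ * (mult ρ g μ : ℂ)) = ((mult ρ g μ : ℝ) : ℂ) * (conj u * μ) := by
        push_cast; ring
      rw [this, Complex.re_ofReal_mul]
    have hle : ∀ μ ∈ hfin.toFinset, (mult ρ g μ : ℝ) * (conj u * μ).re ≤ (mult ρ g μ : ℝ) := by
      intro μ hμ
      have hm : mult ρ g μ ≠ 0 := by simpa using hμ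
      have hnμ := norm_eigenvalue ρ g μ hm
      have : (conj u * μ).re ≤ 1 := by
        calc (conj u * μ).re ≤ ‖conj u * μ‖ := Complex.re_le_norm _
          _ = 1 := by rw [norm_mul, Complex.norm_conj, hun, hnμ, one_mul]
      calc (mult ρ g μ : ℝ) * (conj u * μ).re ≤ (mult ρ g μ : ℝ) * 1 := by
            apply mul_le_mul_of_nonneg_left this (Nat.cast_nonneg _)
        _ = _ := mul_one _
    have heq : ∑ μ ∈ hfin.toFinset, (mult ρ g μ : ℝ) * (conj u * μ).re
        = ∑ μ ∈ hfin.toFinset, (mult ρ g μ : ℝ) := by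
      rw [← h2, h1, hnsum]
    have hall := (Finset.sum_eq_sum_iff_of_le hle).mp heq
    intro μ hm
    have hμmem : μ ∈ hfin.toFinset := by simpa using hm
    have h3 := hall μ hμmem
    have hmpos : (0 : ℝ) < mult ρ g μ := by exact_mod_cast Nat.pos_of_ne_zero hm
    have hre : (conj u * μ).re = 1 := by
      have : (mult ρ g μ : ℝ) * (conj u * μ).re = (mult ρ g μ : ℝ) * 1 := by rw [h3, mul_one]
      exact mul_left_cancel₀ hmpos.ne' this
    have hnμ := norm_eigenvalue ρ g μ hm
    have hnorm1 : ‖conj u * μ‖ = 1 := by rw [norm_mul, Complex.norm_conj, hun, hnμ, one_mul]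
    have hone : conj u * μ = 1 := by
      apply Complex.ext
      · simpa using hre
      · have hsq := Complex.sq_norm (conj u * μ)
        rw [hnorm1, Complex.normSq_apply, hre] at hsq
        have : (conj u * μ).im * (conj u * μ).im = 0 := by linarith
        simpa using mul_self_eq_zero.mp this
    have hu0 : u ≠ 0 := by
      intro h0; rw [h0] at hun; simp at hun
    calc μ = (u * conj u) * μ := by rw [Complex.mul_conj, Complex.normSq_eq_norm_sq, hun]; simp
      _ = u * (conj u * μ) := by ring
      _ = u := by rw [hone, mul_one]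
  · rintro ⟨ω, hω⟩
    rcases Nat.eq_zero_or_pos (finrank ℂ V) with hn | hn
    · have : Subsingleton V := Module.finrank_zero_iff.mp hn
      have h0 : ρ.character g = 0 := by
        unfold Representation.character
        have : ρ g = 0 := by ext v; exact Subsingleton.elim _ _
        rw [this, map_zero]
      rw [h0, hn]; simp
    · have : Nontrivial V := Module.finrank_pos_iff.mp hn
      have hω1 := smul_id_pow_orderOf ρ g ω hω
      have hnω : ‖ω‖ = 1 := Complex.norm_eq_one_of_pow_eq_one hω1 (orderOf_pos g).ne'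
      unfold Representation.character
      rw [hω, map_smul, LinearMap.trace_id, norm_smul, hnω, one_mul]
      simp

theorem char_eq_finrank_iff (g : G) :
    ρ.character g = (finrank ℂ V : ℂ) ↔ ρ g = LinearMap.id := by
  constructor
  · intro h
    rcases Nat.eq_zero_or_pos (finrank ℂ V) with hn | hn
    · have : Subsingleton V := Module.finrank_zero_iff.mp hn
      ext v; exact Subsingleton.elim _ _
    have hnorm : ‖ρ.character g‖ = (finrank ℂ V : ℝ) := by rw [h]; simp
    obtain ⟨ω, hω⟩ := (norm_char_eq_iff ρ g).mp hnorm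
    have hc : ρ.character g = ω * (finrank ℂ V : ℂ) := by
      unfold Representation.character
      rw [hω, map_smul, LinearMap.trace_id]; simp
    rw [hc] at h
    have hn0 : (finrank ℂ V : ℂ) ≠ 0 := by exact_mod_cast hn.ne'
    have : ω = 1 := by
      have := mul_right_cancel₀ hn0 (h.trans (one_mul _).symm)
      exact this
    rw [hω, this, one_smul]
  · intro h
    unfold Representation.character
    rw [h]; simp

end Rep

end Cfsg.Agent.Helper3
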