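import Mathlib
import Cfsg.Prelude.Def_Characters
import Cfsg.Agent.Lib.Helper3.Spectral

set_option autoImplicit false
set_option linter.unusedSectionVars false

namespace Cfsg.Agent.Helper3

open Module Representation

section Transport

variable {k G V W : Type*} [Field k] [Monoid G] [AddCommGroup V] [Module k V]
  [AddCommGroup W] [Module k W] {ρ : Representation k G V} {σ : Representation k G W}

/-- pull back a subrepresentation along an equivalence -/
def subrepComap (φ : Representation.Equiv ρ σ) (S : Subrepresentation σ) : Subrepresentation ρ where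
  toSubmodule := S.toSubmodule.comap φ.toLinearMap
  apply_mem_toSubmodule g v hv := by
    simp only [Submodule.mem_comap] at hv ⊢
    have h2 : φ.toLinearMap (ρ g v) = σ g (φ.toLinearMap v) :=
      IntertwiningMap.isIntertwining ρ σ φ.toIntertwiningMap g v
    rw [h2]
    exact S.apply_mem_toSubmodule g hv

theorem mem_subrepComap (φ : Representation.Equiv ρ σ) (S : Subrepresentation σ) (v : V) :
    v ∈ subrepComap φ S ↔ φ v ∈ S := Iff.rfl

/-- order isomorphism of subrepresentation lattices induced by an equivalence -/
def subrepOrderIso (φ : Representation.Equiv ρ σ) : Subrepresentation σ ≃o Subrepresentation ρ where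
  toFun := subrepComap φ
  invFun := subrepComap φ.symm
  left_inv S := by
    ext v
    change v ∈ subrepComap φ.symm (subrepComap φ S) ↔ v ∈ S
    rw [mem_subrepComap, mem_subrepComap, Representation.Equiv.apply_symm_apply]
  right_inv S := by
    ext v
    change v ∈ subrepComap φ (subrepComap φ.symm S) ↔ v ∈ S
    rw [mem_subrepComap, mem_subrepComap, Representation.Equiv.symm_apply_apply]
  map_rel_iff' := by
    intro S T
    change subrepComap φ S ≤ subrepComap φ T ↔ S ≤ T
    constructor
    · intro h w hw
      have := h (show φ.symm w ∈ subrepComap φ S by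
        rw [mem_subrepComap, Representation.Equiv.apply_symm_apply]; exact hw)
      rw [mem_subrepComap, Representation.Equiv.apply_symm_apply] at this
      exact this
    · intro h v hv
      exact h hv

theorem isIrreducible_of_equiv (φ : Representation.Equiv ρ σ) [hρ : ρ.IsIrreducible] :
    σ.IsIrreducible :=
  (OrderIso.isSimpleOrder_iff (subrepOrderIso φ)).mpr hρ

end Transport

section Coord

universe u
variable {G : Type u} [Group G] {V : Type*} [AddCommGroup V] [Module ℂ V] [FiniteDimensional ℂ V]

/-- the representation transported to coordinates -/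
noncomputable def coordRep (ρ : Representation ℂ G V) :
    Representation ℂ G (Fin (finrank ℂ V) → ℂ) where
  toFun g := (Module.finBasis ℂ V).equivFun.conj (ρ g)
  map_one' := by
    rw [map_one]
    exact LinearEquiv.conj_id _
  map_mul' x y := by
    rw [map_mul]
    exact LinearEquiv.conj_comp _ _ _

noncomputable def coordEquiv (ρ : Representation ℂ G V) : Representation.Equiv ρ (coordRep ρ) :=
  Representation.Equiv.mk (Module.finBasis ℂ V).equivFun (by
    intro g; ext v
    simp [coordRep, LinearEquiv.conj_apply])

theorem isCharacter_of_rep (ρ : Representation ℂ G V) : Cfsg.IsCharacter G ρ.character :=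
  ⟨_, coordRep ρ, (Representation.char_iso (coordEquiv ρ)).symm⟩

theorem isIrrCharacter_of_rep (ρ : Representation ℂ G V) [ρ.IsIrreducible] :
    Cfsg.IsIrrCharacter G ρ.character :=
  ⟨_, coordRep ρ, isIrreducible_of_equiv (coordEquiv ρ), (Representation.char_iso (coordEquiv ρ)).symm⟩

end Coord

section Inner

open scoped ComplexConjugate

universe u
variable {G : Type u} [Group G] [Fintype G]

theorem classInner_add_left (φ₁ φ₂ ψ : G → ℂ) :
    Cfsg.classInner (φ₁ + φ₂) ψ = Cfsg.classInner φ₁ ψ + Cfsg.classInner φ₂ ψ := by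
  simp only [Cfsg.classInner, Pi.add_apply, add_mul, Finset.sum_add_distrib, mul_add]

theorem classInner_smul_left (c : ℂ) (φ ψ : G → ℂ) :
    Cfsg.classInner (c • φ) ψ = c * Cfsg.classInner φ ψ := by
  simp only [Cfsg.classInner, Pi.smul_apply, smul_eq_mul, Finset.mul_sum]
  apply Finset.sum_congr rfl; intro g _; ring

theorem classInner_zero_left (ψ : G → ℂ) : Cfsg.classInner (0 : G → ℂ) ψ = 0 := by
  simp [Cfsg.classInner]

theorem classInner_sum_left {ι : Type*} (s : Finset ι) (φ : ι → G → ℂ) (ψ : G → ℂ) :
    Cfsg.classInner (∑ i ∈ s, φ i) ψ = ∑ i ∈ s, Cfsg.classInner (φ i) ψ := by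
  classical
  induction s using Finset.induction_on with
  | empty => simp [classInner_zero_left]
  | insert a s ha ih => rw [Finset.sum_insert ha, Finset.sum_insert ha, classInner_add_left, ih]

theorem classInner_sub_left (φ₁ φ₂ ψ : G → ℂ) :
    Cfsg.classInner (φ₁ - φ₂) ψ = Cfsg.classInner φ₁ ψ - Cfsg.classInner φ₂ ψ := by
  simp only [Cfsg.classInner, Pi.sub_apply, sub_mul, Finset.sum_sub_distrib, mul_sub]

theorem classInner_conj_symm (φ ψ : G → ℂ) :
    conj (Cfsg.classInner φ ψ) = Cfsg.classInner ψ φ := by
  simp only [Cfsg.classInner, map_mul, map_inv₀, Complex.conj_natCast, map_sum, Complex.conj_conj]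
  congr 1
  apply Finset.sum_congr rfl; intro g _; ring

theorem classInner_add_right (φ ψ₁ ψ₂ : G → ℂ) :
    Cfsg.classInner φ (ψ₁ + ψ₂) = Cfsg.classInner φ ψ₁ + Cfsg.classInner φ ψ₂ := by
  simp only [Cfsg.classInner, Pi.add_apply, map_add, mul_add, Finset.sum_add_distrib]

theorem classInner_smul_right (c : ℂ) (φ ψ : G → ℂ) :
    Cfsg.classInner φ (c • ψ) = conj c * Cfsg.classInner φ ψ := by
  simp only [Cfsg.classInner, Pi.smul_apply, smul_eq_mul, map_mul, Finset.mul_sum]
  apply Finset.sum_congr rfl; intro g _; ring

theorem classInner_zero_right (φ : G → ℂ) : Cfsg.classInner φ (0 : G → ℂ) = 0 := by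
  simp [Cfsg.classInner]

theorem classInner_sum_right {ι : Type*} (s : Finset ι) (φ : G → ℂ) (ψ : ι → G → ℂ) :
    Cfsg.classInner φ (∑ i ∈ s, ψ i) = ∑ i ∈ s, Cfsg.classInner φ (ψ i) := by
  classical
  induction s using Finset.induction_on with
  | empty => simp [classInner_zero_right]
  | insert a s ha ih => rw [Finset.sum_insert ha, Finset.sum_insert ha, classInner_add_right, ih]

variable {V W : Type*} [AddCommGroup V] [Module ℂ V] [FiniteDimensional ℂ V]
  [AddCommGroup W] [Module ℂ W] [FiniteDimensional ℂ W]

theorem card_ne_zero_complex : (Nat.card G : ℂ) ≠ 0 := by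
  exact_mod_cast Nat.card_pos.ne'

open scoped Classical in
theorem classInner_char_irr (ρ : Representation ℂ G V) (σ : Representation ℂ G W)
    [ρ.IsIrreducible] [σ.IsIrreducible] :
    Cfsg.classInner ρ.character σ.character
      = if Nonempty (Representation.Equiv σ ρ) then 1 else 0 := by
  classical
  have : Invertible (Nat.card G : ℂ) := invertibleOfNonzero card_ne_zero_complex
  have := Representation.char_orthonormal ρ σ
  unfold Cfsg.classInner
  simp only [← char_inv]
  convert this using 2

/-- the inner product of characters is the dimension of the space of intertwining maps -/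
theorem classInner_char_eq_finrank (ρ : Representation ℂ G V) (σ : Representation ℂ G W) :
    Cfsg.classInner σ.character ρ.character = (finrank ℂ (IntertwiningMap ρ σ) : ℂ) := by
  have : Invertible (Nat.card G : ℂ) := invertibleOfNonzero card_ne_zero_complex
  have := Representation.card_inv_mul_sum_char_mul_char_eq_finrank ρ σ
  unfold Cfsg.classInner
  simp only [← char_inv]
  exact this

theorem classInner_irr_self {χ : G → ℂ} (hχ : Cfsg.IsIrrCharacter G χ) :
    Cfsg.classInner χ χ = 1 := by
  obtain ⟨n, ρ, hirr, rfl⟩ := hχ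
  rw [classInner_char_irr ρ ρ, if_pos ⟨Representation.Equiv.refl ρ⟩]

theorem classInner_irr_ne {χ ψ : G → ℂ} (hχ : Cfsg.IsIrrCharacter G χ)
    (hψ : Cfsg.IsIrrCharacter G ψ) (hne : χ ≠ ψ) : Cfsg.classInner χ ψ = 0 := by
  obtain ⟨n, ρ, hirr, rfl⟩ := hχ
  obtain ⟨m, σ, hirr', rfl⟩ := hψ
  rw [classInner_char_irr ρ σ, if_neg]
  rintro ⟨φ⟩
  exact hne (Representation.char_iso φ).symm

theorem classInner_irr (χ ψ : Cfsg.IrrCharacter G) [Decidable (χ = ψ)] :
    Cfsg.classInner (χ : G → ℂ) (ψ : G → ℂ) = if χ = ψ then 1 else 0 := by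
  split_ifs with h
  · rw [h]; exact classInner_irr_self ψ.2
  · exact classInner_irr_ne χ.2 ψ.2 (fun h' => h (Subtype.ext h'))

theorem linearIndependent_irr :
    LinearIndependent ℂ (fun χ : Cfsg.IrrCharacter G => (χ : G → ℂ)) := by
  classical
  rw [linearIndependent_iff']
  intro s c hc ψ hψ
  have h1 : Cfsg.classInner (∑ i ∈ s, c i • (i : G → ℂ)) (ψ : G → ℂ) = 0 := by
    rw [hc, classInner_zero_left]
  rw [classInner_sum_left] at h1
  simp only [classInner_smul_left, classInner_irr] at h1
  rw [Finset.sum_eq_single ψ] at h1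
  · simpa using h1
  · intro b _ hb; simp [hb]
  · intro h; exact absurd hψ h

instance finite_irr : Finite (Cfsg.IrrCharacter G) := by
  have := (linearIndependent_irr (G := G)).finite
  exact this

end Inner

end Cfsg.Agent.Helper3
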