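import Mathlib
import Cfsg.Prelude.Def_Characters
import Cfsg.Agent.Lib.Helper3.CharBasic

set_option autoImplicit false
set_option linter.unusedSectionVars false

namespace Cfsg.Agent.Helper3

open Module Representation

section OpSum

open scoped ComplexConjugate

universe u
variable {G : Type u} [Group G] [Fintype G]
variable {V : Type*} [AddCommGroup V] [Module ℂ V]

/-- the operator `∑ g, f g • ρ g` -/
noncomputable def opSum (ρ : Representation ℂ G V) (f : G → ℂ) : Module.End ℂ V :=
  ∑ g, f g • ρ g

theorem opSum_apply (ρ : Representation ℂ G V) (f : G → ℂ) (v : V) :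
    opSum ρ f v = ∑ g, f g • ρ g v := by
  simp [opSum, LinearMap.sum_apply]

theorem opSum_comm (ρ : Representation ℂ G V) (f : G → ℂ) (hf : Cfsg.IsClassFunction G f) (h : G) :
    opSum ρ f ∘ₗ ρ h = ρ h ∘ₗ opSum ρ f := by
  ext v
  simp only [LinearMap.comp_apply, opSum_apply, map_sum, map_smul]
  refine Fintype.sum_equiv (MulAut.conj h⁻¹).toEquiv _ _ ?_
  intro g
  simp only [MulEquiv.toEquiv_eq_coe, MulEquiv.coe_toEquiv, MulAut.conj_apply, inv_inv]
  have h1 : f (h⁻¹ * g * h) = f g := by
    have := hf g h⁻¹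
    simpa using this
  rw [h1, ← Module.End.mul_apply, ← Module.End.mul_apply, ← map_mul, ← map_mul]
  congr 3
  group

theorem trace_opSum [FiniteDimensional ℂ V] (ρ : Representation ℂ G V) (f : G → ℂ) :
    LinearMap.trace ℂ V (opSum ρ f) = ∑ g, f g * ρ.character g := by
  simp [opSum, map_sum, Representation.character]

theorem nontrivial_of_irr (ρ : Representation ℂ G V) [hρ : ρ.IsIrreducible] : Nontrivial V := by
  by_contra hV
  rw [not_nontrivial_iff_subsingleton] at hV
  have : (⊥ : Subrepresentation ρ) = ⊤ := by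
    ext v
    have : v = 0 := Subsingleton.elim _ _
    constructor
    · intro _; exact Submodule.mem_top
    · intro _; rw [this]; exact Submodule.zero_mem _
  exact bot_ne_top this

theorem opSum_eq_zero_of_irr [FiniteDimensional ℂ V] (ρ : Representation ℂ G V) [ρ.IsIrreducible]
    (f : G → ℂ) (hf : Cfsg.IsClassFunction G f) (h0 : ∑ g, f g * ρ.character g = 0) :
    opSum ρ f = 0 := by
  let I : IntertwiningMap ρ ρ := ⟨opSum ρ f, fun h => opSum_comm ρ f hf h⟩
  obtain ⟨c, hc⟩ := (IsIrreducible.algebraMap_intertwiningMap_bijective_of_isAlgClosed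
    (ρ := ρ)).2 I
  have hI : opSum ρ f = c • (1 : Module.End ℂ V) := by
    have := congrArg IntertwiningMap.toLinearMap hc
    rw [IntertwiningMap.algebraMap_apply] at this
    rw [show I.toLinearMap = opSum ρ f from rfl] at this
    rw [← this]
    rfl
  have htr := trace_opSum ρ f
  rw [h0, hI, map_smul, LinearMap.trace_one] at htr
  have hV := nontrivial_of_irr ρ
  have hpos : (finrank ℂ V : ℂ) ≠ 0 := by
    exact_mod_cast (Module.finrank_pos (R := ℂ) (M := V)).ne'
  have : c = 0 := by
    rcases mul_eq_zero.mp htr with h | h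
    · exact h
    · exact absurd h hpos
  rw [hI, this, zero_smul]

theorem opSum_toRepresentation (ρ : Representation ℂ G V) (S : Subrepresentation ρ) (f : G → ℂ)
    (v : S.toSubmodule) : ((opSum S.toRepresentation f v : S.toSubmodule) : V) = opSum ρ f v := by
  rw [opSum_apply, opSum_apply, Submodule.coe_sum]
  rfl

theorem opSum_eq_zero_aux (f : G → ℂ) (hf : Cfsg.IsClassFunction G f)
    (h0 : ∀ χ, Cfsg.IsIrrCharacter G χ → ∑ g, f g * χ g = 0) :
    ∀ (n : ℕ) (V : Type u) [AddCommGroup V] [Module ℂ V] [FiniteDimensional ℂ V]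
      (ρ : Representation ℂ G V), finrank ℂ V = n → opSum ρ f = 0 := by
  intro n
  induction n using Nat.strong_induction_on with
  | _ n ih =>
    intro V _ _ _ ρ hn
    by_cases hV : Subsingleton V
    · ext v; exact Subsingleton.elim _ _
    rw [not_subsingleton_iff_nontrivial] at hV
    by_cases hirr : ρ.IsIrreducible
    · exact opSum_eq_zero_of_irr ρ f hf (h0 _ (isIrrCharacter_of_rep ρ))
    · have hbt : (⊥ : Subrepresentation ρ) ≠ ⊤ := by
        intro h
        obtain ⟨v, hv⟩ := exists_ne (0 : V)
        have h1 : v ∈ (⊤ : Subrepresentation ρ) := Submodule.mem_top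
        rw [← h] at h1
        exact hv ((Submodule.mem_bot ℂ).mp h1)
      have hnt : Nontrivial (Subrepresentation ρ) := ⟨⟨⊥, ⊤, hbt⟩⟩
      obtain ⟨S, hS0, hS1⟩ : ∃ S : Subrepresentation ρ, S ≠ ⊥ ∧ S ≠ ⊤ := by
        by_contra hcon
        push Not at hcon
        apply hirr
        exact ⟨fun S => by
          by_cases h : S = ⊥
          · left; exact h
          · right; exact hcon S h⟩
      have hcard : (Nat.card G : ℂ) ≠ 0 := card_ne_zero_complex
      have : NeZero (Nat.card G : ℂ) := ⟨hcard⟩
      obtain ⟨S', hcompl⟩ := exists_isCompl S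
      have hS'1 : S' ≠ ⊤ := by
        intro h
        apply hS0
        have := hcompl.inf_eq_bot
        rw [h, inf_top_eq] at this
        exact this
      have hlt : ∀ T : Subrepresentation ρ, T ≠ ⊤ → finrank ℂ T.toSubmodule < n := by
        intro T hT
        rw [← hn]
        apply Submodule.finrank_lt
        intro h
        apply hT
        apply Subrepresentation.toSubmodule_injective
        exact h
      have hS := ih _ (hlt S hS1) S.toSubmodule S.toRepresentation rfl
      have hS' := ih _ (hlt S' hS'1) S'.toSubmodule S'.toRepresentation rfl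
      ext v
      have hv : v ∈ (S ⊔ S').toSubmodule := by
        rw [hcompl.sup_eq_top]; exact Submodule.mem_top
      rw [Subrepresentation.toSubmodule_sup, Submodule.mem_sup] at hv
      obtain ⟨s, hs, s', hs', rfl⟩ := hv
      rw [map_add]
      have e1 := opSum_toRepresentation ρ S f ⟨s, hs⟩
      have e2 := opSum_toRepresentation ρ S' f ⟨s', hs'⟩
      rw [hS] at e1
      rw [hS'] at e2
      simp only [LinearMap.zero_apply, ZeroMemClass.coe_zero] at e1 e2
      rw [← e1, ← e2]; simp

/-- a class function orthogonal to all irreducible characters vanishes -/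
theorem eq_zero_of_forall_sum_mul_irr_eq_zero (f : G → ℂ) (hf : Cfsg.IsClassFunction G f)
    (h0 : ∀ χ, Cfsg.IsIrrCharacter G χ → ∑ g, f g * χ g = 0) : f = 0 := by
  classical
  have h := opSum_eq_zero_aux f hf h0 _ (MonoidAlgebra ℂ G) (Representation.leftRegular ℂ G) rfl
  have h1 := congrArg (fun T => T (MonoidAlgebra.single (1 : G) (1 : ℂ))) h
  simp only [opSum_apply, LinearMap.zero_apply] at h1
  funext x
  have h2 := congrArg (fun z => z.coeff x) h1
  simp only [Representation.ofMulAction_single, smul_eq_mul, mul_one] at h2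
  simpa [MonoidAlgebra.coeff_sum, Finsupp.single_apply] using h2

end OpSum

section Expand

open scoped ComplexConjugate

universe u
variable {G : Type u} [Group G] [Fintype G]

theorem isClassFunction_of_isCharacter {χ : G → ℂ} (hχ : Cfsg.IsCharacter G χ) :
    Cfsg.IsClassFunction G χ := by
  obtain ⟨n, ρ, rfl⟩ := hχ
  intro g h
  exact Representation.char_conj ρ g h

theorem isCharacter_of_isIrrCharacter {χ : G → ℂ} (hχ : Cfsg.IsIrrCharacter G χ) :
    Cfsg.IsCharacter G χ := by
  obtain ⟨n, ρ, _, rfl⟩ := hχ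
  exact ⟨n, ρ, rfl⟩

theorem isClassFunction_of_isIrrCharacter {χ : G → ℂ} (hχ : Cfsg.IsIrrCharacter G χ) :
    Cfsg.IsClassFunction G χ :=
  isClassFunction_of_isCharacter (isCharacter_of_isIrrCharacter hχ)

theorem isCharacter_inv {χ : G → ℂ} (hχ : Cfsg.IsCharacter G χ) (g : G) :
    χ g⁻¹ = conj (χ g) := by
  obtain ⟨n, ρ, rfl⟩ := hχ
  exact char_inv ρ g

theorem IsClassFunction.add {φ ψ : G → ℂ} (hφ : Cfsg.IsClassFunction G φ)
    (hψ : Cfsg.IsClassFunction G ψ) : Cfsg.IsClassFunction G (φ + ψ) := by
  intro g h; simp [hφ g h, hψ g h]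

theorem IsClassFunction.sub {φ ψ : G → ℂ} (hφ : Cfsg.IsClassFunction G φ)
    (hψ : Cfsg.IsClassFunction G ψ) : Cfsg.IsClassFunction G (φ - ψ) := by
  intro g h; simp [hφ g h, hψ g h]

theorem IsClassFunction.smul {φ : G → ℂ} (c : ℂ) (hφ : Cfsg.IsClassFunction G φ) :
    Cfsg.IsClassFunction G (c • φ) := by
  intro g h; simp [hφ g h]

theorem IsClassFunction.zero : Cfsg.IsClassFunction G (0 : G → ℂ) := by
  intro g h; simp

theorem IsClassFunction.sum {ι : Type*} (s : Finset ι) (φ : ι → G → ℂ)
    (h : ∀ i ∈ s, Cfsg.IsClassFunction G (φ i)) : Cfsg.IsClassFunction G (∑ i ∈ s, φ i) := by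
  classical
  induction s using Finset.induction_on with
  | empty => simpa using IsClassFunction.zero
  | insert a s ha ih =>
    rw [Finset.sum_insert ha]
    exact IsClassFunction.add (h a (Finset.mem_insert_self a s))
      (ih (fun i hi => h i (Finset.mem_insert_of_mem hi)))

/-- a class function with zero inner product with all irreducible characters is zero -/
theorem eq_zero_of_classInner_irr_eq_zero (ψ : G → ℂ) (hψ : Cfsg.IsClassFunction G ψ)
    (h0 : ∀ χ, Cfsg.IsIrrCharacter G χ → Cfsg.classInner ψ χ = 0) : ψ = 0 := by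
  have hf : Cfsg.IsClassFunction G (fun g => ψ g⁻¹) := by
    intro g h
    have := hψ g⁻¹ h
    simpa [mul_assoc] using this
  have := eq_zero_of_forall_sum_mul_irr_eq_zero (fun g => ψ g⁻¹) hf (by
    intro χ hχ
    have h1 := h0 χ hχ
    unfold Cfsg.classInner at h1
    have h2 : ∑ g, ψ g * conj (χ g) = 0 := by
      rcases mul_eq_zero.mp h1 with h | h
      · exact absurd (inv_eq_zero.mp h) card_ne_zero_complex
      · exact h
    rw [← h2]
    refine Fintype.sum_equiv (Equiv.inv G) _ _ ?_
    intro g
    simp only [Equiv.inv_apply]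
    rw [isCharacter_inv (isCharacter_of_isIrrCharacter hχ), Complex.conj_conj])
  funext g
  have := congrFun this g⁻¹
  simpa using this

noncomputable instance fintypeIrr : Fintype (Cfsg.IrrCharacter G) := Fintype.ofFinite _

/-- expansion of a class function in irreducible characters -/
theorem classFunction_eq_sum (ψ : G → ℂ) (hψ : Cfsg.IsClassFunction G ψ) :
    ψ = ∑ χ : Cfsg.IrrCharacter G, Cfsg.classInner ψ χ • (χ : G → ℂ) := by
  classical
  have h := eq_zero_of_classInner_irr_eq_zero
    (ψ - ∑ χ : Cfsg.IrrCharacter G, Cfsg.classInner ψ χ • (χ : G → ℂ)) ?_ ?_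
  · exact sub_eq_zero.mp h
  · apply IsClassFunction.sub hψ
    apply IsClassFunction.sum
    intro χ _
    exact IsClassFunction.smul _ (isClassFunction_of_isIrrCharacter χ.2)
  · intro ξ hξ
    rw [classInner_sub_left, classInner_sum_left]
    simp only [classInner_smul_left]
    rw [Finset.sum_eq_single (⟨ξ, hξ⟩ : Cfsg.IrrCharacter G)]
    · rw [classInner_irr_self hξ]; simp
    · intro b _ hb
      rw [classInner_irr_ne b.2 hξ (fun h => hb (Subtype.ext h)), mul_zero]
    · intro h; exact absurd (Finset.mem_univ _) h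

theorem classFunction_eq_finsum (ψ : G → ℂ) (hψ : Cfsg.IsClassFunction G ψ) :
    ψ = ∑ᶠ χ : Cfsg.IrrCharacter G, Cfsg.classInner ψ χ • (χ : G → ℂ) := by
  rw [finsum_eq_sum_of_fintype]
  exact classFunction_eq_sum ψ hψ

end Expand

end Cfsg.Agent.Helper3
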