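import Mathlib
import Cfsg.Prelude.Def_Characters
import Cfsg.Agent.Lib.Helper3.CharComplete

set_option autoImplicit false
set_option linter.unusedSectionVars false

namespace Cfsg.Agent.Helper3

open Module Representation

section Counting

universe u
variable {G : Type u} [Group G] [Finite G]

theorem card_conj_mul_card_centralizer (g : G) :
    Nat.card {x : G // IsConj g x} * Nat.card (Subgroup.centralizer ({g} : Set G)) = Nat.card G := by
  rw [Subgroup.nat_card_centralizer_nat_card_stabilizer]
  have e := MulAction.orbitProdStabilizerEquivGroup (ConjAct G) g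
  have h1 := Nat.card_congr e
  rw [Nat.card_prod] at h1
  have h2 : Nat.card (MulAction.orbit (ConjAct G) g) = Nat.card {x : G // IsConj g x} := by
    apply Nat.card_congr
    apply Equiv.subtypeEquivRight
    intro x
    rw [ConjAct.mem_orbit_conjAct, isConj_comm]
  rw [← h2, h1]
  exact Nat.card_congr ConjAct.ofConjAct.toEquiv

theorem mem_centralizer_singleton_iff' (g x : G) :
    x ∈ Subgroup.centralizer ({g} : Set G) ↔ Commute g x := by
  rw [Subgroup.mem_centralizer_iff]
  simp only [Set.mem_singleton_iff, forall_eq]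
  exact Iff.rfl

theorem sum_card_centralizer [Fintype G] :
    ∑ g : G, Nat.card (Subgroup.centralizer ({g} : Set G)) = Nat.card (ConjClasses G) * Nat.card G := by
  classical
  rw [← card_comm_eq_card_conjClasses_mul_card]
  rw [Nat.card_congr (Equiv.subtypeProdEquivSigmaSubtype (fun a b : G => Commute a b))]
  rw [Nat.card_sigma]
  apply Finset.sum_congr rfl
  intro g _
  apply Nat.card_congr
  apply Equiv.subtypeEquivRight
  intro x
  exact mem_centralizer_singleton_iff' g x

end Counting

section Column

open scoped ComplexConjugate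

universe u
variable {G : Type u} [Group G] [Fintype G]

open scoped Classical in
/-- sum of a class function over a conjugacy class -/
theorem sum_ite_isConj (F : G → ℂ) (hF : Cfsg.IsClassFunction G F) (g : G) :
    ∑ x : G, (if IsConj g x then F x else 0) = (Nat.card {x : G // IsConj g x} : ℂ) * F g := by
  have h1 : ∀ x : G, (if IsConj g x then F x else 0) = (if IsConj g x then F g else 0) := by
    intro x
    split_ifs with h
    · obtain ⟨c, hc⟩ := isConj_iff.mp h
      rw [← hc]; exact hF g c
    · rfl
  simp_rw [h1]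
  rw [← Finset.sum_filter, Finset.sum_const, nsmul_eq_mul]
  congr 2
  rw [Nat.card_eq_fintype_card, Fintype.card_subtype]

open scoped Classical in
theorem isClassFunction_indicator (g : G) :
    Cfsg.IsClassFunction G (fun x => if IsConj g x then (1 : ℂ) else 0) := by
  intro x h
  have : IsConj g (h * x * h⁻¹) ↔ IsConj g x := by
    constructor
    · intro h1
      exact h1.trans (isConj_iff.mpr ⟨h⁻¹, by group⟩)
    · intro h1
      exact h1.trans (isConj_iff.mpr ⟨h, rfl⟩)
  simp only [this]

open scoped Classical in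
theorem column_orthogonality (g h : G) :
    ∑ χ : Cfsg.IrrCharacter G, (χ : G → ℂ) g * conj ((χ : G → ℂ) h)
      = if IsConj g h then (Nat.card (Subgroup.centralizer ({g} : Set G)) : ℂ) else 0 := by
  set δ : G → ℂ := fun x => if IsConj g x then (1 : ℂ) else 0 with hδ
  have hδc : Cfsg.IsClassFunction G δ := isClassFunction_indicator g
  set N : ℕ := Nat.card {x : G // IsConj g x} with hN
  set C : ℕ := Nat.card (Subgroup.centralizer ({g} : Set G)) with hC
  have hNC : (N : ℂ) * (C : ℂ) = (Nat.card G : ℂ) := by
    exact_mod_cast card_conj_mul_card_centralizer g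
  have hinner : ∀ χ : Cfsg.IrrCharacter G,
      Cfsg.classInner δ χ = (Nat.card G : ℂ)⁻¹ * ((N : ℂ) * conj ((χ : G → ℂ) g)) := by
    intro χ
    unfold Cfsg.classInner
    congr 1
    have := sum_ite_isConj (fun x => conj ((χ : G → ℂ) x)) (by
      intro x y
      simp only
      rw [isClassFunction_of_isIrrCharacter χ.2 x y]) g
    rw [← this]
    apply Finset.sum_congr rfl
    intro x _
    simp only [hδ]
    split_ifs <;> simp
  have hexp := congrFun (classFunction_eq_sum δ hδc) h
  rw [Finset.sum_apply] at hexp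
  simp only [Pi.smul_apply, smul_eq_mul, hinner] at hexp
  have hG : (Nat.card G : ℂ) ≠ 0 := card_ne_zero_complex
  have hC0 : (C : ℂ) ≠ 0 := by
    intro h0; rw [h0, mul_zero] at hNC; exact hG hNC.symm
  have hN0 : (N : ℂ) ≠ 0 := by
    intro h0; rw [h0, zero_mul] at hNC; exact hG hNC.symm
  have hconj := congrArg conj hexp
  rw [map_sum] at hconj
  simp only [map_mul, map_inv₀, Complex.conj_natCast, Complex.conj_conj] at hconj
  have hδh : conj (δ h) = δ h := by
    simp only [hδ]; split_ifs <;> simp
  rw [hδh] at hconj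
  have hsum : ∑ χ : Cfsg.IrrCharacter G, (χ : G → ℂ) g * conj ((χ : G → ℂ) h)
      = (C : ℂ) * δ h := by
    have h2 : δ h = (Nat.card G : ℂ)⁻¹ * (N : ℂ) *
        ∑ χ : Cfsg.IrrCharacter G, (χ : G → ℂ) g * conj ((χ : G → ℂ) h) := by
      rw [hconj, Finset.mul_sum]
      apply Finset.sum_congr rfl
      intro χ _; ring
    rw [h2, ← hNC]
    field_simp
  rw [hsum]
  simp only [hδ]
  split_ifs <;> simp

theorem column_orthogonality_finsum (g h : G) :
    (IsConj g h → ∑ᶠ χ : Cfsg.IrrCharacter G, (χ : G → ℂ) g * conj ((χ : G → ℂ) h)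
      = (Nat.card (Subgroup.centralizer ({g} : Set G)) : ℂ)) ∧
    (¬ IsConj g h → ∑ᶠ χ : Cfsg.IrrCharacter G, (χ : G → ℂ) g * conj ((χ : G → ℂ) h) = 0) := by
  classical
  rw [finsum_eq_sum_of_fintype, column_orthogonality]
  constructor
  · intro h1; rw [if_pos h1]
  · intro h1; rw [if_neg h1]

theorem isConj_iff_forall_irr (g h : G) :
    IsConj g h ↔ ∀ χ : Cfsg.IrrCharacter G, (χ : G → ℂ) g = (χ : G → ℂ) h := by
  classical
  constructor
  · intro hc χ
    obtain ⟨c, hc⟩ := isConj_iff.mp hc
    rw [← hc]
    exact (isClassFunction_of_isIrrCharacter χ.2 g c).symm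
  · intro hall
    by_contra hne
    have h1 := column_orthogonality g h
    rw [if_neg hne] at h1
    have h2 := column_orthogonality h h
    rw [if_pos (IsConj.refl h)] at h2
    simp_rw [hall] at h1
    rw [h1] at h2
    have : (Nat.card (Subgroup.centralizer ({h} : Set G)) : ℂ) ≠ 0 := by
      exact_mod_cast Nat.card_pos.ne'
    exact this h2.symm

theorem irr_one_real (χ : Cfsg.IrrCharacter G) : conj ((χ : G → ℂ) 1) = (χ : G → ℂ) 1 := by
  obtain ⟨n, ρ, _, h⟩ := χ.2
  rw [← h, Representation.char_one]
  simp

theorem sum_sq_degrees :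
    ∑ χ : Cfsg.IrrCharacter G, (χ : G → ℂ) 1 ^ 2 = (Nat.card G : ℂ) := by
  classical
  have h := column_orthogonality (G := G) 1 1
  rw [if_pos (IsConj.refl 1)] at h
  simp_rw [irr_one_real] at h
  have hc : Subgroup.centralizer ({1} : Set G) = ⊤ := by
    ext x
    simp [Subgroup.mem_centralizer_iff]
  rw [hc, Subgroup.card_top] at h
  rw [← h]
  apply Finset.sum_congr rfl
  intro χ _; ring

theorem card_irr_eq_card_conjClasses :
    Nat.card (Cfsg.IrrCharacter G) = Nat.card (ConjClasses G) := by
  classical
  have h1 : ∑ g : G, ∑ χ : Cfsg.IrrCharacter G, (χ : G → ℂ) g * conj ((χ : G → ℂ) g)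
      = ((Nat.card (ConjClasses G) * Nat.card G : ℕ) : ℂ) := by
    rw [← sum_card_centralizer, Nat.cast_sum]
    apply Finset.sum_congr rfl
    intro g _
    rw [column_orthogonality, if_pos (IsConj.refl g)]
  rw [Finset.sum_comm] at h1
  have h2 : ∀ χ : Cfsg.IrrCharacter G, ∑ g : G, (χ : G → ℂ) g * conj ((χ : G → ℂ) g)
      = (Nat.card G : ℂ) := by
    intro χ
    have := classInner_irr_self χ.2
    unfold Cfsg.classInner at this
    have hG : (Nat.card G : ℂ) ≠ 0 := card_ne_zero_complex
    field_simp at this
    exact this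
  simp_rw [h2] at h1
  rw [Finset.sum_const, Finset.card_univ, nsmul_eq_mul] at h1
  have hG : (Nat.card G : ℂ) ≠ 0 := card_ne_zero_complex
  have h3 : ((Fintype.card (Cfsg.IrrCharacter G) : ℕ) : ℂ) = (Nat.card (ConjClasses G) : ℂ) := by
    push_cast at h1
    exact mul_right_cancel₀ hG h1
  rw [Nat.card_eq_fintype_card]
  exact_mod_cast h3

end Column

end Cfsg.Agent.Helper3
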