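import Mathlib
import Cfsg.Prelude.Def_Characters
import Cfsg.Agent.Lib.Helper3.CharOrtho

set_option autoImplicit false
set_option linter.unusedSectionVars false

namespace Cfsg.Agent.Helper3

open Module Representation

section Regular

open scoped ComplexConjugate

universe u
variable {G : Type u} [Group G] [Fintype G]

theorem regular_character_apply [DecidableEq G] (g : G) :
    (Representation.leftRegular ℂ G).character g = if g = 1 then (Nat.card G : ℂ) else 0 := by
  unfold Representation.character
  rw [LinearMap.trace_eq_matrix_trace ℂ (MonoidAlgebra.basis G ℂ), Matrix.trace]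
  simp only [Matrix.diag_apply, LinearMap.toMatrix_apply, MonoidAlgebra.basis_apply,
    Representation.ofMulAction_single, smul_eq_mul]
  have : ∀ i : G, ((MonoidAlgebra.basis G ℂ).repr (MonoidAlgebra.single (g * i) (1 : ℂ))) i
      = if g = 1 then 1 else 0 := by
    intro i
    change (MonoidAlgebra.single (g * i) (1 : ℂ)).coeff i = _
    rw [MonoidAlgebra.coeff_single, Finsupp.single_apply]
    simp
  simp_rw [this]
  split_ifs with h
  · simp [Nat.card_eq_fintype_card]
  · simp

theorem regular_character_eq_sum :
    (Representation.leftRegular ℂ G).character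
      = ∑ χ : Cfsg.IrrCharacter G, (χ : G → ℂ) 1 • (χ : G → ℂ) := by
  classical
  have hcl : Cfsg.IsClassFunction G (Representation.leftRegular ℂ G).character :=
    isClassFunction_of_isCharacter (isCharacter_of_rep _)
  have h := classFunction_eq_sum _ hcl
  conv_lhs => rw [h]
  apply Finset.sum_congr rfl
  intro χ _
  congr 1
  unfold Cfsg.classInner
  simp_rw [regular_character_apply]
  simp only [ite_mul, zero_mul]
  rw [Finset.sum_ite_eq' Finset.univ (1 : G)]
  simp only [Finset.mem_univ, if_true]
  rw [irr_one_real, ← mul_assoc, inv_mul_cancel₀ card_ne_zero_complex, one_mul]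

end Regular

end Cfsg.Agent.Helper3
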