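import Mathlib
import Cfsg.Prelude.Def_Characters
import Cfsg.Agent.Lib.Helper3.CharRegular

set_option autoImplicit false
set_option linter.unusedSectionVars false

namespace Cfsg.Agent.Helper3

open Module Representation

section Closure

open scoped ComplexConjugate

universe u
variable {G : Type u} [Group G]

theorem isCharacter_zero : Cfsg.IsCharacter G (0 : G → ℂ) := by
  refine ⟨0, Representation.trivial ℂ G (Fin 0 → ℂ), ?_⟩
  funext g
  unfold Representation.character
  have : (Representation.trivial ℂ G (Fin 0 → ℂ)) g = 0 := by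
    exact LinearMap.ext fun v => Subsingleton.elim _ _
  rw [this, map_zero]; rfl

theorem isCharacter_one : Cfsg.IsCharacter G (fun _ => (1 : ℂ)) := by
  refine ⟨1, Representation.trivial ℂ G (Fin 1 → ℂ), ?_⟩
  funext g
  unfold Representation.character
  have : (Representation.trivial ℂ G (Fin 1 → ℂ)) g = 1 := rfl
  rw [this, LinearMap.trace_one]
  simp

theorem isCharacter_add {χ ψ : G → ℂ} (hχ : Cfsg.IsCharacter G χ) (hψ : Cfsg.IsCharacter G ψ) :
    Cfsg.IsCharacter G (χ + ψ) := by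
  obtain ⟨n, ρ, rfl⟩ := hχ
  obtain ⟨m, σ, rfl⟩ := hψ
  have := isCharacter_of_rep (ρ.prod σ)
  convert this using 1
  funext g
  simp only [Pi.add_apply, Representation.character]
  exact (LinearMap.trace_prodMap' (ρ g) (σ g)).symm

theorem isCharacter_mul {χ ψ : G → ℂ} (hχ : Cfsg.IsCharacter G χ) (hψ : Cfsg.IsCharacter G ψ) :
    Cfsg.IsCharacter G (χ * ψ) := by
  obtain ⟨n, ρ, rfl⟩ := hχ
  obtain ⟨m, σ, rfl⟩ := hψ
  have := isCharacter_of_rep (ρ.tprod σ)
  rwa [Representation.char_tensor] at this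

theorem isCharacter_nsmul {χ : G → ℂ} (hχ : Cfsg.IsCharacter G χ) (k : ℕ) :
    Cfsg.IsCharacter G ((k : ℂ) • χ) := by
  induction k with
  | zero => simpa using isCharacter_zero
  | succ k ih =>
    have := isCharacter_add ih hχ
    convert this using 1
    push_cast
    rw [add_smul, one_smul]

theorem isCharacter_sum {ι : Type*} (s : Finset ι) (χ : ι → G → ℂ)
    (h : ∀ i ∈ s, Cfsg.IsCharacter G (χ i)) : Cfsg.IsCharacter G (∑ i ∈ s, χ i) := by
  classical
  induction s using Finset.induction_on with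
  | empty => simpa using isCharacter_zero
  | insert a s ha ih =>
    rw [Finset.sum_insert ha]
    exact isCharacter_add (h a (Finset.mem_insert_self a s))
      (ih (fun i hi => h i (Finset.mem_insert_of_mem hi)))

theorem isCharacter_conj [Finite G] {χ : G → ℂ} (hχ : Cfsg.IsCharacter G χ) :
    Cfsg.IsCharacter G (fun g => conj (χ g)) := by
  obtain ⟨n, ρ, rfl⟩ := hχ
  have := isCharacter_of_rep ρ.dual
  convert this using 1
  funext g
  rw [Representation.char_dual, char_inv]

end Closure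

section Decomp

open scoped ComplexConjugate

universe u
variable {G : Type u} [Group G] [Fintype G]

theorem classInner_isCharacter_nat {χ ψ : G → ℂ} (hχ : Cfsg.IsCharacter G χ)
    (hψ : Cfsg.IsCharacter G ψ) : ∃ m : ℕ, Cfsg.classInner χ ψ = (m : ℂ) := by
  obtain ⟨n, ρ, rfl⟩ := hχ
  obtain ⟨m, σ, rfl⟩ := hψ
  exact ⟨_, classInner_char_eq_finrank σ ρ⟩

open scoped Classical in
/-- multiplicity of an irreducible character in a character -/
noncomputable def irrMult (χ : G → ℂ) (ψ : Cfsg.IrrCharacter G) : ℕ :=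
  if h : ∃ m : ℕ, Cfsg.classInner χ ψ = (m : ℂ) then h.choose else 0

theorem irrMult_spec {χ : G → ℂ} (hχ : Cfsg.IsCharacter G χ) (ψ : Cfsg.IrrCharacter G) :
    Cfsg.classInner χ ψ = (irrMult χ ψ : ℂ) := by
  have h := classInner_isCharacter_nat hχ (isCharacter_of_isIrrCharacter ψ.2)
  unfold irrMult
  rw [dif_pos h]
  exact h.choose_spec

theorem isCharacter_eq_sum_irrMult {χ : G → ℂ} (hχ : Cfsg.IsCharacter G χ) :
    χ = ∑ ψ : Cfsg.IrrCharacter G, (irrMult χ ψ : ℂ) • (ψ : G → ℂ) := by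
  have h := classFunction_eq_sum χ (isClassFunction_of_isCharacter hχ)
  conv_lhs => rw [h]
  apply Finset.sum_congr rfl
  intro ψ _
  rw [irrMult_spec hχ ψ]

theorem classInner_sum_irr (a b : Cfsg.IrrCharacter G → ℂ) :
    Cfsg.classInner (∑ ψ : Cfsg.IrrCharacter G, a ψ • (ψ : G → ℂ))
      (∑ ψ : Cfsg.IrrCharacter G, b ψ • (ψ : G → ℂ)) = ∑ ψ, a ψ * conj (b ψ) := by
  classical
  rw [classInner_sum_left]
  apply Finset.sum_congr rfl
  intro ψ _
  rw [classInner_smul_left, classInner_sum_right]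
  simp only [classInner_smul_right, classInner_irr]
  rw [Finset.sum_eq_single ψ]
  · simp
  · intro b _ hb; simp [hb.symm]
  · intro h; exact absurd (Finset.mem_univ _) h

theorem classInner_self_eq_sum_sq {χ : G → ℂ} (hχ : Cfsg.IsCharacter G χ) :
    Cfsg.classInner χ χ = ((∑ ψ : Cfsg.IrrCharacter G, (irrMult χ ψ) ^ 2 : ℕ) : ℂ) := by
  conv_lhs => rw [isCharacter_eq_sum_irrMult hχ]
  rw [classInner_sum_irr]
  push_cast
  apply Finset.sum_congr rfl
  intro ψ _
  rw [Complex.conj_natCast]; ring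

/-- a character of norm one is irreducible -/
theorem isIrrCharacter_of_classInner_self_eq_one {χ : G → ℂ} (hχ : Cfsg.IsCharacter G χ)
    (h : Cfsg.classInner χ χ = 1) : Cfsg.IsIrrCharacter G χ := by
  classical
  rw [classInner_self_eq_sum_sq hχ] at h
  have h1 : ∑ ψ : Cfsg.IrrCharacter G, (irrMult χ ψ) ^ 2 = 1 := by exact_mod_cast h
  -- some ψ has nonzero multiplicity
  have hex : ∃ ψ : Cfsg.IrrCharacter G, irrMult χ ψ ≠ 0 := by
    by_contra hne
    push Not at hne
    simp [hne] at h1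
  obtain ⟨ψ₀, hψ₀⟩ := hex
  have hsplit := Finset.add_sum_erase Finset.univ (fun ψ : Cfsg.IrrCharacter G => (irrMult χ ψ) ^ 2)
    (Finset.mem_univ ψ₀)
  rw [h1] at hsplit
  have hpos : 1 ≤ (irrMult χ ψ₀) ^ 2 := Nat.one_le_pow _ _ (Nat.pos_of_ne_zero hψ₀)
  have hrest : ∑ ψ ∈ Finset.univ.erase ψ₀, (irrMult χ ψ) ^ 2 = 0 := by omega
  have hone : (irrMult χ ψ₀) ^ 2 = 1 := by omega
  have hm1 : irrMult χ ψ₀ = 1 := by
    rcases Nat.pow_eq_one.mp hone with h | h
    · exact h
    · exact absurd h (by norm_num)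
  have hothers : ∀ ψ, ψ ≠ ψ₀ → irrMult χ ψ = 0 := by
    intro ψ hψ
    have := (Finset.sum_eq_zero_iff.mp hrest) ψ (Finset.mem_erase.mpr ⟨hψ, Finset.mem_univ _⟩)
    exact pow_eq_zero_iff (two_ne_zero) |>.mp this
  have : χ = (ψ₀ : G → ℂ) := by
    conv_lhs => rw [isCharacter_eq_sum_irrMult hχ]
    rw [Finset.sum_eq_single ψ₀]
    · rw [hm1]; simp
    · intro b _ hb; rw [hothers b hb]; simp
    · intro h; exact absurd (Finset.mem_univ _) h
  rw [this]
  exact ψ₀.2

theorem isIrrCharacter_one : Cfsg.IsIrrCharacter G (fun _ => (1 : ℂ)) := by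
  apply isIrrCharacter_of_classInner_self_eq_one isCharacter_one
  unfold Cfsg.classInner
  simp only [map_one, mul_one, Finset.sum_const, Finset.card_univ, nsmul_eq_mul]
  rw [Nat.card_eq_fintype_card]
  have : (Fintype.card G : ℂ) ≠ 0 := by exact_mod_cast Fintype.card_ne_zero
  field_simp

end Decomp

end Cfsg.Agent.Helper3
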