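import Mathlib
import Cfsg.Prelude.Def_Characters
import Cfsg.Agent.Lib.Helper3.CharDecomp

set_option autoImplicit false
set_option linter.unusedSectionVars false

namespace Cfsg.Agent.Helper3

open Module Representation

section Ind

open scoped ComplexConjugate

universe u
variable {G : Type u} [Group G]

theorem extendByZero_mem (H : Subgroup G) (θ : H → ℂ) (h : H) :
    Cfsg.extendByZero H θ (h : G) = θ h := by
  unfold Cfsg.extendByZero
  exact Subtype.val_injective.extend_apply θ 0 h

theorem extendByZero_of_mem (H : Subgroup G) (θ : H → ℂ) {g : G} (hg : g ∈ H) :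
    Cfsg.extendByZero H θ g = θ ⟨g, hg⟩ :=
  extendByZero_mem H θ ⟨g, hg⟩

theorem extendByZero_not_mem (H : Subgroup G) (θ : H → ℂ) {g : G} (hg : g ∉ H) :
    Cfsg.extendByZero H θ g = 0 := by
  unfold Cfsg.extendByZero
  rw [Function.extend_apply']
  · rfl
  · rintro ⟨h, rfl⟩
    exact hg h.2

variable [Fintype G]

theorem sum_extendByZero_mul (H : Subgroup G) [Fintype H] (θ : H → ℂ) (F : G → ℂ) :
    ∑ g, Cfsg.extendByZero H θ g * F g = ∑ h : H, θ h * F h := by
  symm
  apply Fintype.sum_of_injective (Subtype.val : H → G) Subtype.val_injective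
  · intro g hg
    have : g ∉ H := by
      intro h; exact hg ⟨⟨g, h⟩, rfl⟩
    rw [extendByZero_not_mem H θ this, zero_mul]
  · intro h
    rw [extendByZero_mem]

theorem sum_extendByZero (H : Subgroup G) [Fintype H] (θ : H → ℂ) :
    ∑ g, Cfsg.extendByZero H θ g = ∑ h : H, θ h := by
  have := sum_extendByZero_mul H θ (fun _ => 1)
  simpa using this

theorem indFun_apply (H : Subgroup G) (θ : H → ℂ) (g : G) :
    Cfsg.indFun H θ g = (Nat.card H : ℂ)⁻¹ * ∑ x : G, Cfsg.extendByZero H θ (x⁻¹ * g * x) := rfl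

theorem isClassFunction_indFun (H : Subgroup G) (θ : H → ℂ) :
    Cfsg.IsClassFunction G (Cfsg.indFun H θ) := by
  intro g y
  rw [indFun_apply, indFun_apply]
  congr 1
  refine Fintype.sum_equiv (Equiv.mulLeft y⁻¹) _ _ ?_
  intro x
  simp only [Equiv.coe_mulLeft]
  congr 1
  group

/-- Frobenius reciprocity -/
theorem frobenius_reciprocity (H : Subgroup G) [Fintype H] (θ : H → ℂ) (χ : G → ℂ)
    (hχ : Cfsg.IsClassFunction G χ) :
    Cfsg.classInner (Cfsg.indFun H θ) χ = Cfsg.classInner θ (fun h : H => χ h) := by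
  unfold Cfsg.classInner
  simp only [indFun_apply]
  have h1 : ∑ g : G, ((Nat.card H : ℂ)⁻¹ * ∑ x : G, Cfsg.extendByZero H θ (x⁻¹ * g * x)) * conj (χ g)
      = (Nat.card H : ℂ)⁻¹ * ∑ x : G, ∑ g : G, Cfsg.extendByZero H θ (x⁻¹ * g * x) * conj (χ g) := by
    rw [Finset.sum_comm, Finset.mul_sum]
    apply Finset.sum_congr rfl
    intro g _
    rw [mul_assoc, Finset.sum_mul]
  rw [h1]
  have h2 : ∀ x : G, ∑ g : G, Cfsg.extendByZero H θ (x⁻¹ * g * x) * conj (χ g)
      = ∑ h : H, θ h * conj (χ h) := by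
    intro x
    rw [← sum_extendByZero_mul H θ (fun g => conj (χ g))]
    refine Fintype.sum_equiv (MulAut.conj x⁻¹).toEquiv _ _ ?_
    intro g
    simp only [MulEquiv.toEquiv_eq_coe, MulEquiv.coe_toEquiv, MulAut.conj_apply, inv_inv]
    congr 2
    have := hχ g x⁻¹
    simpa using this.symm
  simp_rw [h2]
  rw [Finset.sum_const, Finset.card_univ, nsmul_eq_mul, ← Nat.card_eq_fintype_card]
  have hG : (Nat.card G : ℂ) ≠ 0 := card_ne_zero_complex
  field_simp

/-- transitivity of induction -/
theorem indFun_trans (H K : Subgroup G) [Fintype K] (hHK : H ≤ K) (θ : H → ℂ) :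
    Cfsg.indFun K (Cfsg.indFun (H.subgroupOf K)
      (fun x => θ ⟨(x : K), Subgroup.mem_subgroupOf.mp x.2⟩)) = Cfsg.indFun H θ := by
  classical
  set θ' : H.subgroupOf K → ℂ := fun x => θ ⟨(x : K), Subgroup.mem_subgroupOf.mp x.2⟩ with hθ'
  -- extension of θ' agrees with extension of θ
  have hext : ∀ u : K, Cfsg.extendByZero (H.subgroupOf K) θ' u = Cfsg.extendByZero H θ (u : G) := by
    intro u
    by_cases hu : (u : G) ∈ H
    · have hu' : u ∈ H.subgroupOf K := Subgroup.mem_subgroupOf.mpr hu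
      rw [extendByZero_of_mem _ _ hu', extendByZero_of_mem _ _ hu]
    · have hu' : u ∉ H.subgroupOf K := fun h => hu (Subgroup.mem_subgroupOf.mp h)
      rw [extendByZero_not_mem _ _ hu', extendByZero_not_mem _ _ hu]
  have hcard : Nat.card (H.subgroupOf K) = Nat.card H :=
    Nat.card_congr (Subgroup.subgroupOfEquivOfLe hHK).toEquiv
  -- formula for the extension of the inner induced function
  have hψ : ∀ y : G, Cfsg.extendByZero K (Cfsg.indFun (H.subgroupOf K) θ') y
      = (Nat.card H : ℂ)⁻¹ * ∑ k : K, Cfsg.extendByZero H θ ((k : G)⁻¹ * y * k) := by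
    intro y
    by_cases hy : y ∈ K
    · rw [extendByZero_of_mem _ _ hy, indFun_apply, hcard]
      congr 1
      apply Finset.sum_congr rfl
      intro k _
      rw [hext]
      rfl
    · rw [extendByZero_not_mem _ _ hy]
      symm
      rw [mul_eq_zero]; right
      apply Finset.sum_eq_zero
      intro k _
      apply extendByZero_not_mem
      intro h
      apply hy
      have h1 := hHK h
      have h2 : (k : G) * ((k : G)⁻¹ * y * k) * (k : G)⁻¹ ∈ K :=
        K.mul_mem (K.mul_mem k.2 h1) (K.inv_mem k.2)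
      have h3 : (k : G) * ((k : G)⁻¹ * y * k) * (k : G)⁻¹ = y := by group
      rwa [h3] at h2
  funext g
  rw [indFun_apply, indFun_apply]
  simp_rw [hψ]
  rw [← Finset.mul_sum, Finset.sum_comm]
  have h2 : ∀ k : K, ∑ x : G, Cfsg.extendByZero H θ ((k : G)⁻¹ * (x⁻¹ * g * x) * k)
      = ∑ x : G, Cfsg.extendByZero H θ (x⁻¹ * g * x) := by
    intro k
    refine Fintype.sum_equiv (Equiv.mulRight (k : G)) _ _ ?_
    intro x
    simp only [Equiv.coe_mulRight]
    congr 1
    group
  simp_rw [h2]
  rw [Finset.sum_const, Finset.card_univ, nsmul_eq_mul, ← Nat.card_eq_fintype_card]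
  have hK : (Nat.card K : ℂ) ≠ 0 := by exact_mod_cast Nat.card_pos.ne'
  field_simp

/-- induction from the normalizer of a TI-set agrees with the original function on `T \ {1}` -/
theorem indFun_eq_on_ti (T : Set G)
    (hTI : ∀ g : G, g ∉ Subgroup.normalizer T → ∀ t ∈ T, g * t * g⁻¹ ∈ T → t = 1)
    (ψ : Subgroup.normalizer T → ℂ)
    (hψ : Cfsg.IsClassFunction (Subgroup.normalizer T) ψ)
    (hψT : ∀ x : Subgroup.normalizer T, (x : G) ∉ T → ψ x = 0)
    (t : Subgroup.normalizer T) (htT : (t : G) ∈ T) (ht1 : t ≠ 1) :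
    Cfsg.indFun (Subgroup.normalizer T) ψ t = ψ t := by
  classical
  have := Fintype.ofFinite (Subgroup.normalizer T)
  rw [indFun_apply]
  have hterm : ∀ x : G, Cfsg.extendByZero (Subgroup.normalizer T) ψ (x⁻¹ * (t : G) * x)
      = Cfsg.extendByZero (Subgroup.normalizer T) (fun _ => ψ t) x := by
    intro x
    by_cases hx : x ∈ Subgroup.normalizer T
    · rw [extendByZero_of_mem _ _ hx]
      have hmem : x⁻¹ * (t : G) * x ∈ Subgroup.normalizer T :=
        (Subgroup.normalizer T).mul_mem ((Subgroup.normalizer T).mul_mem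
          ((Subgroup.normalizer T).inv_mem hx) t.2) hx
      rw [extendByZero_of_mem _ _ hmem]
      have := hψ t (⟨x, hx⟩ : Subgroup.normalizer T)⁻¹
      rw [← this]
      congr 1
      apply Subtype.ext
      simp
    · rw [extendByZero_not_mem _ _ hx]
      by_cases hmem : x⁻¹ * (t : G) * x ∈ Subgroup.normalizer T
      · rw [extendByZero_of_mem _ _ hmem]
        apply hψT
        intro hT
        have hx' : x⁻¹ ∉ Subgroup.normalizer T := by
          intro h; exact hx (by simpa using (Subgroup.normalizer T).inv_mem h)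
        have := hTI x⁻¹ hx' (t : G) htT (by simpa using hT)
        apply ht1
        apply Subtype.ext
        simpa using this
      · exact extendByZero_not_mem _ _ hmem
  simp_rw [hterm]
  rw [sum_extendByZero]
  rw [Finset.sum_const, Finset.card_univ, nsmul_eq_mul, ← Nat.card_eq_fintype_card]
  have hN : (Nat.card (Subgroup.normalizer T) : ℂ) ≠ 0 := by exact_mod_cast Nat.card_pos.ne'
  field_simp

theorem indFun_isometry_on_ti (T : Set G)
    (hTI : ∀ g : G, g ∉ Subgroup.normalizer T → ∀ t ∈ T, g * t * g⁻¹ ∈ T → t = 1)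
    [Fintype (Subgroup.normalizer T)]
    (ψ θ : Subgroup.normalizer T → ℂ)
    (hθ : Cfsg.IsClassFunction (Subgroup.normalizer T) θ)
    (hψT : ∀ x : Subgroup.normalizer T, (x : G) ∉ T → ψ x = 0)
    (hθT : ∀ x : Subgroup.normalizer T, (x : G) ∉ T → θ x = 0) (hψ1 : ψ 1 = 0) :
    Cfsg.classInner (Cfsg.indFun (Subgroup.normalizer T) ψ)
      (Cfsg.indFun (Subgroup.normalizer T) θ) = Cfsg.classInner ψ θ := by
  rw [frobenius_reciprocity _ _ _ (isClassFunction_indFun _ _)]
  unfold Cfsg.classInner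
  congr 1
  apply Finset.sum_congr rfl
  intro n _
  by_cases hn1 : n = 1
  · rw [hn1, hψ1, zero_mul, zero_mul]
  by_cases hnT : (n : G) ∈ T
  · simp only
    rw [indFun_eq_on_ti T hTI θ hθ hθT n hnT hn1]
  · rw [hψT n hnT, zero_mul, zero_mul]

omit [Fintype G] in
theorem isCharacter_restrict (H : Subgroup G) {χ : G → ℂ} (hχ : Cfsg.IsCharacter G χ) :
    Cfsg.IsCharacter H (fun h : H => χ h) := by
  obtain ⟨n, ρ, rfl⟩ := hχ
  exact ⟨n, ρ.comp H.subtype, rfl⟩

/-- the induced function of a character is a character -/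
theorem isCharacter_indFun (H : Subgroup G) (θ : H → ℂ) (hθ : Cfsg.IsCharacter H θ) :
    Cfsg.IsCharacter G (Cfsg.indFun H θ) := by
  classical
  have := Fintype.ofFinite H
  have hcl := isClassFunction_indFun H θ
  rw [classFunction_eq_sum _ hcl]
  apply isCharacter_sum
  intro χ _
  rw [frobenius_reciprocity H θ χ (isClassFunction_of_isIrrCharacter χ.2)]
  obtain ⟨m, hm⟩ := classInner_isCharacter_nat hθ
    (isCharacter_restrict H (isCharacter_of_isIrrCharacter χ.2))
  rw [hm]
  exact isCharacter_nsmul (isCharacter_of_isIrrCharacter χ.2) m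

end Ind

end Cfsg.Agent.Helper3
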