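import Mathlib
import Cfsg.Prelude.Def_Characters
import Cfsg.Agent.Lib.Helper3.CharInd

set_option autoImplicit false
set_option linter.unusedSectionVars false

namespace Cfsg.Agent.Helper3

open Module Representation

section IndLinear

universe u
variable {G : Type u} [Group G]

theorem extendByZero_add (H : Subgroup G) (f g : H → ℂ) :
    Cfsg.extendByZero H (f + g) = Cfsg.extendByZero H f + Cfsg.extendByZero H g := by
  funext x
  by_cases hx : x ∈ H
  · simp [extendByZero_of_mem _ _ hx]
  · simp [extendByZero_not_mem _ _ hx]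

theorem extendByZero_smul (H : Subgroup G) (c : ℂ) (f : H → ℂ) :
    Cfsg.extendByZero H (c • f) = c • Cfsg.extendByZero H f := by
  funext x
  by_cases hx : x ∈ H
  · simp [extendByZero_of_mem _ _ hx]
  · simp [extendByZero_not_mem _ _ hx]

variable [Fintype G]

theorem indFun_add (H : Subgroup G) (f g : H → ℂ) :
    Cfsg.indFun H (f + g) = Cfsg.indFun H f + Cfsg.indFun H g := by
  funext x
  simp only [indFun_apply, Pi.add_apply, extendByZero_add, Finset.sum_add_distrib, mul_add]

theorem indFun_smul (H : Subgroup G) (c : ℂ) (f : H → ℂ) :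
    Cfsg.indFun H (c • f) = c • Cfsg.indFun H f := by
  funext x
  simp only [indFun_apply, Pi.smul_apply, extendByZero_smul, smul_eq_mul, ← Finset.mul_sum]
  ring

theorem indFun_zero (H : Subgroup G) : Cfsg.indFun H (0 : H → ℂ) = 0 := by
  have := indFun_smul H 0 (0 : H → ℂ)
  simpa using this

theorem indFun_sub (H : Subgroup G) (f g : H → ℂ) :
    Cfsg.indFun H (f - g) = Cfsg.indFun H f - Cfsg.indFun H g := by
  have h1 : f - g = f + (-1 : ℂ) • g := by simp [sub_eq_add_neg]
  rw [h1, indFun_add, indFun_smul]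
  simp [sub_eq_add_neg]

theorem indFun_sum {ι : Type*} (H : Subgroup G) (s : Finset ι) (f : ι → H → ℂ) :
    Cfsg.indFun H (∑ i ∈ s, f i) = ∑ i ∈ s, Cfsg.indFun H (f i) := by
  classical
  induction s using Finset.induction_on with
  | empty => simpa using indFun_zero H
  | insert a s ha ih => rw [Finset.sum_insert ha, Finset.sum_insert ha, indFun_add, ih]

end IndLinear

section Abelian

universe u
variable {A : Type u} [Group A]

/-- an endomorphism of `Fin 1 → ℂ` is multiplication by its trace -/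
theorem end_fin_one_eq (f : Module.End ℂ (Fin 1 → ℂ)) :
    f = (LinearMap.trace ℂ (Fin 1 → ℂ) f) • (1 : Module.End ℂ (Fin 1 → ℂ)) := by
  have htr : LinearMap.trace ℂ (Fin 1 → ℂ) f = f (fun _ => 1) 0 := by
    rw [LinearMap.trace_eq_matrix_trace ℂ (Pi.basisFun ℂ (Fin 1)), Matrix.trace]
    simp only [Finset.univ_unique, Fin.default_eq_zero, Finset.sum_singleton, Matrix.diag_apply,
      LinearMap.toMatrix_apply, Pi.basisFun_apply, Pi.basisFun_repr]
    have : (Pi.single (0 : Fin 1) (1 : ℂ) : Fin 1 → ℂ) = fun _ => 1 := by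
      funext i; fin_cases i; simp
    rw [this]
  ext i j
  fin_cases i; fin_cases j
  simp only [Fin.zero_eta, Fin.isValue, LinearMap.coe_comp, LinearMap.coe_single,
    Function.comp_apply, LinearMap.smul_apply, Module.End.one_apply, Pi.smul_apply, smul_eq_mul]
  rw [htr]
  have : (Pi.single (0 : Fin 1) (1 : ℂ) : Fin 1 → ℂ) = fun _ => 1 := by
    funext i; fin_cases i; simp
  rw [this]; simp

/-- irreducible characters of an abelian group are homomorphisms to `ℂˣ` -/
theorem irr_abelian_hom (hcomm : ∀ a b : A, a * b = b * a) (ψ : A → ℂ)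
    (hψ : Cfsg.IsIrrCharacter A ψ) : ∃ lam : A →* ℂˣ, ψ = fun a => (lam a : ℂ) := by
  obtain ⟨n, ρ, hirr, rfl⟩ := hψ
  have : IsMulCommutative A := ⟨⟨hcomm⟩⟩
  have h1 : finrank ℂ (Fin n → ℂ) = 1 := IsIrreducible.finrank_eq_one_of_isMulCommutative ρ
  have hn : n = 1 := by simpa using h1
  subst hn
  have hmul : ∀ a b : A, ρ.character (a * b) = ρ.character a * ρ.character b := by
    intro a b
    unfold Representation.character
    rw [map_mul]
    conv_lhs => rw [end_fin_one_eq (ρ a), end_fin_one_eq (ρ b)]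
    simp [LinearMap.trace_one, mul_comm]
  have hone : ρ.character 1 = 1 := by
    rw [Representation.char_one]; simp
  let φ : A →* ℂ :=
    { toFun := ρ.character
      map_one' := hone
      map_mul' := hmul }
  refine ⟨φ.toHomUnits, ?_⟩
  funext a
  rfl

end Abelian

section ArtinSum

universe u
variable {G : Type u} [Group G] [Fintype G]

open scoped Classical in
/-- `|B|` on generators of `B`, zero elsewhere -/
noncomputable def thetaSub (B : Subgroup G) : B → ℂ :=
  fun b => if Subgroup.zpowers (b : G) = B then (Nat.card B : ℂ) else 0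

open scoped Classical in
/-- `|A|` on generators of the group `A`, zero elsewhere -/
noncomputable def genFun (A : Type u) [Group A] : A → ℂ :=
  fun a => if Subgroup.zpowers a = ⊤ then (Nat.card A : ℂ) else 0

omit [Fintype G] in
theorem thetaSub_eq_genFun (B : Subgroup G) : thetaSub B = genFun B := by
  classical
  funext b
  unfold thetaSub genFun
  have : Subgroup.zpowers (b : G) = B ↔ Subgroup.zpowers b = ⊤ := by
    constructor
    · intro h
      rw [eq_top_iff]
      intro x _
      have hx : (x : G) ∈ Subgroup.zpowers (b : G) := by rw [h]; exact x.2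
      obtain ⟨k, hk⟩ := Subgroup.mem_zpowers_iff.mp hx
      exact Subgroup.mem_zpowers_iff.mpr ⟨k, Subtype.ext (by simpa using hk)⟩
    · intro h
      apply le_antisymm
      · rw [Subgroup.zpowers_le]; exact b.2
      · intro x hx
        have : (⟨x, hx⟩ : B) ∈ Subgroup.zpowers b := by rw [h]; exact Subgroup.mem_top _
        obtain ⟨k, hk⟩ := Subgroup.mem_zpowers_iff.mp this
        exact Subgroup.mem_zpowers_iff.mpr ⟨k, by simpa using congrArg Subtype.val hk⟩
  simp only [this]

noncomputable instance fintypeSubgroup : Fintype (Subgroup G) := Fintype.ofFinite _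

/-- Artin's formula -/
theorem artin_sum (χ : G → ℂ) (hχ : Cfsg.IsClassFunction G χ) :
    (Nat.card G : ℂ) • χ
      = ∑ B : Subgroup G, Cfsg.indFun B (thetaSub B * fun b : B => χ b) := by
  classical
  funext g
  rw [Finset.sum_apply]
  have hterm : ∀ (B : Subgroup G) (y : G),
      (Nat.card B : ℂ)⁻¹ * Cfsg.extendByZero B (thetaSub B * fun b : B => χ b) y
        = if Subgroup.zpowers y = B then χ y else 0 := by
    intro B y
    have hB : (Nat.card B : ℂ) ≠ 0 := by exact_mod_cast Nat.card_pos.ne'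
    by_cases hy : y ∈ B
    · rw [extendByZero_of_mem _ _ hy]
      simp only [Pi.mul_apply, thetaSub]
      split_ifs with h
      · field_simp
      · simp
    · rw [extendByZero_not_mem _ _ hy, mul_zero, if_neg]
      intro h
      apply hy
      rw [← h]
      exact Subgroup.mem_zpowers y
  simp_rw [indFun_apply, Finset.mul_sum, hterm]
  rw [Finset.sum_comm]
  simp only [Finset.sum_ite_eq, Finset.mem_univ, if_true]
  have : ∀ x : G, χ (x⁻¹ * g * x) = χ g := by
    intro x
    have := hχ g x⁻¹
    simpa using this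
  simp_rw [this]
  simp [Nat.card_eq_fintype_card]

end ArtinSum

section GenChar

universe u
variable {G : Type u} [Group G]

theorem isGenChar_of_char {χ : G → ℂ} (h : Cfsg.IsCharacter G χ) :
    Cfsg.IsGeneralizedCharacter G χ :=
  ⟨χ, 0, h, isCharacter_zero, by simp⟩

theorem isGenChar_zero : Cfsg.IsGeneralizedCharacter G (0 : G → ℂ) :=
  isGenChar_of_char isCharacter_zero

theorem isGenChar_add {θ₁ θ₂ : G → ℂ} (h₁ : Cfsg.IsGeneralizedCharacter G θ₁)
    (h₂ : Cfsg.IsGeneralizedCharacter G θ₂) : Cfsg.IsGeneralizedCharacter G (θ₁ + θ₂) := by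
  obtain ⟨χ₁, ψ₁, hχ₁, hψ₁, rfl⟩ := h₁
  obtain ⟨χ₂, ψ₂, hχ₂, hψ₂, rfl⟩ := h₂
  exact ⟨χ₁ + χ₂, ψ₁ + ψ₂, isCharacter_add hχ₁ hχ₂, isCharacter_add hψ₁ hψ₂, by abel⟩

theorem isGenChar_sub {θ₁ θ₂ : G → ℂ} (h₁ : Cfsg.IsGeneralizedCharacter G θ₁)
    (h₂ : Cfsg.IsGeneralizedCharacter G θ₂) : Cfsg.IsGeneralizedCharacter G (θ₁ - θ₂) := by
  obtain ⟨χ₁, ψ₁, hχ₁, hψ₁, rfl⟩ := h₁
  obtain ⟨χ₂, ψ₂, hχ₂, hψ₂, rfl⟩ := h₂
  exact ⟨χ₁ + ψ₂, ψ₁ + χ₂, isCharacter_add hχ₁ hψ₂, isCharacter_add hψ₁ hχ₂, by abel⟩

theorem isGenChar_sum {ι : Type*} (s : Finset ι) (θ : ι → G → ℂ)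
    (h : ∀ i ∈ s, Cfsg.IsGeneralizedCharacter G (θ i)) :
    Cfsg.IsGeneralizedCharacter G (∑ i ∈ s, θ i) := by
  classical
  induction s using Finset.induction_on with
  | empty => simpa using isGenChar_zero
  | insert a s ha ih =>
    rw [Finset.sum_insert ha]
    exact isGenChar_add (h a (Finset.mem_insert_self a s))
      (ih (fun i hi => h i (Finset.mem_insert_of_mem hi)))

theorem isGenChar_mul_char {θ φ : G → ℂ} (h : Cfsg.IsGeneralizedCharacter G θ)
    (hφ : Cfsg.IsCharacter G φ) : Cfsg.IsGeneralizedCharacter G (θ * φ) := by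
  obtain ⟨χ, ψ, hχ, hψ, rfl⟩ := h
  exact ⟨χ * φ, ψ * φ, isCharacter_mul hχ hφ, isCharacter_mul hψ hφ, by ring⟩

theorem isGenChar_indFun [Fintype G] (H : Subgroup G) {θ : H → ℂ}
    (h : Cfsg.IsGeneralizedCharacter H θ) : Cfsg.IsGeneralizedCharacter G (Cfsg.indFun H θ) := by
  obtain ⟨χ, ψ, hχ, hψ, rfl⟩ := h
  exact ⟨_, _, isCharacter_indFun H χ hχ, isCharacter_indFun H ψ hψ, indFun_sub H χ ψ⟩

theorem indFun_top [Fintype G] (f : G → ℂ) (hf : Cfsg.IsClassFunction G f) :
    Cfsg.indFun (⊤ : Subgroup G) (fun t => f t) = f := by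
  funext g
  rw [indFun_apply]
  have : ∀ x : G, Cfsg.extendByZero (⊤ : Subgroup G) (fun t => f t) (x⁻¹ * g * x) = f g := by
    intro x
    rw [extendByZero_of_mem _ _ (Subgroup.mem_top _)]
    have := hf g x⁻¹
    simpa using this
  simp_rw [this]
  rw [Finset.sum_const, Finset.card_univ, nsmul_eq_mul, Subgroup.card_top,
    Nat.card_eq_fintype_card]
  have : (Fintype.card G : ℂ) ≠ 0 := by exact_mod_cast Fintype.card_ne_zero
  field_simp

theorem isClassFunction_genFun : Cfsg.IsClassFunction G (genFun G) := by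
  classical
  intro a h
  unfold genFun
  have key : ∀ (a h : G), Subgroup.zpowers a = ⊤ → Subgroup.zpowers (h * a * h⁻¹) = ⊤ := by
    intro a h ha
    have h1 : (Subgroup.zpowers a).map (MulAut.conj h).toMonoidHom
        = Subgroup.zpowers (h * a * h⁻¹) := by
      rw [MonoidHom.map_zpowers]
      simp [MulAut.conj_apply]
    rw [← h1, ha]
    exact Subgroup.map_top_of_surjective _ (MulAut.conj h).surjective
  have : Subgroup.zpowers (h * a * h⁻¹) = ⊤ ↔ Subgroup.zpowers a = ⊤ := by
    constructor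
    · intro h1
      have := key (h * a * h⁻¹) h⁻¹ h1
      have e : h⁻¹ * (h * a * h⁻¹) * h⁻¹⁻¹ = a := by group
      rwa [e] at this
    · exact key a h
  simp only [this]

theorem genFun_isGenChar : ∀ (n : ℕ) (A : Type u) [Group A] [Fintype A], Nat.card A = n →
    Cfsg.IsGeneralizedCharacter A (genFun A) := by
  intro n
  induction n using Nat.strong_induction_on with
  | _ n ih =>
    intro A _ _ hn
    classical
    have hone : Cfsg.IsClassFunction A (fun _ : A => (1 : ℂ)) := fun _ _ => rfl
    have hsum := artin_sum (G := A) (fun _ => (1 : ℂ)) hone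
    rw [← Finset.add_sum_erase Finset.univ _ (Finset.mem_univ (⊤ : Subgroup A))] at hsum
    have htop : Cfsg.indFun (⊤ : Subgroup A) (thetaSub (⊤ : Subgroup A) * fun _ => (1 : ℂ))
        = genFun A := by
      have h1 : (thetaSub (⊤ : Subgroup A) * fun _ => (1 : ℂ))
          = fun t : (⊤ : Subgroup A) => genFun A t := by
        funext t
        simp only [Pi.mul_apply, mul_one, thetaSub, genFun, Subgroup.card_top]
      rw [h1]
      exact indFun_top (genFun A) isClassFunction_genFun
    rw [htop] at hsum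
    have hgen : genFun A = (Nat.card A : ℂ) • (fun _ : A => (1 : ℂ))
        - ∑ B ∈ Finset.univ.erase (⊤ : Subgroup A),
            Cfsg.indFun B (thetaSub B * fun _ => (1 : ℂ)) := by
      rw [hsum]; abel
    rw [hgen]
    apply isGenChar_sub
    · exact isGenChar_of_char (isCharacter_nsmul isCharacter_one _)
    · apply isGenChar_sum
      intro B hB
      have hBtop : B ≠ ⊤ := (Finset.mem_erase.mp hB).1
      apply isGenChar_indFun
      have h1 : (thetaSub B * fun _ : B => (1 : ℂ)) = genFun B := by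
        rw [thetaSub_eq_genFun]; funext t; simp
      rw [h1]
      have hlt : Nat.card B < n := by
        rw [← hn]
        have hle : Nat.card B ≤ Nat.card A := Subgroup.card_le_card_group B
        rcases lt_or_eq_of_le hle with h | h
        · exact h
        · exact absurd (Subgroup.card_eq_iff_eq_top B |>.mp h) hBtop
      have := Fintype.ofFinite B
      exact ih _ hlt B rfl

end GenChar

section Artin

universe u
variable {G : Type u} [Group G] [Fintype G]

/-- ℤ-combinations of functions induced from homomorphisms of cyclic subgroups into `ℂˣ` -/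
def ArtinComb (f : G → ℂ) : Prop :=
  ∃ l : List ((A : Subgroup G) × ((A →* ℂˣ) × ℤ)), (∀ t ∈ l, IsCyclic t.1) ∧
    f = (l.map fun t => (t.2.2 : ℂ) • Cfsg.indFun t.1 (fun a => (t.2.1 a : ℂ))).sum

theorem ArtinComb.zero : ArtinComb (0 : G → ℂ) := ⟨[], by simp, by simp⟩

theorem ArtinComb.add {f g : G → ℂ} (hf : ArtinComb f) (hg : ArtinComb g) :
    ArtinComb (f + g) := by
  obtain ⟨l₁, h₁, rfl⟩ := hf
  obtain ⟨l₂, h₂, rfl⟩ := hg
  refine ⟨l₁ ++ l₂, ?_, ?_⟩
  · intro t ht
    rcases List.mem_append.mp ht with h | h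
    · exact h₁ t h
    · exact h₂ t h
  · rw [List.map_append, List.sum_append]

theorem ArtinComb.sum {ι : Type*} (s : Finset ι) (f : ι → G → ℂ)
    (h : ∀ i ∈ s, ArtinComb (f i)) : ArtinComb (∑ i ∈ s, f i) := by
  classical
  induction s using Finset.induction_on with
  | empty => simpa using ArtinComb.zero
  | insert a s ha ih =>
    rw [Finset.sum_insert ha]
    exact ArtinComb.add (h a (Finset.mem_insert_self a s))
      (ih (fun i hi => h i (Finset.mem_insert_of_mem hi)))

theorem ArtinComb.zsmul {f : G → ℂ} (z : ℤ) (hf : ArtinComb f) : ArtinComb ((z : ℂ) • f) := by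
  obtain ⟨l, h, rfl⟩ := hf
  refine ⟨l.map (fun t => ⟨t.1, (t.2.1, z * t.2.2)⟩), ?_, ?_⟩
  · intro t ht
    obtain ⟨s, hs, rfl⟩ := List.mem_map.mp ht
    exact h s hs
  · rw [List.smul_sum, List.map_map, List.map_map]
    congr 1
    apply List.map_congr_left
    intro t _
    simp only [Function.comp_apply, Int.cast_mul, smul_smul]

theorem ArtinComb.base (A : Subgroup G) (hA : IsCyclic A) (lam : A →* ℂˣ) :
    ArtinComb (Cfsg.indFun A (fun a => (lam a : ℂ))) :=
  ⟨[⟨A, (lam, 1)⟩], by simpa using hA, by simp⟩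

theorem ArtinComb.of_char (A : Subgroup G) (hA : IsCyclic A) {α : A → ℂ}
    (hα : Cfsg.IsCharacter A α) : ArtinComb (Cfsg.indFun A α) := by
  classical
  have := Fintype.ofFinite A
  have hcomm : ∀ a b : A, a * b = b * a := fun a b => hA.isMulCommutative.is_comm.comm a b
  rw [isCharacter_eq_sum_irrMult hα, indFun_sum]
  apply ArtinComb.sum
  intro ψ _
  rw [indFun_smul]
  obtain ⟨lam, hlam⟩ := irr_abelian_hom hcomm ψ ψ.2
  rw [hlam]
  have := ArtinComb.zsmul (irrMult α ψ : ℤ) (ArtinComb.base A hA lam)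
  simpa using this

theorem ArtinComb.of_genChar (A : Subgroup G) (hA : IsCyclic A) {θ : A → ℂ}
    (hθ : Cfsg.IsGeneralizedCharacter A θ) : ArtinComb (Cfsg.indFun A θ) := by
  obtain ⟨α, β, hα, hβ, rfl⟩ := hθ
  rw [indFun_sub]
  have h1 := ArtinComb.of_char A hA hα
  have h2 := ArtinComb.zsmul (-1) (ArtinComb.of_char A hA hβ)
  have := ArtinComb.add h1 h2
  convert this using 1
  simp [sub_eq_add_neg]

/-- Artin's induction theorem -/
theorem artin_induction (χ : G → ℂ) (hχ : Cfsg.IsCharacter G χ) :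
    ArtinComb ((Nat.card G : ℂ) • χ) := by
  classical
  rw [artin_sum χ (isClassFunction_of_isCharacter hχ)]
  apply ArtinComb.sum
  intro B _
  by_cases hB : IsCyclic B
  · apply ArtinComb.of_genChar B hB
    apply isGenChar_mul_char _ (isCharacter_restrict B hχ)
    rw [thetaSub_eq_genFun]
    have := Fintype.ofFinite B
    exact genFun_isGenChar _ B rfl
  · have h0 : thetaSub B = 0 := by
      funext b
      unfold thetaSub
      rw [if_neg]
      · rfl
      · intro h
        apply hB
        have : IsCyclic (Subgroup.zpowers (b : G)) := inferInstance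
        rwa [h] at this
    rw [h0, zero_mul, indFun_zero]
    exact ArtinComb.zero

end Artin

end Cfsg.Agent.Helper3
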