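import Mathlib
import Cfsg.Prelude.Def_Characters
import Cfsg.Agent.Lib.Helper3.CharArtin

set_option autoImplicit false
set_option linter.unusedSectionVars false

namespace Cfsg.Agent.Helper3

open Module Representation

section NormTwo

open scoped ComplexConjugate

universe u
variable {G : Type u} [Group G] [Fintype G]

theorem irr_one_pos (ψ : Cfsg.IrrCharacter G) : ∃ n : ℕ, 0 < n ∧ (ψ : G → ℂ) 1 = (n : ℂ) := by
  obtain ⟨n, ρ, hirr, h⟩ := ψ.2
  have hV := nontrivial_of_irr ρ
  refine ⟨n, ?_, ?_⟩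
  · have := Module.finrank_pos (R := ℂ) (M := Fin n → ℂ)
    simpa using this
  · rw [← h, Representation.char_one]; simp

theorem classInner_sub_right (φ ψ₁ ψ₂ : G → ℂ) :
    Cfsg.classInner φ (ψ₁ - ψ₂) = Cfsg.classInner φ ψ₁ - Cfsg.classInner φ ψ₂ := by
  simp only [Cfsg.classInner, Pi.sub_apply, map_sub, mul_sub, Finset.sum_sub_distrib]

theorem int_sq_cases (c : ℤ) : c ^ 2 = 0 ∨ c ^ 2 = 1 ∨ 4 ≤ c ^ 2 := by
  have h : c ≤ -2 ∨ c = -1 ∨ c = 0 ∨ c = 1 ∨ 2 ≤ c := by omega
  rcases h with h | h | h | h | h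
  · right; right; nlinarith
  · right; left; rw [h]; norm_num
  · left; rw [h]; norm_num
  · right; left; rw [h]; norm_num
  · right; right; nlinarith

/-- combinatorial lemma: integers whose squares sum to two -/
theorem sq_sum_eq_two {ι : Type*} [Fintype ι] [DecidableEq ι] (c : ι → ℤ)
    (h : ∑ i, c i ^ 2 = 2) :
    ∃ i j, i ≠ j ∧ c i ^ 2 = 1 ∧ c j ^ 2 = 1 ∧ ∀ k, k ≠ i → k ≠ j → c k = 0 := by
  have hnn : ∀ k, 0 ≤ c k ^ 2 := fun k => sq_nonneg _
  have hex : ∃ i, c i ≠ 0 := by
    by_contra hne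
    push Not at hne
    simp [hne] at h
  obtain ⟨i, hi⟩ := hex
  have hsplit := Finset.add_sum_erase Finset.univ (fun k => c k ^ 2) (Finset.mem_univ i)
  rw [h] at hsplit
  have hrest_nn : 0 ≤ ∑ k ∈ Finset.univ.erase i, c k ^ 2 := Finset.sum_nonneg (fun k _ => hnn k)
  have hi0 : c i ^ 2 ≠ 0 := pow_ne_zero 2 hi
  have hi1 : c i ^ 2 = 1 := by
    rcases int_sq_cases (c i) with h0 | h1 | h4
    · exact absurd h0 hi0
    · exact h1
    · omega
  have hrest : ∑ k ∈ Finset.univ.erase i, c k ^ 2 = 1 := by omega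
  have hex2 : ∃ j ∈ Finset.univ.erase i, c j ≠ 0 := by
    by_contra hne
    push Not at hne
    rw [Finset.sum_eq_zero (fun k hk => by rw [hne k hk]; norm_num)] at hrest
    exact zero_ne_one hrest
  obtain ⟨j, hj, hjne⟩ := hex2
  have hji : j ≠ i := (Finset.mem_erase.mp hj).1
  have hsplit2 := Finset.add_sum_erase (Finset.univ.erase i) (fun k => c k ^ 2) hj
  rw [hrest] at hsplit2
  have hrest2_nn : 0 ≤ ∑ k ∈ (Finset.univ.erase i).erase j, c k ^ 2 :=
    Finset.sum_nonneg (fun k _ => hnn k)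
  have hj0 : c j ^ 2 ≠ 0 := pow_ne_zero 2 hjne
  have hj1 : c j ^ 2 = 1 := by
    rcases int_sq_cases (c j) with h0 | h1 | h4
    · exact absurd h0 hj0
    · exact h1
    · omega
  have hrest2 : ∑ k ∈ (Finset.univ.erase i).erase j, c k ^ 2 = 0 := by omega
  refine ⟨i, j, hji.symm, hi1, hj1, ?_⟩
  intro k hki hkj
  have hk : k ∈ (Finset.univ.erase i).erase j :=
    Finset.mem_erase.mpr ⟨hkj, Finset.mem_erase.mpr ⟨hki, Finset.mem_univ k⟩⟩
  have := (Finset.sum_eq_zero_iff_of_nonneg (fun k _ => hnn k)).mp hrest2 k hk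
  exact pow_eq_zero_iff (two_ne_zero) |>.mp this

/-- a generalized character of norm two vanishing at the identity is a difference of two distinct
irreducible characters -/
theorem genChar_norm_two {Δ : G → ℂ} (hΔ : Cfsg.IsGeneralizedCharacter G Δ)
    (hnorm : Cfsg.classInner Δ Δ = 2) (h1 : Δ 1 = 0) :
    ∃ a b : Cfsg.IrrCharacter G, a ≠ b ∧ Δ = (a : G → ℂ) - (b : G → ℂ) := by
  classical
  obtain ⟨α, β, hα, hβ, rfl⟩ := hΔ
  set c : Cfsg.IrrCharacter G → ℤ := fun ψ => (irrMult α ψ : ℤ) - (irrMult β ψ : ℤ) with hc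
  have hexp : α - β = ∑ ψ : Cfsg.IrrCharacter G, ((c ψ : ℤ) : ℂ) • (ψ : G → ℂ) := by
    conv_lhs => rw [isCharacter_eq_sum_irrMult hα, isCharacter_eq_sum_irrMult hβ]
    rw [← Finset.sum_sub_distrib]
    apply Finset.sum_congr rfl
    intro ψ _
    simp only [hc]
    push_cast
    rw [sub_smul]
  have hsq : ∑ ψ, c ψ ^ 2 = 2 := by
    have h2 := hnorm
    rw [hexp, classInner_sum_irr] at h2
    have h3 : (∑ ψ : Cfsg.IrrCharacter G, ((c ψ : ℤ) : ℂ) * conj ((c ψ : ℤ) : ℂ))
        = ((∑ ψ, c ψ ^ 2 : ℤ) : ℂ) := by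
      push_cast
      apply Finset.sum_congr rfl
      intro ψ _
      rw [map_intCast]; ring
    rw [h3] at h2
    exact_mod_cast h2
  obtain ⟨i, j, hij, hi, hj, hothers⟩ := sq_sum_eq_two c hsq
  have hexp2 : α - β = ((c i : ℤ) : ℂ) • (i : G → ℂ) + ((c j : ℤ) : ℂ) • (j : G → ℂ) := by
    rw [hexp, ← Finset.add_sum_erase Finset.univ _ (Finset.mem_univ i),
      ← Finset.add_sum_erase (Finset.univ.erase i) _
        (Finset.mem_erase.mpr ⟨hij.symm, Finset.mem_univ j⟩)]
    rw [Finset.sum_eq_zero, add_zero]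
    intro k hk
    have hkj := (Finset.mem_erase.mp hk).1
    have hki := (Finset.mem_erase.mp (Finset.mem_erase.mp hk).2).1
    rw [hothers k hki hkj]; simp
  obtain ⟨ni, hni, hi1⟩ := irr_one_pos i
  obtain ⟨nj, hnj, hj1⟩ := irr_one_pos j
  have hval : (c i : ℤ) * (ni : ℤ) + (c j : ℤ) * (nj : ℤ) = 0 := by
    have := congrFun hexp2 1
    rw [h1] at this
    simp only [Pi.add_apply, Pi.smul_apply, smul_eq_mul, hi1, hj1] at this
    have h' : (((c i : ℤ) * (ni : ℤ) + (c j : ℤ) * (nj : ℤ) : ℤ) : ℂ) = 0 := by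
      push_cast; exact this.symm
    exact_mod_cast h'
  have hci : c i = 1 ∨ c i = -1 := by
    have : (c i - 1) * (c i + 1) = 0 := by ring_nf; omega
    rcases mul_eq_zero.mp this with h | h
    · left; omega
    · right; omega
  have hcj : c j = 1 ∨ c j = -1 := by
    have : (c j - 1) * (c j + 1) = 0 := by ring_nf; omega
    rcases mul_eq_zero.mp this with h | h
    · left; omega
    · right; omega
  have hni' : (0 : ℤ) < ni := by exact_mod_cast hni
  have hnj' : (0 : ℤ) < nj := by exact_mod_cast hnj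
  rcases hci with hci | hci <;> rcases hcj with hcj | hcj
  · rw [hci, hcj] at hval; omega
  · refine ⟨i, j, hij, ?_⟩
    rw [hexp2, hci, hcj]; simp [sub_eq_add_neg]
  · refine ⟨j, i, hij.symm, ?_⟩
    rw [hexp2, hci, hcj]; simp [sub_eq_add_neg, add_comm]
  · rw [hci, hcj] at hval; omega

end NormTwo

section Exceptional

universe u
variable {G : Type u} [Group G] [Fintype G]

theorem indFun_one (H : Subgroup G) (θ : H → ℂ) :
    Cfsg.indFun H θ 1 = (Nat.card H : ℂ)⁻¹ * ((Fintype.card G : ℂ) * θ 1) := by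
  rw [indFun_apply]
  congr 1
  have h : ∀ x : G, Cfsg.extendByZero H θ (x⁻¹ * 1 * x) = θ 1 := by
    intro x
    have : x⁻¹ * 1 * x = ((1 : H) : G) := by simp
    rw [this, extendByZero_mem]
  simp only [h, Finset.sum_const, Finset.card_univ, nsmul_eq_mul]

theorem irr_diff_inner_one {a b a' b' : Cfsg.IrrCharacter G} (hab : a ≠ b) (hab' : a' ≠ b')
    (h : Cfsg.classInner ((a : G → ℂ) - (b : G → ℂ)) ((a' : G → ℂ) - (b' : G → ℂ)) = 1) :
    (a = a' ∧ b ≠ b') ∨ (b = b' ∧ a ≠ a') := by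
  classical
  rw [classInner_sub_left, classInner_sub_right, classInner_sub_right,
    classInner_irr, classInner_irr, classInner_irr, classInner_irr] at h
  by_cases h1 : a = a'
  · left
    refine ⟨h1, ?_⟩
    intro h2
    subst h1; subst h2
    rw [if_pos rfl, if_neg hab, if_neg hab.symm, if_pos rfl] at h
    norm_num at h
  · right
    by_cases h2 : b = b'
    · exact ⟨h2, h1⟩
    · exfalso
      rw [if_neg h1, if_neg h2] at h
      split_ifs at h <;> norm_num at h

theorem exceptional_characters (S : Set G)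
    (hTI : ∀ g : G, g ∉ Subgroup.normalizer S → ∀ s ∈ S, g * s * g⁻¹ ∈ S → s = 1)
    (n : ℕ) (hn : 2 ≤ n) (χ : Fin n → (Subgroup.normalizer S → ℂ))
    (hirr : ∀ i, Cfsg.IsIrrCharacter (Subgroup.normalizer S) (χ i))
    (hinj : Function.Injective χ)
    (hvan : ∀ i, ∀ x : Subgroup.normalizer S, (x : G) ∉ S → χ i x = 0)
    (hdeg : ∀ i j, χ i 1 = χ j 1) :
    ∃ ε : ℂ, (ε = 1 ∨ ε = -1) ∧ ∃ θ : Fin n → (G → ℂ), (∀ i, Cfsg.IsIrrCharacter G (θ i)) ∧
      Function.Injective θ ∧ ∀ i j, Cfsg.indFun (Subgroup.normalizer S) (χ i) -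
        Cfsg.indFun (Subgroup.normalizer S) (χ j) = ε • (θ i - θ j) := by
  classical
  haveI : Fintype (Subgroup.normalizer S) := Fintype.ofFinite _
  let i₀ : Fin n := ⟨0, by omega⟩
  let i₁ : Fin n := ⟨1, by omega⟩
  have hi₁ : i₁ ≠ i₀ := by
    intro h
    have := congrArg Fin.val h
    simp [i₀, i₁] at this
  set D : Fin n → (G → ℂ) := fun k => Cfsg.indFun (Subgroup.normalizer S) (χ i₀ - χ k) with hD
  have hD0 : D i₀ = 0 := by simp [hD, indFun_zero]
  have hDsub : ∀ i j, Cfsg.indFun (Subgroup.normalizer S) (χ i) -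
      Cfsg.indFun (Subgroup.normalizer S) (χ j) = D j - D i := by
    intro i j
    simp only [hD, indFun_sub]; abel
  have hDgen : ∀ k, Cfsg.IsGeneralizedCharacter G (D k) := fun k =>
    isGenChar_indFun _ (isGenChar_sub
      (isGenChar_of_char (isCharacter_of_isIrrCharacter (hirr i₀)))
      (isGenChar_of_char (isCharacter_of_isIrrCharacter (hirr k))))
  have hD1 : ∀ k, D k 1 = 0 := by
    intro k
    simp only [hD]
    rw [indFun_one]
    simp [hdeg i₀ k]
  have hinnerN : ∀ k l, k ≠ i₀ → l ≠ i₀ →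
      Cfsg.classInner (χ i₀ - χ k) (χ i₀ - χ l) = if k = l then 2 else 1 := by
    intro k l hk hl
    rw [classInner_sub_left, classInner_sub_right, classInner_sub_right]
    rw [classInner_irr_self (hirr i₀),
      classInner_irr_ne (hirr i₀) (hirr l) (fun h => hl (hinj h).symm),
      classInner_irr_ne (hirr k) (hirr i₀) (fun h => hk (hinj h))]
    split_ifs with hkl
    · subst hkl; rw [classInner_irr_self (hirr k)]; norm_num
    · rw [classInner_irr_ne (hirr k) (hirr l) (fun h => hkl (hinj h))]; norm_num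
  have hinnerG : ∀ k l, k ≠ i₀ → l ≠ i₀ →
      Cfsg.classInner (D k) (D l) = if k = l then 2 else 1 := by
    intro k l hk hl
    rw [← hinnerN k l hk hl]
    exact indFun_isometry_on_ti S hTI _ _
      (IsClassFunction.sub (isClassFunction_of_isIrrCharacter (hirr i₀))
        (isClassFunction_of_isIrrCharacter (hirr l)))
      (fun x hx => by simp [hvan i₀ x hx, hvan k x hx])
      (fun x hx => by simp [hvan i₀ x hx, hvan l x hx])
      (by simp [hdeg i₀ k])
  have hex : ∀ k : Fin n, ∃ p : Cfsg.IrrCharacter G × Cfsg.IrrCharacter G,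
      k ≠ i₀ → p.1 ≠ p.2 ∧ D k = (p.1 : G → ℂ) - (p.2 : G → ℂ) := by
    intro k
    by_cases hk : k = i₀
    · exact ⟨(⟨_, isIrrCharacter_one⟩, ⟨_, isIrrCharacter_one⟩), fun h => absurd hk h⟩
    · have h2 : Cfsg.classInner (D k) (D k) = 2 := by rw [hinnerG k k hk hk, if_pos rfl]
      obtain ⟨a, b, hab, hDk⟩ := genChar_norm_two (hDgen k) h2 (hD1 k)
      exact ⟨(a, b), fun _ => ⟨hab, hDk⟩⟩
  choose p hp using hex
  set a : Fin n → Cfsg.IrrCharacter G := fun k => (p k).1 with ha
  set b : Fin n → Cfsg.IrrCharacter G := fun k => (p k).2 with hb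
  have hab : ∀ k, k ≠ i₀ → a k ≠ b k := fun k hk => (hp k hk).1
  have hDk : ∀ k, k ≠ i₀ → D k = (a k : G → ℂ) - (b k : G → ℂ) := fun k hk => (hp k hk).2
  have hdich : ∀ k l, k ≠ i₀ → l ≠ i₀ → k ≠ l →
      (a k = a l ∧ b k ≠ b l) ∨ (b k = b l ∧ a k ≠ a l) := by
    intro k l hk hl hkl
    apply irr_diff_inner_one (hab k hk) (hab l hl)
    rw [← hDk k hk, ← hDk l hl, hinnerG k l hk hl, if_neg hkl]
  by_cases hA : ∀ k l, k ≠ i₀ → l ≠ i₀ → a k = a l
  · refine ⟨1, Or.inl rfl, fun k => if k = i₀ then (a i₁ : G → ℂ) else (b k : G → ℂ), ?_, ?_, ?_⟩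
    · intro k
      by_cases hk : k = i₀
      · simp only [hk, if_true]; exact (a i₁).2
      · simp only [hk, if_false]; exact (b k).2
    · intro k l hkl
      by_cases hk : k = i₀ <;> by_cases hl : l = i₀
      · rw [hk, hl]
      · exfalso
        simp only [hk, hl, if_true, if_false] at hkl
        rw [hA i₁ l hi₁ hl] at hkl
        exact hab l hl (Subtype.ext hkl)
      · exfalso
        simp only [hk, hl, if_true, if_false] at hkl
        rw [hA i₁ k hi₁ hk] at hkl
        exact hab k hk (Subtype.ext hkl.symm)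
      · simp only [hk, hl, if_false] at hkl
        by_contra hne
        rcases hdich k l hk hl hne with ⟨_, h2⟩ | ⟨_, h2⟩
        · exact h2 (Subtype.ext hkl)
        · exact h2 (hA k l hk hl)
    · intro i j
      rw [hDsub, one_smul]
      by_cases hi : i = i₀ <;> by_cases hj : j = i₀
      · rw [hi, hj]; simp
      · simp only [hi, hj, if_true, if_false, hD0, sub_zero]
        rw [hDk j hj, hA i₁ j hi₁ hj]
      · simp only [hi, hj, if_true, if_false, hD0, zero_sub]
        rw [hDk i hi, hA i₁ i hi₁ hi]; abel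
      · simp only [hi, hj, if_false]
        rw [hDk i hi, hDk j hj, hA i j hi hj]; abel
  · push Not at hA
    obtain ⟨k₁, k₂, hk₁, hk₂, hne⟩ := hA
    have hk12 : k₁ ≠ k₂ := fun h => hne (by rw [h])
    have hb12 : b k₁ = b k₂ := by
      rcases hdich k₁ k₂ hk₁ hk₂ hk12 with ⟨h1, _⟩ | ⟨h1, _⟩
      · exact absurd h1 hne
      · exact h1
    have hB : ∀ k, k ≠ i₀ → b k = b k₁ := by
      intro k hk
      by_cases hkk₁ : k = k₁
      · rw [hkk₁]
      · rcases hdich k k₁ hk hk₁ hkk₁ with ⟨h1, h2⟩ | ⟨h1, _⟩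
        · exfalso
          have hkk₂ : k ≠ k₂ := fun h => hne (by rw [← h1, h])
          rcases hdich k k₂ hk hk₂ hkk₂ with ⟨h3, _⟩ | ⟨h3, _⟩
          · exact hne (by rw [← h1, h3])
          · exact h2 (by rw [h3, hb12])
        · exact h1
    refine ⟨-1, Or.inr rfl, fun k => if k = i₀ then (b k₁ : G → ℂ) else (a k : G → ℂ), ?_, ?_, ?_⟩
    · intro k
      by_cases hk : k = i₀
      · simp only [hk, if_true]; exact (b k₁).2
      · simp only [hk, if_false]; exact (a k).2
    · intro k l hkl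
      by_cases hk : k = i₀ <;> by_cases hl : l = i₀
      · rw [hk, hl]
      · exfalso
        simp only [hk, hl, if_true, if_false] at hkl
        rw [← hB l hl] at hkl
        exact hab l hl (Subtype.ext hkl.symm)
      · exfalso
        simp only [hk, hl, if_true, if_false] at hkl
        rw [← hB k hk] at hkl
        exact hab k hk (Subtype.ext hkl)
      · simp only [hk, hl, if_false] at hkl
        by_contra hne'
        rcases hdich k l hk hl hne' with ⟨_, h2⟩ | ⟨_, h2⟩
        · exact h2 (by rw [hB k hk, hB l hl])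
        · exact h2 (Subtype.ext hkl)
    · intro i j
      rw [hDsub]
      by_cases hi : i = i₀ <;> by_cases hj : j = i₀
      · rw [hi, hj]; simp
      · simp only [hi, hj, if_true, if_false, hD0, sub_zero]
        rw [hDk j hj, hB j hj]; simp
      · simp only [hi, hj, if_true, if_false, hD0, zero_sub]
        rw [hDk i hi, hB i hi]; simp
      · simp only [hi, hj, if_false]
        rw [hDk i hi, hDk j hj, hB i hi, hB j hj]
        simp only [neg_smul, one_smul]; abel

end Exceptional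

end Cfsg.Agent.Helper3
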