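import Mathlib
import Cfsg.Prelude.Def_Characters
import Cfsg.Agent.Lib.Helper3.CharExceptional

set_option autoImplicit false
set_option linter.unusedSectionVars false

namespace Cfsg.Agent.Helper3

open Module Representation

section Taketa

universe u
variable {G : Type u} [Group G] [Fintype G]

/-- value of a monomial character at an element all of whose conjugates lie in the kernel of the
linear character -/
theorem indFun_lin_of_conj_mem_ker (H : Subgroup G) (lam : H →* ℂˣ) (g : G)
    (hg : ∀ x : G, ∃ h : x⁻¹ * g * x ∈ H, lam ⟨_, h⟩ = 1) :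
    Cfsg.indFun H (fun h => (lam h : ℂ)) g = Cfsg.indFun H (fun h => (lam h : ℂ)) 1 := by
  rw [indFun_one, indFun_apply]
  congr 1
  have : ∀ x : G, Cfsg.extendByZero H (fun h => (lam h : ℂ)) (x⁻¹ * g * x) = 1 := by
    intro x
    obtain ⟨h, hl⟩ := hg x
    rw [extendByZero_of_mem H _ h, hl]; simp
  simp [this]

theorem mem_of_indFun_one_eq (H : Subgroup G) (g : G)
    (h : Cfsg.indFun H (fun _ => (1 : ℂ)) g = Cfsg.indFun H (fun _ => (1 : ℂ)) 1) : g ∈ H := by
  classical
  rw [indFun_one, indFun_apply] at h
  have hH : (Nat.card H : ℂ) ≠ 0 := by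
    have : Nat.card H ≠ 0 := Nat.card_pos.ne'
    exact_mod_cast this
  have h2 := mul_left_cancel₀ (inv_ne_zero hH) h
  have hext : ∀ y : G, Cfsg.extendByZero H (fun _ => (1 : ℂ)) y = if y ∈ H then 1 else 0 := by
    intro y
    split_ifs with hy
    · rw [extendByZero_of_mem H _ hy]
    · rw [extendByZero_not_mem H _ hy]
  simp only [hext, mul_one] at h2
  rw [Finset.sum_boole] at h2
  have h3 : (Finset.univ.filter (fun x : G => x⁻¹ * g * x ∈ H)).card = Fintype.card G := by
    exact_mod_cast h2
  have h4 := (Finset.card_eq_iff_eq_univ _).mp h3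
  have : (1 : G) ∈ Finset.univ.filter (fun x : G => x⁻¹ * g * x ∈ H) := by
    rw [h4]; exact Finset.mem_univ _
  simpa using this

theorem taketa
    (hM : ∀ χ : G → ℂ, Cfsg.IsIrrCharacter G χ →
      ∃ (H : Subgroup G) (lam : H →* ℂˣ), χ = Cfsg.indFun H (fun h => (lam h : ℂ))) :
    Group.IsSolvable G := by
  classical
  choose deg hdegpos hdeg using
    (irr_one_pos : ∀ ψ : Cfsg.IrrCharacter G, ∃ n : ℕ, 0 < n ∧ (ψ : G → ℂ) 1 = (n : ℂ))
  have key : ∀ d : ℕ, ∃ k : ℕ, ∀ a : Cfsg.IrrCharacter G, deg a ≤ d →
      ∀ g ∈ derivedSeries G k, (a : G → ℂ) g = (a : G → ℂ) 1 := by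
    intro d
    induction d with
    | zero => exact ⟨0, fun a ha => absurd (hdegpos a) (by omega)⟩
    | succ d ih =>
      obtain ⟨k, hk⟩ := ih
      refine ⟨k + 1, ?_⟩
      intro a ha g hg
      have hmono : derivedSeries G (k + 1) ≤ derivedSeries G k :=
        derivedSeries_antitone G (Nat.le_succ k)
      rcases Nat.lt_or_ge (deg a) (d + 1) with hlt | hge
      · exact hk a (by omega) g (hmono hg)
      · have hda : deg a = d + 1 := by omega
        obtain ⟨H, lam, hχ⟩ := hM a a.2
        haveI : Fintype H := Fintype.ofFinite _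
        have hidx : (Nat.card H : ℂ)⁻¹ * (Fintype.card G : ℂ) = ((d + 1 : ℕ) : ℂ) := by
          have := hdeg a
          rw [hχ, indFun_one] at this
          simpa [hda] using this
        set ψ := Cfsg.indFun H (fun _ => (1 : ℂ)) with hψ
        have hψchar : Cfsg.IsCharacter G ψ := isCharacter_indFun H _ isCharacter_one
        have hψ1 : ψ 1 = ((d + 1 : ℕ) : ℂ) := by
          rw [hψ, indFun_one, mul_one]; exact hidx
        let one : Cfsg.IrrCharacter G := ⟨_, isIrrCharacter_one⟩
        have hm1 : irrMult ψ one = 1 := by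
          have := irrMult_spec hψchar one
          rw [hψ, frobenius_reciprocity H _ _ (isClassFunction_of_isIrrCharacter one.2)] at this
          have h1 : Cfsg.classInner (fun _ : H => (1 : ℂ)) (fun h : H => (one : G → ℂ) h) = 1 :=
            classInner_irr_self isIrrCharacter_one
          rw [h1] at this
          exact_mod_cast this.symm
        have hψsum := isCharacter_eq_sum_irrMult hψchar
        have hsum : d + 1 = ∑ c, irrMult ψ c * deg c := by
          have := congrFun hψsum 1
          rw [hψ1] at this
          simp only [Finset.sum_apply, Pi.smul_apply, smul_eq_mul, hdeg] at this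
          exact_mod_cast this
        have hsmall : ∀ c : Cfsg.IrrCharacter G, irrMult ψ c ≠ 0 → c ≠ one → deg c ≤ d := by
          intro c hc hne
          have h2 : irrMult ψ one * deg one + irrMult ψ c * deg c ≤ ∑ c, irrMult ψ c * deg c := by
            have := Finset.sum_le_sum_of_subset (f := fun c => irrMult ψ c * deg c)
              (Finset.subset_univ {one, c})
            rw [Finset.sum_pair hne.symm] at this
            exact this
          have h3 : 1 ≤ irrMult ψ c := Nat.one_le_iff_ne_zero.mpr hc
          have h4 := hdegpos one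
          rw [hm1] at h2
          nlinarith
        have hkH : derivedSeries G k ≤ H := by
          intro y hy
          apply mem_of_indFun_one_eq
          have e1 := congrFun hψsum y
          have e2 := congrFun hψsum 1
          change ψ y = ψ 1
          rw [e1, e2]
          simp only [Finset.sum_apply, Pi.smul_apply]
          apply Finset.sum_congr rfl
          intro c _
          by_cases hc : irrMult ψ c = 0
          · simp [hc]
          · by_cases hc1 : c = one
            · rw [hc1]
            · rw [hk c (hsmall c hc hc1) y hy]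
        have hle : derivedSeries G (k + 1) ≤ (lam.ker).map H.subtype := by
          rw [derivedSeries_succ, Subgroup.commutator_le]
          intro g₁ h₁ g₂ h₂
          rw [Subgroup.mem_map]
          let a₁ : H := ⟨g₁, hkH h₁⟩
          let a₂ : H := ⟨g₂, hkH h₂⟩
          refine ⟨a₁ * a₂ * a₁⁻¹ * a₂⁻¹, ?_, rfl⟩
          rw [MonoidHom.mem_ker]
          simp only [map_mul, map_inv]
          rw [mul_comm (lam a₁) (lam a₂)]
          simp
        rw [hχ]
        apply indFun_lin_of_conj_mem_ker
        intro x
        have hnorm : x⁻¹ * g * x ∈ derivedSeries G (k + 1) := by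
          have := (derivedSeries_normal G (k + 1)).conj_mem g hg x⁻¹
          simpa using this
        obtain ⟨z, hz, hzeq⟩ := hle hnorm
        have hzH : x⁻¹ * g * x ∈ H := by rw [← hzeq]; exact z.2
        refine ⟨hzH, ?_⟩
        have : (⟨x⁻¹ * g * x, hzH⟩ : H) = z := Subtype.ext hzeq.symm
        rw [this]
        exact hz
  obtain ⟨k, hk⟩ := key (Finset.univ.sup deg)
  rw [Group.isSolvable_def]
  refine ⟨k, ?_⟩
  rw [eq_bot_iff]
  intro g hg
  rw [Subgroup.mem_bot]
  have hconj : IsConj g 1 := by
    rw [isConj_iff_forall_irr]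
    intro χ
    exact hk χ (Finset.le_sup (Finset.mem_univ χ)) g hg
  exact isConj_one_left.mp hconj

end Taketa

end Cfsg.Agent.Helper3
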