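import Mathlib
import Cfsg.Prelude.Def_Characters
import Cfsg.Agent.Lib.Helper3.CharMonomial
import Cfsg.Agent.Lib.Helper81.CharCorr

set_option autoImplicit false
set_option linter.unusedSectionVars false
set_option linter.style.haveILetI false

namespace Cfsg.Agent.Helper3

open Module Representation

section Inflation

universe u
variable {G : Type u} [Group G] [Fintype G]

/-- fibre-sum over a quotient group -/
theorem sum_comp_quotient_mk (K : Subgroup G) [K.Normal] [Fintype (G ⧸ K)] (F : G ⧸ K → ℂ) :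
    ∑ x : G, F (x : G ⧸ K) = (Nat.card K : ℂ) * ∑ q : G ⧸ K, F q := by
  classical
  haveI : Fintype K := Fintype.ofFinite _
  let e : (G ⧸ K) × K → G := fun p => p.1.out * (p.2 : G)
  have hmk : ∀ (q : G ⧸ K) (k : K), ((e (q, k) : G) : G ⧸ K) = q := by
    intro q k
    simp only [e]
    rw [QuotientGroup.mk_mul_of_mem _ k.2]
    exact QuotientGroup.out_eq' q
  have he : Function.Bijective e := by
    constructor
    · rintro ⟨q₁, k₁⟩ ⟨q₂, k₂⟩ h
      have hq : q₁ = q₂ := by
        have := congrArg (QuotientGroup.mk (s := K)) h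
        rw [hmk, hmk] at this
        exact this
      subst hq
      have hk : (k₁ : G) = k₂ := mul_left_cancel h
      exact Prod.ext rfl (Subtype.ext hk)
    · intro x
      refine ⟨((x : G ⧸ K), ⟨((x : G ⧸ K)).out⁻¹ * x, ?_⟩), ?_⟩
      · rw [← QuotientGroup.eq]
        exact QuotientGroup.out_eq' _
      · simp [e]
  rw [← Function.Bijective.sum_comp he (fun x => F (x : G ⧸ K))]
  rw [Fintype.sum_prod_type]
  simp only [hmk, Finset.sum_const, Finset.card_univ, nsmul_eq_mul]
  rw [← Finset.mul_sum, Nat.card_eq_fintype_card]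

/-- induction commutes with inflation along a quotient map -/
theorem indFun_inflate (K : Subgroup G) [K.Normal] [Fintype (G ⧸ K)] (Hb : Subgroup (G ⧸ K))
    (f : Hb → ℂ) (g : G) :
    Cfsg.indFun (Hb.comap (QuotientGroup.mk' K))
      (fun h => f ⟨QuotientGroup.mk' K (h : G), Subgroup.mem_comap.mp h.2⟩) g
      = Cfsg.indFun Hb f (QuotientGroup.mk' K g) := by
  classical
  set π := QuotientGroup.mk' K with hπ
  have hext : ∀ y : G, Cfsg.extendByZero (Hb.comap π)
      (fun h => f ⟨π (h : G), Subgroup.mem_comap.mp h.2⟩) y =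
      Cfsg.extendByZero Hb f (π y) := by
    intro y
    by_cases hy : y ∈ Hb.comap π
    · have hy' : π y ∈ Hb := Subgroup.mem_comap.mp hy
      rw [extendByZero_of_mem _ _ hy, extendByZero_of_mem _ _ hy']
    · have hy' : π y ∉ Hb := fun h => hy (Subgroup.mem_comap.mpr h)
      rw [extendByZero_not_mem _ _ hy, extendByZero_not_mem _ _ hy']
  rw [indFun_apply, indFun_apply]
  simp only [hext, map_mul, map_inv]
  have h2 := sum_comp_quotient_mk K (fun q => Cfsg.extendByZero Hb f (q⁻¹ * π g * q))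
  have h3 : ∑ x : G, Cfsg.extendByZero Hb f ((π x)⁻¹ * π g * π x) =
      ∑ x : G, (fun q => Cfsg.extendByZero Hb f (q⁻¹ * π g * q)) (x : G ⧸ K) := rfl
  rw [h3, h2]
  have hcard : (Nat.card (Hb.comap π) : ℂ) = (Nat.card K : ℂ) * (Nat.card Hb : ℂ) := by
    have := QuotientGroup.card_preimage_mk K (Hb : Set (G ⧸ K))
    have h2 : Nat.card (Hb.comap π) = Nat.card K * Nat.card Hb := this
    rw [h2]; push_cast; ring
  rw [hcard]
  have hK : (Nat.card K : ℂ) ≠ 0 := by
    have : Nat.card K ≠ 0 := Nat.card_pos.ne'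
    exact_mod_cast this
  have hHb : (Nat.card Hb : ℂ) ≠ 0 := by
    have : Nat.card Hb ≠ 0 := Nat.card_pos.ne'
    exact_mod_cast this
  field_simp

end Inflation

section QuotRep

universe u v w
variable {G : Type u} [Group G]

/-- if a composite `σ ∘ φ` is irreducible then so is `σ` -/
theorem isIrreducible_of_comp {Q : Type w} [Group Q] {V : Type v} [AddCommGroup V]
    [Module ℂ V] (σ : Representation ℂ Q V) (φ : G →* Q)
    (h : Representation.IsIrreducible (σ.comp φ : Representation ℂ G V)) :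
    Representation.IsIrreducible σ := by
  have key : ∀ U : Subrepresentation σ, ∃ U' : Subrepresentation (σ.comp φ : Representation ℂ G V),
      U'.toSubmodule = U.toSubmodule := by
    intro U
    refine ⟨⟨U.toSubmodule, ?_⟩, rfl⟩
    intro g v hv
    exact U.apply_mem_toSubmodule (φ g) hv
  refine { exists_pair_ne := ⟨⊥, ⊤, ?_⟩, eq_bot_or_eq_top := ?_ }
  · intro h'
    have h1 : (⊥ : Subrepresentation (σ.comp φ : Representation ℂ G V)) ≠ ⊤ := bot_ne_top
    apply h1
    apply Subrepresentation.toSubmodule_injective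
    have h2 := congrArg Subrepresentation.toSubmodule h'
    exact h2
  · intro U
    obtain ⟨U', hU'⟩ := key U
    rcases h.eq_bot_or_eq_top U' with h' | h'
    · left
      apply Subrepresentation.toSubmodule_injective
      rw [← hU', h']; rfl
    · right
      apply Subrepresentation.toSubmodule_injective
      rw [← hU', h']; rfl

/-- an irreducible character with kernel containing the normal subgroup `K` descends to `G/K` -/
theorem isIrrCharacter_quotient [Finite G] (K : Subgroup G) [K.Normal] {χ : G → ℂ}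
    (hχ : Cfsg.IsIrrCharacter G χ) (hK : ∀ k ∈ K, χ k = χ 1) :
    ∃ χb : G ⧸ K → ℂ, Cfsg.IsIrrCharacter (G ⧸ K) χb ∧ ∀ g : G, χ g = χb (QuotientGroup.mk' K g) := by
  obtain ⟨n, ρ, hirr, rfl⟩ := hχ
  have hker : K ≤ MonoidHom.ker ρ := by
    intro k hk
    rw [MonoidHom.mem_ker]
    have h1 := hK k hk
    rw [Representation.char_one] at h1
    exact (char_eq_finrank_iff ρ k).mp h1
  let σ : Representation ℂ (G ⧸ K) (Fin n → ℂ) := QuotientGroup.lift K ρ hker
  have hcomp : (σ.comp (QuotientGroup.mk' K) : Representation ℂ G (Fin n → ℂ)) = ρ := by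
    ext g : 1
    simp [σ]
  have hσ : Representation.IsIrreducible σ := by
    apply isIrreducible_of_comp σ (QuotientGroup.mk' K)
    rw [hcomp]; exact hirr
  refine ⟨σ.character, ⟨n, σ, hσ, rfl⟩, ?_⟩
  intro g
  unfold Representation.character
  simp [σ]

end QuotRep

section MonoQuot

universe u
variable {G : Type u} [Group G] [Fintype G]

theorem monomial_of_quotient (K : Subgroup G) [K.Normal] [Fintype (G ⧸ K)] {χ : G → ℂ}
    {χb : G ⧸ K → ℂ} (hχ : ∀ g, χ g = χb (QuotientGroup.mk' K g))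
    (hmon : ∃ (Hb : Subgroup (G ⧸ K)) (lam : Hb →* ℂˣ),
      χb = Cfsg.indFun Hb (fun h => (lam h : ℂ))) :
    ∃ (H : Subgroup G) (lam : H →* ℂˣ), χ = Cfsg.indFun H (fun h => (lam h : ℂ)) := by
  obtain ⟨Hb, lam, hb⟩ := hmon
  refine ⟨Hb.comap (QuotientGroup.mk' K), lam.comp ((QuotientGroup.mk' K).subgroupComap Hb), ?_⟩
  funext g
  rw [hχ g, hb]
  exact (indFun_inflate K Hb (fun h => (lam h : ℂ)) g).symm

end MonoQuot

section MonoInd

universe u
variable {G : Type u} [Group G] [Fintype G]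

theorem indFun_congr_subgroup {H₁ H₂ : Subgroup G} (h : H₁ = H₂)
    (f₁ : H₁ → ℂ) (f₂ : H₂ → ℂ)
    (hf : ∀ (x : G) (h₁ : x ∈ H₁) (h₂ : x ∈ H₂), f₁ ⟨x, h₁⟩ = f₂ ⟨x, h₂⟩) :
    Cfsg.indFun H₁ f₁ = Cfsg.indFun H₂ f₂ := by
  subst h
  congr 1
  funext ⟨x, hx⟩
  exact hf x hx hx

theorem monomial_of_induced (T : Subgroup G) [Fintype T] {ψ : T → ℂ}
    (hmon : ∃ (H' : Subgroup T) (lam : H' →* ℂˣ), ψ = Cfsg.indFun H' (fun h => (lam h : ℂ))) :
    ∃ (H : Subgroup G) (lam : H →* ℂˣ),
      Cfsg.indFun T ψ = Cfsg.indFun H (fun h => (lam h : ℂ)) := by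
  obtain ⟨H', lam', rfl⟩ := hmon
  let e := H'.equivMapOfInjective T.subtype T.subtype_injective
  refine ⟨H'.map T.subtype, lam'.comp e.symm.toMonoidHom, ?_⟩
  have hle : H'.map T.subtype ≤ T := by
    rintro _ ⟨x, _, rfl⟩; exact x.2
  rw [← indFun_trans (H'.map T.subtype) T hle]
  congr 1
  apply indFun_congr_subgroup
  · ext x
    simp [Subgroup.mem_subgroupOf]
  · intro x h₁ h₂
    simp only [MonoidHom.comp_apply]
    congr 2
    change (⟨x, h₁⟩ : H') = e.symm _
    rw [MulEquiv.eq_symm_apply]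
    apply Subtype.ext
    rfl

end MonoInd

section Faithful

open Cfsg.Agent.Helper81

universe u
variable {G : Type u} [Group G] [Fintype G]

/-- the inertia subgroup of a function on a normal subgroup -/
def inertiaSubgroup (N : Subgroup G) (hN : N.Normal) (θ : N → ℂ) : Subgroup G where
  carrier := {g | conjFun N hN θ g = θ}
  one_mem' := conjFun_one N hN θ
  mul_mem' := by
    intro a b ha hb
    simp only [Set.mem_ofPred_eq] at ha hb ⊢
    rw [← conjFun_mul, ha, hb]
  inv_mem' := by
    intro a ha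
    simp only [Set.mem_ofPred_eq] at ha ⊢
    have h := conjFun_mul N hN θ a a⁻¹
    rw [ha, mul_inv_cancel, conjFun_one] at h
    exact h

theorem mem_inertiaSubgroup (N : Subgroup G) (hN : N.Normal) (θ : N → ℂ) (g : G) :
    g ∈ inertiaSubgroup N hN θ ↔ conjFun N hN θ g = θ := Iff.rfl

theorem le_inertiaSubgroup (N : Subgroup G) (hN : N.Normal) {θ : N → ℂ}
    (hθ : Cfsg.IsClassFunction N θ) : N ≤ inertiaSubgroup N hN θ := by
  intro a ha
  rw [mem_inertiaSubgroup]
  funext n
  rw [conjFun_apply]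
  exact hθ n ⟨a, ha⟩

theorem exists_abelian_normal_noncentral [Group.IsNilpotent G]
    (hnc : ¬ ∀ a b : G, a * b = b * a) :
    ∃ (A : Subgroup G), A.Normal ∧ (∀ a b : A, a * b = b * a) ∧
      ∃ g ∈ A, g ∉ Subgroup.center G := by
  classical
  have hZ : Subgroup.center G ≠ ⊤ := by
    intro h
    apply hnc
    intro a b
    have : b ∈ Subgroup.center G := by rw [h]; exact Subgroup.mem_top b
    exact (Subgroup.mem_center_iff.mp this a)
  haveI : Nontrivial (G ⧸ Subgroup.center G) := QuotientGroup.nontrivial_iff.mpr hZ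
  have hc := Group.IsNilpotent.center_ne_bot (G := G ⧸ Subgroup.center G)
  obtain ⟨⟨zb, hzb⟩, hne⟩ := (Subgroup.ne_bot_iff_exists_ne_one).mp hc
  obtain ⟨g, rfl⟩ := QuotientGroup.mk_surjective zb
  have hg : g ∉ Subgroup.center G := by
    intro h
    apply hne
    apply Subtype.ext
    exact (QuotientGroup.eq_one_iff g).mpr h
  let π := QuotientGroup.mk' (Subgroup.center G)
  let Ab : Subgroup (G ⧸ Subgroup.center G) := Subgroup.zpowers (π g)
  have hAbn : Ab.Normal := by
    constructor
    intro n hn x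
    have hncen : n ∈ Subgroup.center (G ⧸ Subgroup.center G) := by
      obtain ⟨i, rfl⟩ := Subgroup.mem_zpowers_iff.mp hn
      exact Subgroup.zpow_mem _ hzb i
    have : x * n * x⁻¹ = n := by
      rw [Subgroup.mem_center_iff.mp hncen x]
      group
    rw [this]; exact hn
  refine ⟨Ab.comap π, hAbn.comap π, ?_, g, ?_, hg⟩
  · have hrep : ∀ a ∈ Ab.comap π, ∃ i : ℤ, ∃ z ∈ Subgroup.center G, a = g ^ i * z := by
      intro a ha
      obtain ⟨i, hi⟩ := Subgroup.mem_zpowers_iff.mp (Subgroup.mem_comap.mp ha)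
      refine ⟨i, (g ^ i)⁻¹ * a, ?_, by group⟩
      rw [← QuotientGroup.eq]
      have : π (g ^ i) = π a := by rw [map_zpow]; exact hi
      exact this
    rintro ⟨a, ha⟩ ⟨b, hb⟩
    apply Subtype.ext
    obtain ⟨i, z₁, hz₁, rfl⟩ := hrep a ha
    obtain ⟨j, z₂, hz₂, rfl⟩ := hrep b hb
    change g ^ i * z₁ * (g ^ j * z₂) = g ^ j * z₂ * (g ^ i * z₁)
    have c1 := Subgroup.mem_center_iff.mp hz₁
    have c2 := Subgroup.mem_center_iff.mp hz₂
    have hL : g ^ i * z₁ * (g ^ j * z₂) = (g ^ i * g ^ j) * (z₁ * z₂) := by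
      calc g ^ i * z₁ * (g ^ j * z₂) = g ^ i * (z₁ * g ^ j) * z₂ := by group
        _ = g ^ i * (g ^ j * z₁) * z₂ := by rw [← c1 (g ^ j)]
        _ = (g ^ i * g ^ j) * (z₁ * z₂) := by group
    have hR : g ^ j * z₂ * (g ^ i * z₁) = (g ^ j * g ^ i) * (z₂ * z₁) := by
      calc g ^ j * z₂ * (g ^ i * z₁) = g ^ j * (z₂ * g ^ i) * z₁ := by group
        _ = g ^ j * (g ^ i * z₂) * z₁ := by rw [← c2 (g ^ i)]
        _ = (g ^ j * g ^ i) * (z₂ * z₁) := by group
    have hcomm : g ^ i * g ^ j = g ^ j * g ^ i := by rw [← zpow_add, ← zpow_add, add_comm]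
    rw [hL, hR, hcomm, c2 z₁]
  · exact Subgroup.mem_comap.mpr (Subgroup.mem_zpowers _)

theorem faithful_step [Group.IsNilpotent G] {χ : G → ℂ} (hχ : Cfsg.IsIrrCharacter G χ)
    (hfaith : ∀ g : G, χ g = χ 1 → g = 1) (hnc : ¬ ∀ a b : G, a * b = b * a) :
    ∃ (T : Subgroup G), T ≠ ⊤ ∧ ∃ ψ : T → ℂ, Cfsg.IsIrrCharacter T ψ ∧
      Cfsg.indFun T ψ = χ := by
  classical
  obtain ⟨A, hAn, hAc, g, hgA, hgZ⟩ := exists_abelian_normal_noncentral hnc
  haveI : Fintype A := Fintype.ofFinite _
  have hχA : Cfsg.IsCharacter A (fun a : A => χ a) :=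
    isCharacter_restrict A (isCharacter_of_isIrrCharacter hχ)
  have hχA0 : (fun a : A => χ a) ≠ 0 := by
    intro h
    have h1 := congrFun h 1
    obtain ⟨n, hn, hn1⟩ := irr_one_pos ⟨χ, hχ⟩
    simp only [OneMemClass.coe_one, Pi.zero_apply] at h1
    change χ 1 = (n : ℂ) at hn1
    rw [hn1] at h1
    have : n = 0 := by exact_mod_cast h1
    omega
  obtain ⟨θ, hθ, hne⟩ := exists_irr_constituent hχA hχA0
  obtain ⟨lam, hlam⟩ := irr_abelian_hom hAc θ hθ
  set T := inertiaSubgroup A hAn θ with hT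
  haveI : Fintype T := Fintype.ofFinite _
  refine ⟨T, ?_, ?_⟩
  · intro htop
    have hall : ∀ x : G, conjFun A hAn θ x = θ := fun x => by
      have : x ∈ T := by rw [htop]; exact Subgroup.mem_top x
      exact this
    have hset : conjSet A hAn θ = {θ} := by
      ext φ
      simp only [conjSet, Set.mem_ofPred_eq, Set.mem_singleton_iff]
      constructor
      · rintro ⟨x, rfl⟩; exact hall x
      · rintro rfl; exact ⟨1, (conjFun_one A hAn φ).symm⟩
    have hcl := clifford A hAn hχ hθ hne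
    rw [hset, finsum_mem_singleton] at hcl
    set e := Cfsg.classInner (fun a : A => χ a) θ with he_def
    have hval : ∀ a : A, χ a = e * θ a := fun a => by
      have := congrFun hcl a
      simpa using this
    have hθ1 : θ 1 = 1 := by rw [hlam]; simp
    have he : χ 1 = e := by
      have := hval 1
      simpa [hθ1] using this
    have hnormθ : ‖θ ⟨g, hgA⟩‖ = 1 := by
      rw [hlam]
      have hpow : (lam ⟨g, hgA⟩ : ℂ) ^ (Fintype.card A) = 1 := by
        rw [← Units.val_pow_eq_pow_val, ← map_pow, pow_card_eq_one, map_one, Units.val_one]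
      exact Complex.norm_eq_one_of_pow_eq_one hpow Fintype.card_ne_zero
    have hnorm : ‖χ g‖ = ‖χ 1‖ := by
      have := hval ⟨g, hgA⟩
      simp only at this
      rw [this, norm_mul, hnormθ, mul_one, he]
    obtain ⟨n, ρ, hirr, hρ⟩ := hχ
    subst hρ
    have h1 : ‖ρ.character g‖ = (finrank ℂ (Fin n → ℂ) : ℝ) := by
      rw [hnorm, Representation.char_one]; simp
    obtain ⟨ω, hω⟩ := (norm_char_eq_iff ρ g).mp h1
    apply hgZ
    rw [Subgroup.mem_center_iff]
    intro x
    have h2 : ρ (x * g) = ρ (g * x) := by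
      rw [map_mul, map_mul, hω]
      ext v i
      simp
    have hinj : ∀ a b : G, ρ a = ρ b → a = b := by
      intro a b hab
      have : ρ (a * b⁻¹) = 1 := by rw [map_mul, hab, ← map_mul, mul_inv_cancel, map_one]
      have h3 : ρ.character (a * b⁻¹) = ρ.character 1 := by
        unfold Representation.character; rw [this, map_one ρ]
      have := hfaith _ h3
      exact mul_inv_eq_one.mp this
    exact hinj _ _ h2
  · have hT' : ∀ x : G, x ∈ T ↔ conjFun A hAn θ x = θ :=
      fun x => mem_inertiaSubgroup A hAn θ x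
    have hAT : A ≤ T := le_inertiaSubgroup A hAn (isClassFunction_of_isIrrCharacter hθ)
    obtain ⟨ψ, hψ, hind, _⟩ := clifford_corr_surj A T hAn hAT hθ hT' hχ hne
    exact ⟨ψ, hψ, hind⟩

end Faithful

section Main

universe u

theorem monomial_of_comm {G : Type u} [Group G] [Fintype G] (hc : ∀ a b : G, a * b = b * a)
    {χ : G → ℂ} (hχ : Cfsg.IsIrrCharacter G χ) :
    ∃ (H : Subgroup G) (lam : H →* ℂˣ), χ = Cfsg.indFun H (fun h => (lam h : ℂ)) := by
  obtain ⟨lam, hlam⟩ := irr_abelian_hom hc χ hχ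
  refine ⟨⊤, lam.comp (⊤ : Subgroup G).subtype, ?_⟩
  conv_lhs => rw [← indFun_top χ (isClassFunction_of_isIrrCharacter hχ)]
  congr 1
  funext t
  rw [hlam]
  rfl

theorem nilpotent_monomial_aux : ∀ (N : ℕ) (G : Type u) [Group G] [Fintype G]
    [Group.IsNilpotent G], Fintype.card G = N → ∀ χ : G → ℂ, Cfsg.IsIrrCharacter G χ →
    ∃ (H : Subgroup G) (lam : H →* ℂˣ), χ = Cfsg.indFun H (fun h => (lam h : ℂ)) := by
  intro N
  induction N using Nat.strong_induction_on with
  | _ N ih =>
    intro G _ _ _ hN χ hχ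
    classical
    by_cases hfaith : ∀ g : G, χ g = χ 1 → g = 1
    · by_cases hc : ∀ a b : G, a * b = b * a
      · exact monomial_of_comm hc hχ
      · obtain ⟨T, hT, ψ, hψ, hind⟩ := faithful_step hχ hfaith hc
        haveI : Fintype T := Fintype.ofFinite _
        have hcard : Fintype.card T < N := by
          rw [← hN, ← Nat.card_eq_fintype_card, ← Nat.card_eq_fintype_card]
          have h1 : Nat.card T ≤ Nat.card G := Subgroup.card_le_card_group T
          have h2 : Nat.card T ≠ Nat.card G := fun h => hT (Subgroup.eq_top_of_card_eq T h)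
          omega
        have hmon := ih (Fintype.card T) hcard T rfl ψ hψ
        obtain ⟨H, lam, h⟩ := monomial_of_induced T hmon
        exact ⟨H, lam, hind ▸ h⟩
    · push Not at hfaith
      obtain ⟨k, hk, hk1⟩ := hfaith
      obtain ⟨n, ρ, hirr, hρ⟩ := id hχ
      let K : Subgroup G := MonoidHom.ker ρ
      have hKmem : ∀ x ∈ K, χ x = χ 1 := by
        intro x hx
        rw [← hρ]
        unfold Representation.character
        rw [MonoidHom.mem_ker.mp hx, map_one ρ]
      have hkK : k ∈ K := by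
        rw [MonoidHom.mem_ker]
        have h1 := hk
        rw [← hρ, Representation.char_one] at h1
        exact (char_eq_finrank_iff ρ k).mp h1
      have hKbot : K ≠ ⊥ := by
        intro h
        rw [h, Subgroup.mem_bot] at hkK
        exact hk1 hkK
      haveI : Fintype (G ⧸ K) := Fintype.ofFinite _
      obtain ⟨χb, hχb, hval⟩ := isIrrCharacter_quotient K hχ hKmem
      have hcard : Fintype.card (G ⧸ K) < N := by
        rw [← hN, ← Nat.card_eq_fintype_card, ← Nat.card_eq_fintype_card]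
        have h1 := Subgroup.card_eq_card_quotient_mul_card_subgroup K
        have h2 : 1 < Nat.card K := (Subgroup.one_lt_card_iff_ne_bot K).mpr hKbot
        have h3 : 0 < Nat.card (G ⧸ K) := Nat.card_pos
        nlinarith
      have hmon := ih (Fintype.card (G ⧸ K)) hcard (G ⧸ K) rfl χb hχb
      exact monomial_of_quotient K hval hmon

theorem nilpotent_monomial {G : Type u} [Group G] [Fintype G] [Group.IsNilpotent G]
    (χ : G → ℂ) (hχ : Cfsg.IsIrrCharacter G χ) :
    ∃ (H : Subgroup G) (lam : H →* ℂˣ), χ = Cfsg.indFun H (fun h => (lam h : ℂ)) :=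
  nilpotent_monomial_aux (Fintype.card G) G rfl χ hχ

end Main

end Cfsg.Agent.Helper3
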