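import Mathlib
import Cfsg.Prelude.Def_Characters
import Cfsg.Agent.Lib.Helper3.CharRegular

set_option autoImplicit false
set_option linter.unusedSectionVars false

namespace Cfsg.Agent.Helper3

open Module Representation

section Integral

open scoped ComplexConjugate

universe u
variable {G : Type u} [Group G] [Fintype G]
variable {V : Type*} [AddCommGroup V] [Module ℂ V] [FiniteDimensional ℂ V]

/-- If `∑ c g • ρ g` is the scalar `lam` (on a nonzero space) and the `c g` are algebraic
integers, then `lam` is an algebraic integer. -/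
theorem isIntegral_of_opSum_eq_smul [Nontrivial V] (ρ : Representation ℂ G V) (c : G → ℂ)
    (hc : ∀ g, IsIntegral ℤ (c g)) (lam : ℂ) (h : opSum ρ c = lam • (1 : Module.End ℂ V)) :
    IsIntegral ℤ lam := by
  let O : Subalgebra ℤ ℂ := integralClosure ℤ ℂ
  let N : Submodule O (Module.End ℂ V) := Submodule.span O (Set.range ρ)
  have hN0 : N ≠ ⊥ := by
    intro hbot
    have h1 : (1 : Module.End ℂ V) ∈ N := Submodule.subset_span ⟨1, map_one ρ⟩
    rw [hbot, Submodule.mem_bot] at h1
    exact one_ne_zero h1
  have hNfg : N.FG := Submodule.fg_span (Set.finite_range ρ)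
  have hx : ∀ n ∈ N, lam • n ∈ N := by
    intro n hn
    induction hn using Submodule.span_induction with
    | mem x hx =>
      obtain ⟨h', rfl⟩ := hx
      have e : lam • ρ h' = ∑ g, c g • ρ (g * h') := by
        have : lam • ρ h' = (lam • (1 : Module.End ℂ V)) * ρ h' := by
          rw [smul_mul_assoc, one_mul]
        rw [this, ← h, opSum, Finset.sum_mul]
        apply Finset.sum_congr rfl
        intro g _
        rw [smul_mul_assoc, map_mul]
      rw [e]
      apply Submodule.sum_mem
      intro g _
      have : c g • ρ (g * h') = (⟨c g, hc g⟩ : O) • ρ (g * h') := rfl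
      rw [this]
      exact Submodule.smul_mem _ _ (Submodule.subset_span ⟨g * h', rfl⟩)
    | zero => simp
    | add x y _ _ hx hy => rw [smul_add]; exact N.add_mem hx hy
    | smul a x _ hx => rw [smul_comm]; exact N.smul_mem a hx
  have := isIntegral_of_smul_mem_submodule N hN0 hNfg lam hx
  exact isIntegral_trans lam this

/-- Schur: for irreducible `ρ` and a class function `f`, `∑ f g • ρ g` is a scalar. -/
theorem opSum_eq_smul_of_irr (ρ : Representation ℂ G V) [ρ.IsIrreducible]
    (f : G → ℂ) (hf : Cfsg.IsClassFunction G f) :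
    opSum ρ f = ((∑ g, f g * ρ.character g) / (finrank ℂ V : ℂ)) • (1 : Module.End ℂ V) := by
  let I : IntertwiningMap ρ ρ := ⟨opSum ρ f, fun h => opSum_comm ρ f hf h⟩
  obtain ⟨c, hc⟩ := (IsIrreducible.algebraMap_intertwiningMap_bijective_of_isAlgClosed
    (ρ := ρ)).2 I
  have hI : opSum ρ f = c • (1 : Module.End ℂ V) := by
    have := congrArg IntertwiningMap.toLinearMap hc
    rw [IntertwiningMap.algebraMap_apply] at this
    rw [show I.toLinearMap = opSum ρ f from rfl] at this
    rw [← this]
    rfl
  have htr := trace_opSum ρ f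
  rw [hI, map_smul, LinearMap.trace_one] at htr
  have hV := nontrivial_of_irr ρ
  have hpos : (finrank ℂ V : ℂ) ≠ 0 := by
    exact_mod_cast (Module.finrank_pos (R := ℂ) (M := V)).ne'
  rw [hI, ← htr]
  congr 1
  simp only [smul_eq_mul]
  field_simp

theorem index_centralizer_eq_card_conj (g : G) :
    (Subgroup.centralizer ({g} : Set G)).index = Nat.card {x : G // IsConj g x} := by
  have h1 := card_conj_mul_card_centralizer g
  have h2 := Subgroup.card_mul_index (Subgroup.centralizer ({g} : Set G))
  have hpos : 0 < Nat.card (Subgroup.centralizer ({g} : Set G)) := Nat.card_pos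
  rw [← h2, mul_comm] at h1
  exact (Nat.eq_of_mul_eq_mul_left hpos h1).symm

/-- central character values are algebraic integers -/
theorem isIntegral_class_mul_char_div (ρ : Representation ℂ G V) [ρ.IsIrreducible] (g : G) :
    IsIntegral ℤ (((Subgroup.centralizer ({g} : Set G)).index : ℂ) * ρ.character g
      / (finrank ℂ V : ℂ)) := by
  classical
  have hV := nontrivial_of_irr ρ
  set c : G → ℂ := fun x => if IsConj g x then (1 : ℂ) else 0 with hcdef
  have hcl : Cfsg.IsClassFunction G c := isClassFunction_indicator g
  have hint : ∀ x, IsIntegral ℤ (c x) := by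
    intro x
    simp only [hcdef]
    split_ifs
    · exact isIntegral_one
    · exact isIntegral_zero
  have h := opSum_eq_smul_of_irr ρ c hcl
  have hsum : ∑ x, c x * ρ.character x
      = ((Subgroup.centralizer ({g} : Set G)).index : ℂ) * ρ.character g := by
    rw [index_centralizer_eq_card_conj]
    rw [← sum_ite_isConj ρ.character (isClassFunction_of_isCharacter (isCharacter_of_rep ρ)) g]
    apply Finset.sum_congr rfl
    intro x _
    simp only [hcdef]
    split_ifs <;> simp
  rw [hsum] at h
  exact isIntegral_of_opSum_eq_smul ρ c hint _ h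

theorem isIntegral_conj {z : ℂ} (hz : IsIntegral ℤ z) : IsIntegral ℤ (conj z) := by
  have := hz.map (Complex.conjAe.toAlgHom.restrictScalars ℤ)
  simpa using this

theorem rat_of_isIntegral_natCast_div (a b : ℕ) (hb : b ≠ 0)
    (h : IsIntegral ℤ ((a : ℂ) / (b : ℂ))) : b ∣ a := by
  have h1 : ((a : ℂ) / (b : ℂ)) = algebraMap ℚ ℂ ((a : ℚ) / (b : ℚ)) := by
    simp
  rw [h1, isIntegral_algebraMap_iff (algebraMap ℚ ℂ).injective] at h
  obtain ⟨m, hm⟩ := IsIntegrallyClosed.isIntegral_iff.mp h
  have hb' : (b : ℚ) ≠ 0 := by exact_mod_cast hb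
  have h2 : (a : ℚ) = (m : ℚ) * (b : ℚ) := by
    have : ((m : ℤ) : ℚ) = (a : ℚ) / (b : ℚ) := by simpa using hm
    rw [this]; field_simp
  have h3 : (a : ℤ) = m * (b : ℤ) := by exact_mod_cast h2
  have : (b : ℤ) ∣ (a : ℤ) := ⟨m, by rw [h3]; ring⟩
  exact_mod_cast this

/-- the degree of an irreducible representation divides the group order -/
theorem finrank_dvd_card (ρ : Representation ℂ G V) [ρ.IsIrreducible] :
    finrank ℂ V ∣ Nat.card G := by
  have hV := nontrivial_of_irr ρ
  set c : G → ℂ := fun x => conj (ρ.character x) with hcdef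
  have hcl : Cfsg.IsClassFunction G c := by
    intro x y
    simp only [hcdef, Representation.char_conj]
  have hint : ∀ x, IsIntegral ℤ (c x) := fun x => isIntegral_conj (char_isIntegral ρ x)
  have h := opSum_eq_smul_of_irr ρ c hcl
  have hsum : ∑ x, c x * ρ.character x = (Nat.card G : ℂ) := by
    have := classInner_irr_self (isIrrCharacter_of_rep ρ)
    unfold Cfsg.classInner at this
    have hG : (Nat.card G : ℂ) ≠ 0 := card_ne_zero_complex
    field_simp at this
    rw [← this]
    apply Finset.sum_congr rfl
    intro x _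
    simp only [hcdef]; ring
  rw [hsum] at h
  have := isIntegral_of_opSum_eq_smul ρ c hint _ h
  exact rat_of_isIntegral_natCast_div _ _ (Module.finrank_pos (R := ℂ) (M := V)).ne' this

end Integral

end Cfsg.Agent.Helper3
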