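import Mathlib
import Cfsg.Prelude.Def_Characters
import Cfsg.Agent.Lib.Helper3.CharInd
import Cfsg.Agent.Lib.Helper81.CharFrob

set_option autoImplicit false
set_option linter.unusedSectionVars false

namespace Cfsg.Agent.Helper3

open Module Representation

section FrobGroup

open scoped ComplexConjugate

universe u
variable {G : Type u} [Group G] [Finite G]

/-- In a Frobenius group `G = K H`, every element outside `K` is `K`-conjugate to an element
of `H`. -/
theorem frob_exists_conj (K H : Subgroup G) [K.Normal] (hKH' : K ⊔ H = ⊤)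
    (hfpf : ∀ h ∈ H, h ≠ 1 → ∀ k ∈ K, h * k = k * h → k = 1) (x : G) (hx : x ∉ K) :
    ∃ c ∈ K, ∃ h ∈ H, h ≠ 1 ∧ x = c * h * c⁻¹ := by
  have hx' : x ∈ K ⊔ H := by rw [hKH']; exact Subgroup.mem_top x
  rw [Subgroup.mem_sup_of_normal_left] at hx'
  obtain ⟨k, hk, h, hh, rfl⟩ := hx'
  have hh1 : h ≠ 1 := by
    rintro rfl
    apply hx; simpa using hk
  -- the map c ↦ c h c⁻¹ h⁻¹ on K is injective hence surjective
  let f : K → K := fun c => ⟨(c : G) * h * (c : G)⁻¹ * h⁻¹, by
    have h1 : h * (c : G)⁻¹ * h⁻¹ ∈ K := ‹K.Normal›.conj_mem _ (K.inv_mem c.2) h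
    have := K.mul_mem c.2 h1
    simpa [mul_assoc] using this⟩
  have hinj : Function.Injective f := by
    intro c d hcd
    have h1 : (c : G) * h * (c : G)⁻¹ * h⁻¹ = (d : G) * h * (d : G)⁻¹ * h⁻¹ :=
      congrArg Subtype.val hcd
    have h2 : (c : G) * h * (c : G)⁻¹ = (d : G) * h * (d : G)⁻¹ := mul_right_cancel h1
    have h3 : h * ((c : G)⁻¹ * d) = ((c : G)⁻¹ * d) * h := by
      calc h * ((c : G)⁻¹ * d) = (c : G)⁻¹ * ((c : G) * h * (c : G)⁻¹) * d := by group
        _ = (c : G)⁻¹ * ((d : G) * h * (d : G)⁻¹) * d := by rw [h2]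
        _ = ((c : G)⁻¹ * d) * h := by group
    have h4 := hfpf h hh hh1 ((c : G)⁻¹ * d) (K.mul_mem (K.inv_mem c.2) d.2) h3
    apply Subtype.ext
    have : (d : G) = c := by
      have := congrArg (fun z => (c : G) * z) h4
      simpa using this
    exact this.symm
  have hsurj : Function.Surjective f := Finite.injective_iff_surjective.mp hinj
  obtain ⟨c, hc⟩ := hsurj ⟨k, hk⟩
  refine ⟨c, c.2, h, hh, hh1, ?_⟩
  have h1 : (c : G) * h * (c : G)⁻¹ * h⁻¹ = k := congrArg Subtype.val hc
  rw [← h1]; group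

/-- In a Frobenius group, centralizers of nonidentity kernel elements lie in the kernel. -/
theorem frob_centralizer_le (K H : Subgroup G) [K.Normal] (hKH' : K ⊔ H = ⊤)
    (hfpf : ∀ h ∈ H, h ≠ 1 → ∀ k ∈ K, h * k = k * h → k = 1) :
    ∀ n ∈ K, n ≠ 1 → Subgroup.centralizer ({n} : Set G) ≤ K := by
  intro n hn hn1 x hx
  by_contra hxK
  obtain ⟨c, hc, h, hh, hh1, rfl⟩ := frob_exists_conj K H hKH' hfpf x hxK
  rw [Subgroup.mem_centralizer_iff] at hx
  have h1 := hx n rfl
  have hk' : c⁻¹ * n * c ∈ K := by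
    have := ‹K.Normal›.conj_mem n hn c⁻¹
    simpa using this
  have h2 : h * (c⁻¹ * n * c) = (c⁻¹ * n * c) * h := by
    calc h * (c⁻¹ * n * c) = c⁻¹ * ((c * h * c⁻¹) * n) * c := by group
      _ = c⁻¹ * (n * (c * h * c⁻¹)) * c := by rw [← h1]
      _ = (c⁻¹ * n * c) * h := by group
  have h3 := hfpf h hh hh1 _ hk' h2
  apply hn1
  have := congrArg (fun z => c * z * c⁻¹) h3
  simpa [mul_assoc] using this

end FrobGroup

section FrobInd

open scoped ComplexConjugate

universe u
variable {G : Type u} [Group G] [Fintype G]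

/-- In a Frobenius group, nonprincipal irreducible characters of the kernel induce irreducibly. -/
theorem frob_indFun_irr (K H : Subgroup G) [hKn : K.Normal]
    (hKH' : K ⊔ H = ⊤) (hfpf : ∀ h ∈ H, h ≠ 1 → ∀ k ∈ K, h * k = k * h → k = 1) (τ : K → ℂ)
    (hτ : Cfsg.IsIrrCharacter K τ) (hτ1 : τ ≠ fun _ => 1) :
    Cfsg.IsIrrCharacter G (Cfsg.indFun K τ) := by
  classical
  have := Fintype.ofFinite K
  have hC := frob_centralizer_le K H hKH' hfpf
  apply isIrrCharacter_of_classInner_self_eq_one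
    (isCharacter_indFun K τ (isCharacter_of_isIrrCharacter hτ))
  rw [frobenius_reciprocity K τ _ (isClassFunction_indFun K τ)]
  rw [Cfsg.Agent.Helper81.indFun_restrict_normal K hKn τ]
  rw [classInner_smul_right, classInner_sum_right]
  have hterm : ∀ x : G, Cfsg.classInner τ (Cfsg.Agent.Helper81.conjFun K hKn τ x)
      = if x ∈ K then 1 else 0 := by
    intro x
    rw [Cfsg.Agent.Helper81.irr_orthonormal hτ
      (Cfsg.Agent.Helper81.conjFun_isIrrCharacter K hKn hτ x)]
    by_cases hx : x ∈ K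
    · rw [if_pos hx, if_pos]
      funext n
      rw [Cfsg.Agent.Helper81.conjFun_apply]
      have := isClassFunction_of_isIrrCharacter hτ n ⟨x, hx⟩
      rw [← this]
      rfl
    · rw [if_neg hx, if_neg]
      intro h
      exact Cfsg.Agent.Helper81.conjFun_ne_of_centralizer K hKn hC hx hτ hτ1 h.symm
  simp_rw [hterm]
  rw [Finset.sum_boole]
  have hcard : ((Finset.univ.filter (fun x : G => x ∈ K)).card : ℂ) = (Nat.card K : ℂ) := by
    congr 1
    rw [Nat.card_eq_fintype_card, Fintype.card_subtype]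
  rw [hcard, map_inv₀, Complex.conj_natCast]
  have hK : (Nat.card K : ℂ) ≠ 0 := by exact_mod_cast Nat.card_pos.ne'
  field_simp

end FrobInd

end Cfsg.Agent.Helper3
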