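import Mathlib

/-!
S4017, case D (`a = 2`, `p = 3`, `P1 = 1`, `Z_t ≠ 1`): the local data (`CaseD`) from which a contradiction is derived
by the friendship-graph argument (helper61's remark, board #5144): the commuting graph on the involutions is a regular
friendship graph of valency `2 * 3 ^ w ≥ 6`.
-/

set_option autoImplicit false

namespace Cfsg.Agent.Helper3.S4017

/-- Local data of case D: `Q` a four-group Sylow 2-subgroup containing the involution `t`, `P` an abelian TI Sylow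
3-subgroup of order `3 ^ w`, `w ≥ 1`, centralised by `t`, inverted by the other two involutions of `Q`,
`|C_G(t)| = 4 * 3 ^ w`, `N_G(P) ≤ C_G(t)` (in the strong TI form), `C_G(Q) = Q`, one class of involutions, and every
proper subgroup of even order is a `{2,3}`-group. -/
structure CaseD (G : Type*) [Group G] (Q P : Subgroup G) (t : G) (w : ℕ) : Prop where
  simple : IsSimpleGroup G
  card_Q : Nat.card Q = 4
  not8 : ¬ 8 ∣ Nat.card G
  elem : ∀ g ∈ Q, g * g = 1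
  t_mem : t ∈ Q
  t_ne : t ≠ 1
  conj : ∀ z : G, orderOf z = 2 → ∃ g : G, g * t * g⁻¹ = z
  star : ∀ H : Subgroup G, H ≠ ⊤ → 2 ∣ Nat.card H → ∀ r : ℕ, r.Prime → r ∣ Nat.card H → r = 2 ∨ r = 3
  w_pos : 1 ≤ w
  card_P : Nat.card P = 3 ^ w
  sylow3 : ¬ 3 ^ (w + 1) ∣ Nat.card G
  P_comm : ∀ g ∈ P, ∀ h ∈ P, g * h = h * g
  P_cent : ∀ g ∈ P, g * t = t * g
  P_inv : ∀ s ∈ Q, s ≠ 1 → s ≠ t → ∀ g ∈ P, s * g * s⁻¹ = g⁻¹
  card_Ct : Nat.card (Subgroup.centralizer ({t} : Set G)) = 4 * 3 ^ w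
  ti : ∀ g : G, (∃ y ∈ P, y ≠ 1 ∧ g * y * g⁻¹ ∈ P) → g * t = t * g
  cent_Q : ∀ g : G, (∀ s ∈ Q, g * s = s * g) → g ∈ Q

end Cfsg.Agent.Helper3.S4017
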