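import Mathlib
import Cfsg.Prelude.Def_OddOrderChar
import Cfsg.Agent.Lib.Helper82.Coherence
import Cfsg.Agent.Lib.Helper3.CharExceptional

/-!
# Abstract coherence tools (Feit): criterion for an abstract group `N`, equal-degree coherence,
and the degree-chain induction.
-/

set_option autoImplicit false
set_option linter.style.haveILetI false
set_option linter.unusedSectionVars false
set_option linter.unusedVariables false

namespace Cfsg.Agent.H3Feit

open Cfsg Cfsg.Agent.Helper81 Cfsg.Agent.Helper82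
open scoped ComplexConjugate

universe u v

/-- Feit's coherence criterion (the proof of S1530, for an abstract group `N`). -/
theorem feit_criterion {N : Type u} [Group N] [Fintype N] {G : Type v} [Group G] [Fintype G]
    (S₀ : Finset (N → ℂ)) (χ : N → ℂ)
    (hirr : ∀ ξ ∈ S₀, Cfsg.IsIrrCharacter N ξ) (hχ : Cfsg.IsIrrCharacter N χ) (hχS : χ ∉ S₀)
    (d : (N → ℂ) → ℕ) (hd : ∀ ξ ∈ insert χ S₀, ξ 1 = (d ξ : ℂ)) (τ : (N → ℂ) → (G → ℂ))
    (hτ : Cfsg.IsLinearIsometryOn (Cfsg.zspanOn (↑(insert χ S₀) : Set (N → ℂ)) {1}ᶜ) τ)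
    (hτ1 : ∀ α ∈ Cfsg.zspanOn (↑(insert χ S₀) : Set (N → ℂ)) {1}ᶜ, τ α 1 = 0)
    (hcoh : Cfsg.IsCoherent (↑S₀ : Set (N → ℂ)) {1}ᶜ τ) (ψ : N → ℂ) (hψ : ψ ∈ S₀)
    (hdvd : d ψ ∣ d χ) (hlt : 2 * d ψ * d χ < ∑ ξ ∈ S₀, d ξ ^ 2) :
    Cfsg.IsCoherent (↑(insert χ S₀) : Set (N → ℂ)) {1}ᶜ τ := by
  classical
  haveI : Fintype (IrrCharacter N) := @Fintype.ofFinite _ irr_finite
  obtain ⟨hnz, τs, hτs, hτsτ⟩ := hcoh
  have hcoe : (↑(insert χ S₀) : Set (N → ℂ)) = insert χ (↑S₀ : Set (N → ℂ)) :=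
    Finset.coe_insert χ S₀
  set S : Set (N → ℂ) := (↑(insert χ S₀) : Set (N → ℂ)) with hS
  have hS₀S : (↑S₀ : Set (N → ℂ)) ⊆ S := by rw [hcoe]; exact Set.subset_insert _ _
  have hχmem : χ ∈ S := by rw [hcoe]; exact Set.mem_insert _ _
  have hτsL : ZLinOn (↑S₀ : Set (N → ℂ)) τs := zlinOn_of_isLinearIsometryOn hτs
  obtain ⟨hτadd, hτsmul, hτiso, hτgen⟩ := hτ
  -- degrees
  have hdχ : χ 1 = (d χ : ℂ) := hd χ (Finset.mem_insert_self _ _)
  have hdS : ∀ ξ ∈ S₀, ξ 1 = (d ξ : ℂ) := fun ξ hξ => hd ξ (Finset.mem_insert_of_mem hξ)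
  have hdpos : ∀ ξ ∈ S₀, 0 < d ξ := by
    intro ξ hξ
    obtain ⟨n, hn, hn1⟩ := irr_degree_pos (hirr ξ hξ)
    have : (d ξ : ℂ) = (n : ℂ) := by rw [← hdS ξ hξ, hn1]
    have : d ξ = n := by exact_mod_cast this
    omega
  have hdχpos : 0 < d χ := by
    obtain ⟨n, hn, hn1⟩ := irr_degree_pos hχ
    have : (d χ : ℂ) = (n : ℂ) := by rw [← hdχ, hn1]
    have : d χ = n := by exact_mod_cast this
    omega
  obtain ⟨a, ha⟩ := hdvd
  have hapos : 0 < a := by
    rcases Nat.eq_zero_or_pos a with h | h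
    · rw [h, mul_zero] at ha; omega
    · exact h
  -- orthonormality in N
  have horth : ∀ ξ ∈ S₀, ∀ ξ' ∈ S₀, classInner ξ ξ' = if ξ = ξ' then 1 else 0 :=
    fun ξ hξ ξ' hξ' => irr_orthonormal (hirr ξ hξ) (hirr ξ' hξ')
  have hχξ : ∀ ξ ∈ S₀, classInner χ ξ = 0 := by
    intro ξ hξ
    rw [irr_orthonormal hχ (hirr ξ hξ), if_neg]
    rintro rfl; exact hχS hξ
  have hξχ : ∀ ξ ∈ S₀, classInner ξ χ = 0 := by
    intro ξ hξ
    rw [irr_orthonormal (hirr ξ hξ) hχ, if_neg]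
    rintro rfl; exact hχS hξ
  have hχχ : classInner χ χ = 1 := by rw [irr_orthonormal hχ hχ, if_pos rfl]
  -- δ₀ = χ - a ψ
  set δ₀ : N → ℂ := χ + (-(a : ℤ)) • ψ with hδ₀
  have hδ₀mem : δ₀ ∈ Cfsg.zspanOn S {1}ᶜ := by
    refine mem_zspanOn_compl_one.2 ⟨zspan_add_mem (subset_zspan hχmem)
      (zspan_smul_mem _ (subset_zspan (hS₀S hψ))), ?_⟩
    rw [hδ₀, Pi.add_apply, Pi.smul_apply, hdχ, hdS ψ hψ, zsmul_eq_mul, ha]
    push_cast; ring
  set Δ := τ δ₀ with hΔ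
  have hΔgen : IsGeneralizedCharacter G Δ := hτgen _ hδ₀mem
  have hΔΔ : classInner Δ Δ = 1 + (a : ℂ) ^ 2 := by
    rw [hΔ, hτiso _ hδ₀mem _ hδ₀mem, hδ₀]
    simp only [classInner_add_left, classInner_add_right, classInner_zsmul_left,
      classInner_zsmul_right, hχχ, hχξ ψ hψ, hξχ ψ hψ, horth ψ hψ ψ hψ, if_pos]
    push_cast; ring
  -- integrality of the coefficients
  have hint : ∀ ξ ∈ S₀, ∃ k : ℤ, classInner Δ (τs ξ) = (k : ℂ) := fun ξ hξ =>
    genChar_inner_int hΔgen (hτs.2.2.2 ξ (subset_zspan hξ))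
  choose! x hx using hint
  have hτsorth : ∀ ξ ∈ S₀, ∀ ξ' ∈ S₀, classInner (τs ξ) (τs ξ') = if ξ = ξ' then 1 else 0 := by
    intro ξ hξ ξ' hξ'
    rw [hτs.2.2.1 _ (subset_zspan hξ) _ (subset_zspan hξ')]
    exact horth ξ hξ ξ' hξ'
  -- β_ξ = d ξ • ψ - d ψ • ξ
  have hβmem : ∀ ξ ∈ S₀, ((d ξ : ℤ) • ψ + (-(d ψ : ℤ)) • ξ) ∈
      Cfsg.zspanOn (↑S₀ : Set (N → ℂ)) {1}ᶜ := by
    intro ξ hξ
    refine mem_zspanOn_compl_one.2 ⟨zspan_add_mem (zspan_smul_mem _ (subset_zspan hψ))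
      (zspan_smul_mem _ (subset_zspan hξ)), ?_⟩
    rw [Pi.add_apply, Pi.smul_apply, Pi.smul_apply, hdS ψ hψ, hdS ξ hξ, zsmul_eq_mul,
      zsmul_eq_mul]
    push_cast; ring
  -- the key relation
  have hstar : ∀ ξ ∈ S₀, (d ψ : ℤ) * x ξ =
      (d ξ : ℤ) * (x ψ + a) - (if ξ = ψ then (a : ℤ) * d ψ else 0) := by
    intro ξ hξ
    have h1 : classInner Δ (τs ((d ξ : ℤ) • ψ + (-(d ψ : ℤ)) • ξ)) =
        classInner δ₀ ((d ξ : ℤ) • ψ + (-(d ψ : ℤ)) • ξ) := by
      rw [hτsτ _ (hβmem ξ hξ)]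
      exact hτiso _ hδ₀mem _ (zspanOn_mono hS₀S _ (hβmem ξ hξ))
    rw [hτsL.add _ (zspan_smul_mem _ (subset_zspan hψ)) _ (zspan_smul_mem _ (subset_zspan hξ)),
      hτsL.smul _ (subset_zspan hψ), hτsL.smul _ (subset_zspan hξ), hδ₀] at h1
    simp only [classInner_add_left, classInner_add_right, classInner_zsmul_left,
      classInner_zsmul_right, hx ψ hψ, hx ξ hξ, hχξ ψ hψ, hχξ ξ hξ, horth ψ hψ ψ hψ,
      horth ψ hψ ξ hξ] at h1
    by_cases hξψ : ξ = ψ
    · subst hξψ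
      simp
      ring
    · rw [if_neg hξψ]
      rw [if_neg (Ne.symm hξψ)] at h1
      have h2 : (((d ψ : ℤ) * x ξ : ℤ) : ℂ) = (((d ξ : ℤ) * (x ψ + a) - 0 : ℤ) : ℂ) := by
        push_cast at h1 ⊢
        linear_combination -h1
      exact Int.cast_injective h2
  -- Γ : the part of Δ orthogonal to the images
  set Γ : G → ℂ := Δ - ∑ ξ ∈ S₀, (x ξ) • τs ξ with hΓ
  have hΓgen : IsGeneralizedCharacter G Γ :=
    isGeneralizedCharacter_sub hΔgen (isGeneralizedCharacter_sum _ _ (fun ξ hξ =>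
      isGeneralizedCharacter_zsmul _ (hτs.2.2.2 ξ (subset_zspan hξ))))
  have hsum1 : ∀ ξ ∈ S₀, classInner (∑ ξ' ∈ S₀, (x ξ') • τs ξ') (τs ξ) = (x ξ : ℂ) := by
    intro ξ hξ
    rw [classInner_sum_left, Finset.sum_eq_single ξ]
    · rw [classInner_zsmul_left, hτsorth ξ hξ ξ hξ, if_pos rfl, mul_one]
    · intro b hb hbξ
      rw [classInner_zsmul_left, hτsorth b hb ξ hξ, if_neg hbξ, mul_zero]
    · intro h; exact absurd hξ h
  have hΓorth : ∀ ξ ∈ S₀, classInner Γ (τs ξ) = 0 := by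
    intro ξ hξ
    rw [hΓ, classInner_sub_left, hsum1 ξ hξ, hx ξ hξ, sub_self]
  have hΓΓ : classInner Γ Γ = 1 + (a : ℂ) ^ 2 - ∑ ξ ∈ S₀, ((x ξ : ℤ) : ℂ) ^ 2 := by
    have h1 : classInner Γ Γ = classInner Γ Δ := by
      conv_lhs => rw [hΓ]
      rw [← hΓ, classInner_sub_right, classInner_sum_right]
      have : ∑ ξ ∈ S₀, classInner Γ ((x ξ) • τs ξ) = 0 := by
        apply Finset.sum_eq_zero
        intro ξ hξ
        rw [classInner_zsmul_right, hΓorth ξ hξ, mul_zero]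
      rw [this, sub_zero]
    rw [h1, hΓ, classInner_sub_left, hΔΔ, classInner_sum_left]
    congr 1
    apply Finset.sum_congr rfl
    intro ξ hξ
    rw [classInner_zsmul_left, classInner_conj_symm Δ (τs ξ), hx ξ hξ]
    simp [sq]
  obtain ⟨γ, hγ⟩ := genChar_inner_int hΓgen hΓgen
  have hγ0 : 0 ≤ γ := by
    have := classInner_self_re_nonneg Γ
    rw [hγ] at this
    simpa using this
  have hγeq : γ = 1 + (a : ℤ) ^ 2 - ∑ ξ ∈ S₀, (x ξ) ^ 2 := by
    have : ((γ : ℤ) : ℂ) = ((1 + (a : ℤ) ^ 2 - ∑ ξ ∈ S₀, (x ξ) ^ 2 : ℤ) : ℂ) := by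
      rw [← hγ, hΓΓ]; push_cast; ring
    exact Int.cast_injective this
  -- arithmetic
  set P : ℤ := (d ψ : ℤ) with hP
  set A : ℤ := (a : ℤ) with hA
  set m : ℤ := x ψ + A with hm
  set Dz : ℤ := ∑ ξ ∈ S₀, (d ξ : ℤ) ^ 2 with hDz
  have hPpos : 0 < P := by rw [hP]; exact_mod_cast hdpos ψ hψ
  have hApos : 1 ≤ A := by rw [hA]; exact_mod_cast hapos
  have hltz : 2 * P * (P * A) < Dz := by
    have : ((2 * d ψ * d χ : ℕ) : ℤ) < ((∑ ξ ∈ S₀, d ξ ^ 2 : ℕ) : ℤ) := by exact_mod_cast hlt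
    rw [ha] at this
    push_cast at this
    rw [hP, hA, hDz]
    linarith
  have hsumsq : P ^ 2 * ∑ ξ ∈ S₀, (x ξ) ^ 2 = m ^ 2 * Dz - 2 * m * A * P ^ 2 + A ^ 2 * P ^ 2 := by
    rw [Finset.mul_sum]
    have h1 : ∀ ξ ∈ S₀, P ^ 2 * (x ξ) ^ 2 = m ^ 2 * (d ξ : ℤ) ^ 2 -
        (if ξ = ψ then 2 * m * A * P ^ 2 else 0) + (if ξ = ψ then A ^ 2 * P ^ 2 else 0) := by
      intro ξ hξ
      have h2 : P ^ 2 * (x ξ) ^ 2 = (P * x ξ) ^ 2 := by ring
      rw [h2, hstar ξ hξ]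
      by_cases hξψ : ξ = ψ
      · subst hξψ
        simp only [if_pos]
        ring
      · simp only [if_neg hξψ]
        ring
    rw [Finset.sum_congr rfl h1, Finset.sum_add_distrib, Finset.sum_sub_distrib,
      Finset.sum_ite_eq' S₀ ψ, Finset.sum_ite_eq' S₀ ψ, if_pos hψ, if_pos hψ, ← Finset.mul_sum]
  have hmain : P ^ 2 * γ = P ^ 2 + 2 * m * A * P ^ 2 - m ^ 2 * Dz := by
    rw [hγeq, mul_sub, hsumsq]; ring
  -- values at 1 of the images
  have ht : ∀ ξ ∈ S₀, (d ξ : ℂ) * τs ψ 1 = (d ψ : ℂ) * τs ξ 1 := by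
    intro ξ hξ
    have h1 := hτ1 _ (zspanOn_mono hS₀S _ (hβmem ξ hξ))
    rw [← hτsτ _ (hβmem ξ hξ), hτsL.add _ (zspan_smul_mem _ (subset_zspan hψ)) _
      (zspan_smul_mem _ (subset_zspan hξ)), hτsL.smul _ (subset_zspan hψ),
      hτsL.smul _ (subset_zspan hξ), Pi.add_apply, Pi.smul_apply, Pi.smul_apply, zsmul_eq_mul,
      zsmul_eq_mul] at h1
    push_cast at h1
    linear_combination h1
  have htψ : τs ψ 1 ≠ 0 := by
    have h1 : classInner (τs ψ) (τs ψ) = 1 := by rw [hτsorth ψ hψ ψ hψ, if_pos rfl]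
    rcases genChar_norm_one (hτs.2.2.2 ψ (subset_zspan hψ)) h1 with h | h
    · obtain ⟨n, hn, hn1⟩ := irr_degree_pos h
      rw [hn1]
      exact_mod_cast hn.ne'
    · obtain ⟨n, hn, hn1⟩ := irr_degree_pos h
      rw [Pi.neg_apply] at hn1
      intro h0
      rw [h0, neg_zero] at hn1
      have : n = 0 := by exact_mod_cast hn1.symm
      omega
  have hm0 : m = 0 := by
    by_contra hmne
    have hmm : 0 ≤ m * (m - 1) := by
      rcases le_or_gt m 0 with h | h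
      · exact mul_nonneg_of_nonpos_of_nonpos h (by omega)
      · exact mul_nonneg (by omega) (by omega)
    have hm2 : 1 ≤ m ^ 2 := by
      have : 0 < m ^ 2 := by positivity
      omega
    have h5 : P ^ 2 * γ + m ^ 2 ≤ P ^ 2 * (1 - 2 * A * (m * (m - 1))) := by
      have : m ^ 2 * (2 * P * (P * A) + 1) ≤ m ^ 2 * Dz :=
        mul_le_mul_of_nonneg_left (by omega) (by positivity)
      nlinarith
    have hP2 : 0 < P ^ 2 := by positivity
    have hmm0 : m * (m - 1) = 0 := by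
      by_contra hne
      have h6 : 1 ≤ m * (m - 1) := by omega
      have h7 : P ^ 2 * (1 - 2 * A * (m * (m - 1))) ≤ P ^ 2 * (1 - 2 * 1 * 1) := by
        apply mul_le_mul_of_nonneg_left _ hP2.le
        nlinarith
      have h8 : 0 ≤ P ^ 2 * γ := mul_nonneg hP2.le hγ0
      nlinarith
    have hm1 : m = 1 := by
      rcases mul_eq_zero.1 hmm0 with h | h
      · exact absurd h hmne
      · omega
    have hγ00 : γ = 0 := by
      rw [hmm0] at h5
      by_contra hne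
      have : 1 ≤ γ := by omega
      nlinarith
    have hDz1 : Dz = P ^ 2 + 2 * A * P ^ 2 := by
      rw [hγ00, hm1] at hmain
      linarith
    -- Γ = 0
    have hΓ0 : Γ = 0 := by
      apply eq_zero_of_classInner_self
      rw [hγ, hγ00]; simp
    have hΔsum : Δ = ∑ ξ ∈ S₀, (x ξ) • τs ξ := by
      have := sub_eq_zero.1 (hΓ ▸ hΓ0)
      exact this
    have hΔ1 : Δ 1 = 0 := hτ1 _ hδ₀mem
    rw [hΔsum, Finset.sum_apply] at hΔ1
    have h9 : (P : ℂ) ^ 2 * ∑ ξ ∈ S₀, ((x ξ) • τs ξ) 1 =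
        τs ψ 1 * ((m : ℂ) * (Dz : ℂ) - (A : ℂ) * (P : ℂ) ^ 2) := by
      rw [Finset.mul_sum]
      have h10 : ∀ ξ ∈ S₀, (P : ℂ) ^ 2 * ((x ξ) • τs ξ) 1 =
          τs ψ 1 * ((m : ℂ) * ((d ξ : ℤ) : ℂ) ^ 2) -
            (if ξ = ψ then τs ψ 1 * ((A : ℂ) * (P : ℂ) ^ 2) else 0) := by
        intro ξ hξ
        rw [Pi.smul_apply, zsmul_eq_mul]
        have h11 : ((P * x ξ : ℤ) : ℂ) = (((d ξ : ℤ) * m - (if ξ = ψ then A * P else 0) : ℤ) : ℂ) := by
          rw [hstar ξ hξ]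
        have h12 := ht ξ hξ
        by_cases hξψ : ξ = ψ
        · subst hξψ
          simp only [if_pos] at h11 ⊢
          push_cast at h11
          have hPc : ((d ξ : ℕ) : ℂ) = (P : ℂ) := by rw [hP]; push_cast; rfl
          rw [hPc] at h12
          push_cast
          rw [hPc]
          linear_combination (P : ℂ) * τs ξ 1 * h11
        · simp only [if_neg hξψ] at h11 ⊢
          push_cast at h11
          have hPc : ((d ψ : ℕ) : ℂ) = (P : ℂ) := by rw [hP]; push_cast; rfl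
          rw [hPc] at h12
          push_cast
          linear_combination (P : ℂ) * τs ξ 1 * h11 - (m : ℂ) * (d ξ : ℂ) * h12
      rw [Finset.sum_congr rfl h10, Finset.sum_sub_distrib, Finset.sum_ite_eq' S₀ ψ, if_pos hψ,
        ← Finset.mul_sum, ← Finset.mul_sum, hDz]
      push_cast
      ring
    rw [hΔ1, mul_zero] at h9
    have h13 : (m : ℂ) * (Dz : ℂ) - (A : ℂ) * (P : ℂ) ^ 2 = 0 := by
      rcases mul_eq_zero.1 h9.symm with h | h
      · exact absurd h htψ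
      · exact h
    have h14 : m * Dz - A * P ^ 2 = 0 := by
      have : ((m * Dz - A * P ^ 2 : ℤ) : ℂ) = ((0 : ℤ) : ℂ) := by push_cast; exact h13
      exact Int.cast_injective this
    rw [hm1, hDz1] at h14
    nlinarith
  -- consequences of m = 0
  have hxψ : x ψ = -A := by omega
  have hxξ : ∀ ξ ∈ S₀, ξ ≠ ψ → x ξ = 0 := by
    intro ξ hξ hne
    have h1 := hstar ξ hξ
    rw [hm0, if_neg hne, mul_zero, sub_zero] at h1
    rcases mul_eq_zero.1 h1 with h | h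
    · omega
    · exact h
  have hγ1 : γ = 1 := by
    rw [hm0] at hmain
    have h1 : P ^ 2 * γ = P ^ 2 * 1 := by linarith
    exact mul_left_cancel₀ (pow_ne_zero 2 hPpos.ne') h1
  have hΓΓ1 : classInner Γ Γ = 1 := by rw [hγ, hγ1]; simp
  have hΓeq : Γ = Δ + A • τs ψ := by
    rw [hΓ, Finset.sum_eq_single ψ, hxψ]
    · rw [neg_smul, sub_neg_eq_add]
    · intro b hb hbne
      rw [hxξ b hb hbne, zero_smul]
    · intro h; exact absurd hψ h
  -- the extension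
  let f : IrrCharacter N → (G → ℂ) := fun ξ =>
    if (ξ : N → ℂ) ∈ S₀ then τs ξ else if (ξ : N → ℂ) = χ then Γ else 0
  have hTS₀ : ∀ y ∈ Cfsg.zspan (↑S₀ : Set (N → ℂ)), extIrr f y = τs y := by
    intro y hy
    refine (extIrr_zlinOn f _).eq_of_span hτsL (fun b hb => ?_) hy
    have hb' : b ∈ S₀ := hb
    have := extIrr_irr f ⟨b, hirr b hb'⟩
    rw [this]
    simp only [f, if_pos hb']
  have hTχ : extIrr f χ = Γ := by
    have := extIrr_irr f ⟨χ, hχ⟩
    rw [this]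
    simp only [f, if_neg hχS, if_pos]
  have hTL : ZLinOn S (extIrr f) := extIrr_zlinOn f S
  have hSmem : ∀ b ∈ S, b = χ ∨ b ∈ S₀ := by
    intro b hb
    rw [hcoe, Set.mem_insert_iff] at hb
    exact hb
  refine ⟨?_, extIrr f, ⟨hTL.add, hTL.smul, ?_, ?_⟩, ?_⟩
  · obtain ⟨α, hα, hα0⟩ := hnz
    exact ⟨α, zspanOn_mono hS₀S _ hα, hα0⟩
  · intro θ hθ θ' hθ'
    refine inner_eq_of_span hTL ?_ hθ hθ'
    intro b hb c hc
    rcases hSmem b hb with rfl | hb' <;> rcases hSmem c hc with rfl | hc'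
    · rw [hTχ, hΓΓ1, hχχ]
    · rw [hTχ, hTS₀ c (subset_zspan hc'), hΓorth c hc', hχξ c hc']
    · rw [hTχ, hTS₀ b (subset_zspan hb'), classInner_conj_symm Γ (τs b), hΓorth b hb',
        hξχ b hb', map_zero]
    · rw [hTS₀ b (subset_zspan hb'), hTS₀ c (subset_zspan hc')]
      exact hτs.2.2.1 _ (subset_zspan hb') _ (subset_zspan hc')
  · intro θ hθ
    refine hTL.induction (IsGeneralizedCharacter G) ?_ isGeneralizedCharacter_zero
      (fun _ _ => isGeneralizedCharacter_add) (fun n _ => isGeneralizedCharacter_zsmul n) hθ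
    intro b hb
    rcases hSmem b hb with rfl | hb'
    · rw [hTχ]; exact hΓgen
    · rw [hTS₀ b (subset_zspan hb')]
      exact hτs.2.2.2 _ (subset_zspan hb')
  · intro θ hθ
    obtain ⟨hθ1, hθ0⟩ := mem_zspanOn_compl_one.1 hθ
    rw [mem_zspan, hcoe, Submodule.mem_span_insert] at hθ1
    obtain ⟨n, y, hy, rfl⟩ := hθ1
    have hy' : y ∈ Cfsg.zspan (↑S₀ : Set (N → ℂ)) := hy
    have hy1 : y 1 = -((n : ℂ) * ((P : ℂ) * (A : ℂ))) := by
      rw [Pi.add_apply, Pi.smul_apply, hdχ, ha, zsmul_eq_mul] at hθ0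
      push_cast at hθ0
      have hPc : ((d ψ : ℕ) : ℂ) = (P : ℂ) := by rw [hP]; push_cast; rfl
      have hAc : ((a : ℕ) : ℂ) = (A : ℂ) := by rw [hA]; push_cast; rfl
      rw [hPc, hAc] at hθ0
      linear_combination hθ0
    have hy'mem : (y + (n * A) • ψ) ∈ Cfsg.zspanOn (↑S₀ : Set (N → ℂ)) {1}ᶜ := by
      refine mem_zspanOn_compl_one.2 ⟨zspan_add_mem hy' (zspan_smul_mem _ (subset_zspan hψ)), ?_⟩
      rw [Pi.add_apply, Pi.smul_apply, hy1, hdS ψ hψ, zsmul_eq_mul]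
      have hPc : ((d ψ : ℕ) : ℂ) = (P : ℂ) := by rw [hP]; push_cast; rfl
      rw [hPc]
      push_cast; ring
    have hθeq : n • χ + y = n • δ₀ + (y + (n * A) • ψ) := by
      rw [hδ₀]
      ext g
      simp only [Pi.add_apply, Pi.smul_apply]
      simp only [zsmul_eq_mul]
      push_cast; ring
    have hτθ : τ (n • χ + y) = n • Δ + τs (y + (n * A) • ψ) := by
      rw [hθeq, hτadd _ (zspanOn_smul_mem n hδ₀mem) _ (zspanOn_mono hS₀S _ hy'mem),
        hτsmul _ hδ₀mem, hτsτ _ hy'mem]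
    rw [hτθ, hTL.add _ (zspan_smul_mem n (subset_zspan hχmem)) _ (zspan_mono hS₀S hy'),
      hTL.smul _ (subset_zspan hχmem), hTχ, hTS₀ y hy', hΓeq,
      hτsL.add _ hy' _ (zspan_smul_mem _ (subset_zspan hψ)), hτsL.smul _ (subset_zspan hψ)]
    ext g
    simp only [Pi.add_apply, Pi.smul_apply]
    simp only [zsmul_eq_mul]
    push_cast; ring


open Cfsg.Agent.Helper3 in
/-- Abstract form of the exceptional-character combinatorics: generalized characters `D k`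
vanishing at `1`, with `D i₀ = 0` and Gram matrix `1 + δ` off `i₀`, are differences
`ε (θ i₀ - θ k)` of an injective family of irreducible characters. -/
theorem abstract_exceptional {G : Type v} [Group G] [Fintype G] {ι : Type*} [DecidableEq ι]
    (i₀ i₁ : ι)
    (hi₁ : i₁ ≠ i₀) (D : ι → (G → ℂ)) (hD0 : D i₀ = 0)
    (hDgen : ∀ k, Cfsg.IsGeneralizedCharacter G (D k)) (hD1 : ∀ k, D k 1 = 0)
    (hinnerG : ∀ k l, k ≠ i₀ → l ≠ i₀ → Cfsg.classInner (D k) (D l) = if k = l then 2 else 1) :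
    ∃ ε : ℂ, (ε = 1 ∨ ε = -1) ∧ ∃ θ : ι → (G → ℂ), (∀ i, Cfsg.IsIrrCharacter G (θ i)) ∧
      Function.Injective θ ∧ ∀ i j, D j - D i = ε • (θ i - θ j) := by
  classical
  have hex : ∀ k : ι, ∃ p : Cfsg.IrrCharacter G × Cfsg.IrrCharacter G,
      k ≠ i₀ → p.1 ≠ p.2 ∧ D k = (p.1 : G → ℂ) - (p.2 : G → ℂ) := by
    intro k
    by_cases hk : k = i₀
    · exact ⟨(⟨_, isIrrCharacter_one⟩, ⟨_, isIrrCharacter_one⟩), fun h => absurd hk h⟩
    · have h2 : Cfsg.classInner (D k) (D k) = 2 := by rw [hinnerG k k hk hk, if_pos rfl]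
      obtain ⟨a, b, hab, hDk⟩ := Cfsg.Agent.Helper3.genChar_norm_two (hDgen k) h2 (hD1 k)
      exact ⟨(a, b), fun _ => ⟨hab, hDk⟩⟩
  choose p hp using hex
  set a : ι → Cfsg.IrrCharacter G := fun k => (p k).1 with ha
  set b : ι → Cfsg.IrrCharacter G := fun k => (p k).2 with hb
  have hab : ∀ k, k ≠ i₀ → a k ≠ b k := fun k hk => (hp k hk).1
  have hDk : ∀ k, k ≠ i₀ → D k = (a k : G → ℂ) - (b k : G → ℂ) := fun k hk => (hp k hk).2
  have hdich : ∀ k l, k ≠ i₀ → l ≠ i₀ → k ≠ l →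
      (a k = a l ∧ b k ≠ b l) ∨ (b k = b l ∧ a k ≠ a l) := by
    intro k l hk hl hkl
    apply irr_diff_inner_one (hab k hk) (hab l hl)
    rw [← hDk k hk, ← hDk l hl, hinnerG k l hk hl, if_neg hkl]
  by_cases hA : ∀ k l, k ≠ i₀ → l ≠ i₀ → a k = a l
  · refine ⟨1, Or.inl rfl, fun k => if k = i₀ then (a i₁ : G → ℂ) else (b k : G → ℂ), ?_, ?_, ?_⟩
    · intro k
      by_cases hk : k = i₀
      · simp only [hk, if_true]; exact (a i₁).2
      · simp only [hk, if_false]; exact (b k).2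
    · intro k l hkl
      by_cases hk : k = i₀ <;> by_cases hl : l = i₀
      · rw [hk, hl]
      · exfalso
        simp only [hk, hl, if_true, if_false] at hkl
        rw [hA i₁ l hi₁ hl] at hkl
        exact hab l hl (Subtype.ext hkl)
      · exfalso
        simp only [hk, hl, if_true, if_false] at hkl
        rw [hA i₁ k hi₁ hk] at hkl
        exact hab k hk (Subtype.ext hkl.symm)
      · simp only [hk, hl, if_false] at hkl
        by_contra hne
        rcases hdich k l hk hl hne with ⟨_, h2⟩ | ⟨_, h2⟩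
        · exact h2 (Subtype.ext hkl)
        · exact h2 (hA k l hk hl)
    · intro i j
      rw [one_smul]
      by_cases hi : i = i₀ <;> by_cases hj : j = i₀
      · rw [hi, hj]; simp
      · simp only [hi, hj, if_true, if_false, hD0, sub_zero]
        rw [hDk j hj, hA i₁ j hi₁ hj]
      · simp only [hi, hj, if_true, if_false, hD0, zero_sub]
        rw [hDk i hi, hA i₁ i hi₁ hi]; abel
      · simp only [hi, hj, if_false]
        rw [hDk i hi, hDk j hj, hA i j hi hj]; abel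
  · push Not at hA
    obtain ⟨k₁, k₂, hk₁, hk₂, hne⟩ := hA
    have hk12 : k₁ ≠ k₂ := fun h => hne (by rw [h])
    have hb12 : b k₁ = b k₂ := by
      rcases hdich k₁ k₂ hk₁ hk₂ hk12 with ⟨h1, _⟩ | ⟨h1, _⟩
      · exact absurd h1 hne
      · exact h1
    have hB : ∀ k, k ≠ i₀ → b k = b k₁ := by
      intro k hk
      by_cases hkk₁ : k = k₁
      · rw [hkk₁]
      · rcases hdich k k₁ hk hk₁ hkk₁ with ⟨h1, h2⟩ | ⟨h1, _⟩
        · exfalso
          have hkk₂ : k ≠ k₂ := fun h => hne (by rw [← h1, h])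
          rcases hdich k k₂ hk hk₂ hkk₂ with ⟨h3, _⟩ | ⟨h3, _⟩
          · exact hne (by rw [← h1, h3])
          · exact h2 (by rw [h3, hb12])
        · exact h1
    refine ⟨-1, Or.inr rfl, fun k => if k = i₀ then (b k₁ : G → ℂ) else (a k : G → ℂ), ?_, ?_, ?_⟩
    · intro k
      by_cases hk : k = i₀
      · simp only [hk, if_true]; exact (b k₁).2
      · simp only [hk, if_false]; exact (a k).2
    · intro k l hkl
      by_cases hk : k = i₀ <;> by_cases hl : l = i₀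
      · rw [hk, hl]
      · exfalso
        simp only [hk, hl, if_true, if_false] at hkl
        rw [← hB l hl] at hkl
        exact hab l hl (Subtype.ext hkl.symm)
      · exfalso
        simp only [hk, hl, if_true, if_false] at hkl
        rw [← hB k hk] at hkl
        exact hab k hk (Subtype.ext hkl)
      · simp only [hk, hl, if_false] at hkl
        by_contra hne'
        rcases hdich k l hk hl hne' with ⟨_, h2⟩ | ⟨_, h2⟩
        · exact h2 (by rw [hB k hk, hB l hl])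
        · exact h2 (Subtype.ext hkl)
    · intro i j
      by_cases hi : i = i₀ <;> by_cases hj : j = i₀
      · rw [hi, hj]; simp
      · simp only [hi, hj, if_true, if_false, hD0, sub_zero]
        rw [hDk j hj, hB j hj]; simp
      · simp only [hi, hj, if_true, if_false, hD0, zero_sub]
        rw [hDk i hi, hB i hi]; simp
      · simp only [hi, hj, if_false]
        rw [hDk i hi, hDk j hj, hB i hi, hB j hj]
        simp only [neg_smul, one_smul]; abel

/-- `τ 0 = 0` for a linear isometry on a set containing `0`. -/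
theorem isometry_map_zero {N : Type u} [Group N] [Fintype N] {G : Type v} [Group G] [Fintype G]
    {E : Set (N → ℂ)} {τ : (N → ℂ) → (G → ℂ)} (hτ : Cfsg.IsLinearIsometryOn E τ)
    (h0 : (0 : N → ℂ) ∈ E) : τ 0 = 0 := by
  have := hτ.2.1 0 h0 0
  simpa using this

/-- Irreducible characters of the same degree (at least two of them) form a coherent set. -/
theorem coherent_equal_degree {N : Type u} [Group N] [Fintype N] {G : Type v} [Group G]
    [Fintype G] (S₁ : Finset (N → ℂ)) (hirr : ∀ ξ ∈ S₁, Cfsg.IsIrrCharacter N ξ) (e : ℕ)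
    (hdeg : ∀ ξ ∈ S₁, ξ 1 = (e : ℂ)) (hcard : 2 ≤ S₁.card) (τ : (N → ℂ) → (G → ℂ))
    (hτ : Cfsg.IsLinearIsometryOn (Cfsg.zspanOn (↑S₁ : Set (N → ℂ)) {1}ᶜ) τ)
    (hτ1 : ∀ α ∈ Cfsg.zspanOn (↑S₁ : Set (N → ℂ)) {1}ᶜ, τ α 1 = 0) :
    Cfsg.IsCoherent (↑S₁ : Set (N → ℂ)) {1}ᶜ τ := by
  classical
  haveI : Fintype (IrrCharacter N) := @Fintype.ofFinite _ irr_finite
  obtain ⟨χ₀, hχ₀, χ₁, hχ₁, hne01⟩ := Finset.one_lt_card.mp (by omega : 1 < S₁.card)
  obtain ⟨hτadd, hτsmul, hτiso, hτgen⟩ := hτ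
  have hτ' : Cfsg.IsLinearIsometryOn (Cfsg.zspanOn (↑S₁ : Set (N → ℂ)) {1}ᶜ) τ :=
    ⟨hτadd, hτsmul, hτiso, hτgen⟩
  have he0 : (e : ℂ) ≠ 0 := by
    obtain ⟨n, hn, hn1⟩ := irr_degree_pos (hirr χ₀ hχ₀)
    rw [hdeg χ₀ hχ₀] at hn1
    have : e = n := by exact_mod_cast hn1
    rw [this]
    exact_mod_cast hn.ne'
  have hmemS : ∀ ξ ∈ S₁, ξ ∈ Cfsg.zspan (↑S₁ : Set (N → ℂ)) := fun ξ hξ => subset_zspan hξ
  have hdiffmem : ∀ ξ ∈ S₁, (χ₀ - ξ) ∈ Cfsg.zspanOn (↑S₁ : Set (N → ℂ)) {1}ᶜ := by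
    intro ξ hξ
    refine mem_zspanOn_compl_one.2 ⟨zspan_sub_mem (hmemS χ₀ hχ₀) (hmemS ξ hξ), ?_⟩
    rw [Pi.sub_apply, hdeg χ₀ hχ₀, hdeg ξ hξ, sub_self]
  have h0mem : (0 : N → ℂ) ∈ Cfsg.zspanOn (↑S₁ : Set (N → ℂ)) {1}ᶜ :=
    mem_zspanOn_compl_one.2 ⟨zspan_zero_mem _, rfl⟩
  have hτ0 : τ 0 = 0 := isometry_map_zero hτ' h0mem
  -- the index type
  let i₀ : {ξ // ξ ∈ S₁} := ⟨χ₀, hχ₀⟩
  let i₁ : {ξ // ξ ∈ S₁} := ⟨χ₁, hχ₁⟩
  have hi₁ : i₁ ≠ i₀ := by
    intro h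
    exact hne01 (congrArg Subtype.val h).symm
  let D : {ξ // ξ ∈ S₁} → (G → ℂ) := fun k => τ (χ₀ - k.1)
  have hD0 : D i₀ = 0 := by
    show τ (χ₀ - χ₀) = 0
    rw [sub_self, hτ0]
  have hDgen : ∀ k, Cfsg.IsGeneralizedCharacter G (D k) := fun k => hτgen _ (hdiffmem k.1 k.2)
  have hD1 : ∀ k, D k 1 = 0 := fun k => hτ1 _ (hdiffmem k.1 k.2)
  have horth : ∀ ξ ∈ S₁, ∀ ξ' ∈ S₁, classInner ξ ξ' = if ξ = ξ' then 1 else 0 :=
    fun ξ hξ ξ' hξ' => irr_orthonormal (hirr ξ hξ) (hirr ξ' hξ')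
  have hinnerG : ∀ k l : {ξ // ξ ∈ S₁}, k ≠ i₀ → l ≠ i₀ →
      Cfsg.classInner (D k) (D l) = if k = l then 2 else 1 := by
    intro k l hk hl
    show classInner (τ (χ₀ - k.1)) (τ (χ₀ - l.1)) = _
    rw [hτiso _ (hdiffmem k.1 k.2) _ (hdiffmem l.1 l.2)]
    have hk' : k.1 ≠ χ₀ := fun h => hk (Subtype.ext h)
    have hl' : l.1 ≠ χ₀ := fun h => hl (Subtype.ext h)
    simp only [classInner_sub_left, classInner_sub_right, horth χ₀ hχ₀ χ₀ hχ₀,
      horth χ₀ hχ₀ l.1 l.2, horth k.1 k.2 χ₀ hχ₀, horth k.1 k.2 l.1 l.2, if_pos,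
      if_neg hk', if_neg (Ne.symm hl')]
    by_cases hkl : k = l
    · rw [if_pos hkl, if_pos (congrArg Subtype.val hkl)]; norm_num
    · rw [if_neg hkl, if_neg (fun h => hkl (Subtype.ext h))]; norm_num
  obtain ⟨ε, hε, θ, hθirr, hθinj, hθD⟩ :=
    abstract_exceptional i₀ i₁ hi₁ D hD0 hDgen hD1 hinnerG
  have hεε : ε * conj ε = 1 := by
    rcases hε with rfl | rfl <;> simp
  -- the extension
  let f : IrrCharacter N → (G → ℂ) := fun ξ =>
    if h : (ξ : N → ℂ) ∈ S₁ then ε • θ ⟨ξ, h⟩ else 0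
  have hTL : ZLinOn (↑S₁ : Set (N → ℂ)) (extIrr f) := extIrr_zlinOn f _
  have hTgen : ∀ ξ (hξ : ξ ∈ S₁), extIrr f ξ = ε • θ ⟨ξ, hξ⟩ := by
    intro ξ hξ
    have := extIrr_irr f ⟨ξ, hirr ξ hξ⟩
    rw [this]
    simp only [f, dif_pos hξ]
  have hθorth : ∀ k l : {ξ // ξ ∈ S₁}, classInner (θ k) (θ l) = if k = l then 1 else 0 := by
    intro k l
    rw [irr_orthonormal (hθirr k) (hθirr l)]
    by_cases hkl : k = l
    · rw [if_pos hkl, if_pos (by rw [hkl])]
    · rw [if_neg hkl, if_neg (fun h => hkl (hθinj h))]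
  -- the submodule generated by the differences
  let W : Submodule ℤ (N → ℂ) := Submodule.span ℤ {β | ∃ ξ ∈ S₁, β = χ₀ - ξ}
  have hW : ∀ β ∈ W, β ∈ Cfsg.zspanOn (↑S₁ : Set (N → ℂ)) {1}ᶜ ∧ extIrr f β = τ β := by
    intro β hβ
    induction hβ using Submodule.span_induction with
    | mem b hb =>
      obtain ⟨ξ, hξ, rfl⟩ := hb
      refine ⟨hdiffmem ξ hξ, ?_⟩
      rw [hTL.map_sub (hmemS χ₀ hχ₀) (hmemS ξ hξ), hTgen χ₀ hχ₀, hTgen ξ hξ, ← smul_sub]
      have := hθD i₀ ⟨ξ, hξ⟩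
      rw [hD0, sub_zero] at this
      exact this.symm
    | zero => exact ⟨h0mem, by rw [hTL.map_zero, hτ0]⟩
    | add a b _ _ iha ihb =>
      exact ⟨zspanOn_add_mem iha.1 ihb.1, by
        rw [extIrr_add, iha.2, ihb.2, hτadd a iha.1 b ihb.1]⟩
    | smul n a _ iha =>
      exact ⟨zspanOn_smul_mem n iha.1, by rw [extIrr_zsmul, iha.2, hτsmul a iha.1 n]⟩
  have hdecomp : ∀ α ∈ Cfsg.zspan (↑S₁ : Set (N → ℂ)), ∃ m : ℤ, α - m • χ₀ ∈ W := by
    intro α hα
    rw [mem_zspan] at hα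
    induction hα using Submodule.span_induction with
    | mem a ha =>
      refine ⟨1, ?_⟩
      have : a - (1 : ℤ) • χ₀ = -(χ₀ - a) := by rw [one_smul]; abel
      rw [this]
      exact W.neg_mem (Submodule.subset_span ⟨a, ha, rfl⟩)
    | zero => exact ⟨0, by simp⟩
    | add a b _ _ iha ihb =>
      obtain ⟨m, hm⟩ := iha
      obtain ⟨m', hm'⟩ := ihb
      refine ⟨m + m', ?_⟩
      have : a + b - (m + m') • χ₀ = (a - m • χ₀) + (b - m' • χ₀) := by rw [add_smul]; abel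
      rw [this]
      exact W.add_mem hm hm'
    | smul n a _ iha =>
      obtain ⟨m, hm⟩ := iha
      refine ⟨n * m, ?_⟩
      have : n • a - (n * m) • χ₀ = n • (a - m • χ₀) := by rw [smul_sub, mul_smul]
      rw [this]
      exact W.smul_mem n hm
  refine ⟨⟨χ₀ - χ₁, hdiffmem χ₁ hχ₁, sub_ne_zero.2 hne01⟩, extIrr f,
    ⟨hTL.add, hTL.smul, ?_, ?_⟩, ?_⟩
  · intro α hα β hβ
    refine inner_eq_of_span hTL ?_ hα hβ
    intro a ha b hb
    have ha' : a ∈ S₁ := ha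
    have hb' : b ∈ S₁ := hb
    rw [hTgen a ha', hTgen b hb', classInner_smul_left, classInner_smul_right, hθorth,
      horth a ha' b hb']
    by_cases hab : a = b
    · subst hab
      rw [if_pos rfl, if_pos rfl, mul_one, hεε]
    · rw [if_neg hab, if_neg (fun h => hab (congrArg Subtype.val h))]
      simp
  · intro α hα
    refine hTL.induction (IsGeneralizedCharacter G) ?_ isGeneralizedCharacter_zero
      (fun _ _ => isGeneralizedCharacter_add) (fun n _ => isGeneralizedCharacter_zsmul n) hα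
    intro a ha
    have ha' : a ∈ S₁ := ha
    rw [hTgen a ha']
    rcases hε with rfl | rfl
    · rw [one_smul]
      exact isGeneralizedCharacter_of_isCharacter (IsIrrCharacter.isCharacter (hθirr _))
    · rw [neg_smul, one_smul]
      exact isGeneralizedCharacter_neg
        (isGeneralizedCharacter_of_isCharacter (IsIrrCharacter.isCharacter (hθirr _)))
  · intro α hα
    obtain ⟨hα1, hα0⟩ := mem_zspanOn_compl_one.1 hα
    obtain ⟨m, hm⟩ := hdecomp α hα1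
    have h1 := ((mem_zspanOn_compl_one.1 (hW _ hm).1).2)
    rw [Pi.sub_apply, Pi.smul_apply, hα0, hdeg χ₀ hχ₀, zsmul_eq_mul, zero_sub, neg_eq_zero] at h1
    have hm0 : m = 0 := by
      rcases mul_eq_zero.1 h1 with h | h
      · exact_mod_cast h
      · exact absurd h he0
    rw [hm0, zero_smul, sub_zero] at hm
    exact (hW α hm).2

theorem isometry_mono {N : Type u} [Group N] [Fintype N] {G : Type v} [Group G] [Fintype G]
    {E E' : Set (N → ℂ)} {τ : (N → ℂ) → (G → ℂ)} (hτ : Cfsg.IsLinearIsometryOn E τ)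
    (h : E' ⊆ E) : Cfsg.IsLinearIsometryOn E' τ :=
  ⟨fun α hα β hβ => hτ.1 α (h hα) β (h hβ), fun α hα n => hτ.2.1 α (h hα) n,
    fun α hα β hβ => hτ.2.2.1 α (h hα) β (h hβ), fun α hα => hτ.2.2.2 α (h hα)⟩

/-- The degree-chain induction: if the characters of the smallest degree `e` (at least two of
them) divide all degrees and every character `χ` of larger degree satisfies Feit's inequality with
respect to the characters of smaller degree, then the whole set is coherent. -/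
theorem coherent_chain {N : Type u} [Group N] [Fintype N] {G : Type v} [Group G] [Fintype G]
    (S : Finset (N → ℂ)) (hirr : ∀ ξ ∈ S, Cfsg.IsIrrCharacter N ξ) (d : (N → ℂ) → ℕ)
    (hd : ∀ ξ ∈ S, ξ 1 = (d ξ : ℂ)) (e : ℕ) (hediv : ∀ ξ ∈ S, e ∣ d ξ)
    (hcard : 2 ≤ (S.filter (fun ξ => d ξ = e)).card)
    (hsum : ∀ χ ∈ S, d χ ≠ e → 2 * e * d χ < ∑ ξ ∈ S.filter (fun ξ => d ξ < d χ), d ξ ^ 2)
    (τ : (N → ℂ) → (G → ℂ))
    (hτ : Cfsg.IsLinearIsometryOn (Cfsg.zspanOn (↑S : Set (N → ℂ)) {1}ᶜ) τ)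
    (hτ1 : ∀ α ∈ Cfsg.zspanOn (↑S : Set (N → ℂ)) {1}ᶜ, τ α 1 = 0) :
    Cfsg.IsCoherent (↑S : Set (N → ℂ)) {1}ᶜ τ := by
  classical
  set S₁ := S.filter (fun ξ => d ξ = e) with hS₁
  have hdpos : ∀ ξ ∈ S, 0 < d ξ := by
    intro ξ hξ
    obtain ⟨n, hn, hn1⟩ := irr_degree_pos (hirr ξ hξ)
    rw [hd ξ hξ] at hn1
    have : d ξ = n := by exact_mod_cast hn1
    omega
  have key : ∀ k : ℕ, ∀ T : Finset (N → ℂ), T ⊆ S → S₁ ⊆ T → T.card = k →
      (∀ ξ ∈ S, ∀ χ ∈ T, d ξ < d χ → ξ ∈ T) → Cfsg.IsCoherent (↑T : Set (N → ℂ)) {1}ᶜ τ := by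
    intro k
    induction k with
    | zero =>
      intro T _ hS₁T hT _
      exfalso
      have := Finset.card_le_card hS₁T
      omega
    | succ k ih =>
      intro T hTS hS₁T hT hclosed
      have hsubT : Cfsg.zspanOn (↑T : Set (N → ℂ)) {1}ᶜ ⊆ Cfsg.zspanOn (↑S : Set (N → ℂ)) {1}ᶜ :=
        zspanOn_mono (by exact_mod_cast hTS) _
      by_cases hTS₁ : T = S₁
      · rw [hTS₁]
        have hsub1 : Cfsg.zspanOn (↑S₁ : Set (N → ℂ)) {1}ᶜ ⊆
            Cfsg.zspanOn (↑S : Set (N → ℂ)) {1}ᶜ :=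
          zspanOn_mono (by exact_mod_cast Finset.filter_subset _ _) _
        refine coherent_equal_degree S₁ (fun ξ hξ => hirr ξ (Finset.mem_of_mem_filter ξ hξ)) e
          ?_ hcard τ (isometry_mono hτ hsub1) (fun α hα => hτ1 α (hsub1 hα))
        intro ξ hξ
        rw [hd ξ (Finset.mem_of_mem_filter ξ hξ), (Finset.mem_filter.1 hξ).2]
      · have hne : (T \ S₁).Nonempty := by
          rw [Finset.nonempty_iff_ne_empty]
          intro h
          apply hTS₁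
          exact Finset.Subset.antisymm (Finset.sdiff_eq_empty_iff_subset.1 h) hS₁T
        obtain ⟨χ, hχmem, hχmax⟩ := Finset.exists_max_image (T \ S₁) d hne
        obtain ⟨hχT, hχS₁⟩ := Finset.mem_sdiff.1 hχmem
        have hχS : χ ∈ S := hTS hχT
        have hdχe : d χ ≠ e := fun h => hχS₁ (Finset.mem_filter.2 ⟨hχS, h⟩)
        have heχ : e ≤ d χ := Nat.le_of_dvd (hdpos χ hχS) (hediv χ hχS)
        have hmaxT : ∀ χ' ∈ T, d χ' ≤ d χ := by
          intro χ' hχ'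
          by_cases h : χ' ∈ S₁
          · rw [(Finset.mem_filter.1 h).2]; exact heχ
          · exact hχmax χ' (Finset.mem_sdiff.2 ⟨hχ', h⟩)
        set T₀ := T.erase χ with hT₀
        have hT₀T : T₀ ⊆ T := Finset.erase_subset _ _
        have hins : insert χ T₀ = T := Finset.insert_erase hχT
        have hcoh₀ : Cfsg.IsCoherent (↑T₀ : Set (N → ℂ)) {1}ᶜ τ := by
          apply ih T₀ (hT₀T.trans hTS)
          · intro ξ hξ
            exact Finset.mem_erase.2 ⟨fun h => hχS₁ (h ▸ hξ), hS₁T hξ⟩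
          · rw [hT₀, Finset.card_erase_of_mem hχT, hT]; rfl
          · intro ξ hξ χ' hχ' hlt
            have hχ'T := hT₀T hχ'
            refine Finset.mem_erase.2 ⟨?_, hclosed ξ hξ χ' hχ'T hlt⟩
            intro h
            have := hmaxT χ' hχ'T
            rw [h] at hlt
            omega
        obtain ⟨ψ, hψ⟩ : ∃ ψ, ψ ∈ S₁ := by
          have : 0 < S₁.card := by omega
          exact Finset.card_pos.1 this
        have hψT₀ : ψ ∈ T₀ := Finset.mem_erase.2 ⟨fun h => hχS₁ (h ▸ hψ), hS₁T hψ⟩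
        have hdψ : d ψ = e := (Finset.mem_filter.1 hψ).2
        have hmain := feit_criterion T₀ χ (fun ξ hξ => hirr ξ (hTS (hT₀T hξ))) (hirr χ hχS)
          (Finset.notMem_erase χ T) d
          (fun ξ hξ => hd ξ (hTS (by rw [hins] at hξ; exact hξ))) τ
          (by rw [hins]; exact isometry_mono hτ hsubT)
          (by rw [hins]; exact fun α hα => hτ1 α (hsubT hα)) hcoh₀ ψ hψT₀
          (by rw [hdψ]; exact hediv χ hχS)
          (by
            rw [hdψ]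
            refine lt_of_lt_of_le (hsum χ hχS hdχe) ?_
            apply Finset.sum_le_sum_of_subset
            intro ξ hξ
            obtain ⟨hξS, hξlt⟩ := Finset.mem_filter.1 hξ
            refine Finset.mem_erase.2 ⟨?_, hclosed ξ hξS χ hχT hξlt⟩
            intro h
            rw [h] at hξlt
            omega)
        rw [hins] at hmain
        exact hmain
  exact key S.card S (Finset.Subset.refl _) (Finset.filter_subset _ _) rfl
    (fun ξ hξ _ _ _ => hξ)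

end Cfsg.Agent.H3Feit
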