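import Mathlib
import Cfsg.Agent.Lib.Helper79.Inflation
import Cfsg.Agent.Lib.Helper79.LinearDeg
import Cfsg.Agent.Lib.Helper79.Codegree
import Cfsg.Agent.Lib.Helper79.Orthogonality
import Cfsg.Agent.Lib.Helper78.ProdIrr
import Cfsg.Agent.Lib.Helper81.CharCorr
import Cfsg.Agent.S0188

/-!
# Sums of squares of character degrees below a bound (for Feit's coherence theorem)
-/

set_option autoImplicit false
set_option linter.style.haveILetI false
set_option linter.unusedSectionVars false
set_option linter.unusedVariables false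

namespace Cfsg.Agent.H3Feit

open Cfsg Cfsg.Agent.Helper79
open scoped ComplexConjugate

universe u v

/-- The sum of the squares of the degrees `< f` of the irreducible characters of `K`. -/
noncomputable def Tdeg (K : Type u) [Group K] [Finite K] (f : ℕ) : ℕ :=
  ∑ ψ ∈ (Finset.univ : Finset (IrrCharacter K)).filter
      (fun ψ : IrrCharacter K => charDegree (ψ : K → ℂ) < f), charDegree (ψ : K → ℂ) ^ 2

section basic

variable {K : Type u} [Group K] [Finite K]

theorem Tdeg_mono {f g : ℕ} (h : f ≤ g) : Tdeg K f ≤ Tdeg K g := by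
  unfold Tdeg
  apply Finset.sum_le_sum_of_subset
  intro ψ hψ
  rw [Finset.mem_filter] at hψ ⊢
  exact ⟨hψ.1, lt_of_lt_of_le hψ.2 h⟩

open Classical in
/-- The linear characters contribute the index of the commutator subgroup. -/
theorem index_commutator_le_Tdeg {f : ℕ} (hf : 2 ≤ f) : (commutator K).index ≤ Tdeg K f := by
  rw [← sum_sq_degree_of_le_ker (commutator K)]
  unfold Tdeg
  apply Finset.sum_le_sum_of_subset
  intro ψ hψ
  rw [Finset.mem_filter] at hψ ⊢
  refine ⟨hψ.1, ?_⟩
  rw [degree_one_of_commutator_le_irrKer ψ hψ.2]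
  omega

open Classical in
/-- The linear characters and one further character of degree `b ≥ 2`. -/
theorem index_commutator_add_sq_le_Tdeg (β : IrrCharacter K)
    (hb : 2 ≤ charDegree (β : K → ℂ)) :
    (commutator K).index + charDegree (β : K → ℂ) ^ 2 ≤ Tdeg K (charDegree (β : K → ℂ) + 1) := by
  rw [← sum_sq_degree_of_le_ker (commutator K)]
  unfold Tdeg
  have hβ : β ∉ Finset.univ.filter (fun χ : IrrCharacter K => commutator K ≤ irrKer χ) := by
    intro h
    rw [Finset.mem_filter] at h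
    have := degree_one_of_commutator_le_irrKer β h.2
    omega
  rw [add_comm, ← Finset.sum_insert (f := fun ψ : IrrCharacter K => charDegree (ψ : K → ℂ) ^ 2) hβ]
  apply Finset.sum_le_sum_of_subset
  intro ψ hψ
  rw [Finset.mem_insert] at hψ
  rw [Finset.mem_filter]
  refine ⟨Finset.mem_univ _, ?_⟩
  rcases hψ with rfl | hψ
  · omega
  · rw [Finset.mem_filter] at hψ
    rw [degree_one_of_commutator_le_irrKer ψ hψ.2]
    omega

theorem degree_dvd_card (χ : IrrCharacter K) : charDegree (χ : K → ℂ) ∣ Nat.card K :=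
  (degree_dvd_index_irrKer χ).trans (Subgroup.index_dvd_card _)

theorem Tdeg_pos {f : ℕ} (hf : 2 ≤ f) : 0 < Tdeg K f := by
  have h1 := index_commutator_le_Tdeg (K := K) hf
  have h2 : (commutator K).index ≠ 0 := Subgroup.index_ne_zero_of_finite
  omega

/-- In a `p`-group, the degrees below a degree `f > 1` already contribute `f ^ 2`. -/
theorem sq_le_Tdeg_of_isPGroup (p : ℕ) [hp : Fact p.Prime] (hK : IsPGroup p K)
    (ψ₀ : IrrCharacter K) (hf : 2 ≤ charDegree (ψ₀ : K → ℂ)) :
    charDegree (ψ₀ : K → ℂ) ^ 2 ≤ Tdeg K (charDegree (ψ₀ : K → ℂ)) := by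
  classical
  haveI := Fintype.ofFinite K
  obtain ⟨n, hn⟩ := hK.exists_card_eq
  set f := charDegree (ψ₀ : K → ℂ) with hfdef
  have hpow : ∀ χ : IrrCharacter K, ∃ m, m ≤ n ∧ charDegree (χ : K → ℂ) = p ^ m := by
    intro χ
    have h := degree_dvd_card χ
    rw [hn] at h
    exact (Nat.dvd_prime_pow hp.out).1 h
  obtain ⟨k, hkn, hk'⟩ := hpow ψ₀
  have hk : f = p ^ k := hk'
  have hsplit := Finset.sum_filter_add_sum_filter_not (Finset.univ : Finset (IrrCharacter K))
    (fun ψ : IrrCharacter K => charDegree (ψ : K → ℂ) < f)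
    (fun ψ => charDegree (ψ : K → ℂ) ^ 2)
  rw [sum_sq_degree_nat, hn] at hsplit
  have hdvd2 : f ^ 2 ∣ ∑ ψ ∈ Finset.univ.filter
      (fun ψ : IrrCharacter K => ¬ charDegree (ψ : K → ℂ) < f), charDegree (ψ : K → ℂ) ^ 2 := by
    apply Finset.dvd_sum
    intro ψ hψ
    rw [Finset.mem_filter] at hψ
    obtain ⟨m, _, hm⟩ := hpow ψ
    have hle : f ≤ charDegree (ψ : K → ℂ) := not_lt.1 hψ.2
    rw [hm, hk] at hle ⊢
    have hkm : k ≤ m := (Nat.pow_le_pow_iff_right hp.out.one_lt).1 hle
    exact pow_dvd_pow_of_dvd (pow_dvd_pow p hkm) 2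
  have hle2 : f ^ 2 ≤ ∑ ψ ∈ Finset.univ.filter
      (fun ψ : IrrCharacter K => ¬ charDegree (ψ : K → ℂ) < f), charDegree (ψ : K → ℂ) ^ 2 := by
    have hmem : ψ₀ ∈ Finset.univ.filter
        (fun ψ : IrrCharacter K => ¬ charDegree (ψ : K → ℂ) < f) := by
      rw [Finset.mem_filter]
      exact ⟨Finset.mem_univ _, lt_irrefl _⟩
    exact Finset.single_le_sum (f := fun ψ : IrrCharacter K => charDegree (ψ : K → ℂ) ^ 2)
      (fun _ _ => Nat.zero_le _) hmem
  have hTpos : 0 < Tdeg K f := Tdeg_pos hf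
  have hT : Tdeg K f = ∑ ψ ∈ Finset.univ.filter
      (fun ψ : IrrCharacter K => charDegree (ψ : K → ℂ) < f), charDegree (ψ : K → ℂ) ^ 2 := rfl
  rw [← hT] at hsplit
  have hfn : f ^ 2 ∣ p ^ n := by
    rw [hk, ← pow_mul]
    apply pow_dvd_pow
    have h1 : f ^ 2 ≤ p ^ n := by omega
    rw [hk, ← pow_mul] at h1
    exact (Nat.pow_le_pow_iff_right hp.out.one_lt).1 h1
  have hdvdT : f ^ 2 ∣ Tdeg K f := by
    have := (Nat.dvd_add_left hdvd2).1 (hsplit ▸ hfn)
    exact this
  exact Nat.le_of_dvd hTpos hdvdT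

end basic

section equiv

variable {K : Type u} [Group K] [Finite K] {K' : Type v} [Group K'] [Finite K']

/-- Transport of irreducible characters along an isomorphism. -/
noncomputable def irrCongr (e : K' ≃* K) : IrrCharacter K ≃ IrrCharacter K' where
  toFun ψ := ⟨fun x => (ψ : K → ℂ) (e x), Cfsg.Agent.Helper81.isIrrCharacter_comp_equiv e ψ.2⟩
  invFun ψ := ⟨fun x => (ψ : K' → ℂ) (e.symm x),
    Cfsg.Agent.Helper81.isIrrCharacter_comp_equiv e.symm ψ.2⟩
  left_inv ψ := by
    apply Subtype.ext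
    funext x
    simp
  right_inv ψ := by
    apply Subtype.ext
    funext x
    simp

theorem charDegree_irrCongr (e : K' ≃* K) (ψ : IrrCharacter K) :
    charDegree ((irrCongr e ψ : IrrCharacter K') : K' → ℂ) = charDegree (ψ : K → ℂ) := by
  unfold charDegree irrCongr
  simp

theorem Tdeg_congr (e : K' ≃* K) (f : ℕ) : Tdeg K f = Tdeg K' f := by
  unfold Tdeg
  apply Finset.sum_equiv (irrCongr e)
  · intro ψ
    simp only [Finset.mem_filter, Finset.mem_univ, true_and, charDegree_irrCongr]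
  · intro ψ _
    rw [charDegree_irrCongr]

theorem index_commutator_congr (e : K' ≃* K) : (commutator K).index = (commutator K').index := by
  have h : (commutator K').map (e : K' →* K) = commutator K := by
    rw [commutator_def, commutator_def, Subgroup.map_commutator]
    have : (⊤ : Subgroup K').map (e : K' →* K) = ⊤ := by
      rw [← MonoidHom.range_eq_map]
      exact MonoidHom.range_eq_top.2 e.surjective
    rw [this]
  rw [← h, Subgroup.index_map_equiv]

end equiv

section prod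

variable {A : Type u} [Group A] [Fintype A] {B : Type v} [Group B] [Fintype B]

theorem charDegree_eq_of_one_eq {G : Type*} [Group G] {χ : G → ℂ} {n : ℕ} (h : χ 1 = (n : ℂ)) :
    charDegree χ = n := by
  unfold charDegree
  rw [h]
  simp

/-- The product of two irreducible characters, as an irreducible character of the product. -/
noncomputable def irrProd (α : IrrCharacter A) (β : IrrCharacter B) : IrrCharacter (A × B) :=
  ⟨fun x => (α : A → ℂ) x.1 * (β : B → ℂ) x.2, Cfsg.Agent.S0188.isIrrCharacter_prod α.2 β.2⟩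

theorem irrProd_apply (α : IrrCharacter A) (β : IrrCharacter B) (x : A × B) :
    (irrProd α β : A × B → ℂ) x = (α : A → ℂ) x.1 * (β : B → ℂ) x.2 := rfl

theorem charDegree_irrProd (α : IrrCharacter A) (β : IrrCharacter B) :
    charDegree (irrProd α β : A × B → ℂ) =
      charDegree (α : A → ℂ) * charDegree (β : B → ℂ) := by
  apply charDegree_eq_of_one_eq
  rw [irrProd_apply, Prod.fst_one, Prod.snd_one, (irr_one_eq α).1, (irr_one_eq β).1]
  push_cast
  rfl

theorem irrProd_left_inj {α α' : IrrCharacter A} {β β' : IrrCharacter B}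
    (h : irrProd α β = irrProd α' β') : α = α' := by
  by_contra hne
  have hfun : ∀ x : A, (α : A → ℂ) x * (β : B → ℂ) 1 = (α' : A → ℂ) x * (β' : B → ℂ) 1 := by
    intro x
    have := congrFun (congrArg Subtype.val h) (x, 1)
    exact this
  have hb : (β : B → ℂ) 1 ≠ 0 := by
    rw [(irr_one_eq β).1]
    exact_mod_cast (irr_one_eq β).2.ne'
  have h1 : ((β : B → ℂ) 1) • (α : A → ℂ) = ((β' : B → ℂ) 1) • (α' : A → ℂ) := by
    funext x
    simp only [Pi.smul_apply, smul_eq_mul]
    rw [mul_comm, hfun x, mul_comm]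
  have h2 := congrArg (fun F => classInner F (α : A → ℂ)) h1
  simp only [Cfsg.Agent.Helper81.classInner_smul_left] at h2
  rw [Cfsg.Agent.Helper81.irr_orthonormal α.2 α.2, if_pos rfl,
    Cfsg.Agent.Helper81.irr_orthonormal α'.2 α.2,
    if_neg (fun h => hne (Subtype.ext h.symm)), mul_one, mul_zero] at h2
  exact hb h2

theorem irrProd_right_inj {α α' : IrrCharacter A} {β β' : IrrCharacter B}
    (h : irrProd α β = irrProd α' β') : β = β' := by
  by_contra hne
  have hfun : ∀ y : B, (α : A → ℂ) 1 * (β : B → ℂ) y = (α' : A → ℂ) 1 * (β' : B → ℂ) y := by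
    intro y
    have := congrFun (congrArg Subtype.val h) (1, y)
    exact this
  have ha : (α : A → ℂ) 1 ≠ 0 := by
    rw [(irr_one_eq α).1]
    exact_mod_cast (irr_one_eq α).2.ne'
  have h1 : ((α : A → ℂ) 1) • (β : B → ℂ) = ((α' : A → ℂ) 1) • (β' : B → ℂ) := by
    funext y
    simp only [Pi.smul_apply, smul_eq_mul]
    exact hfun y
  have h2 := congrArg (fun F => classInner F (β : B → ℂ)) h1
  simp only [Cfsg.Agent.Helper81.classInner_smul_left] at h2
  rw [Cfsg.Agent.Helper81.irr_orthonormal β.2 β.2, if_pos rfl,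
    Cfsg.Agent.Helper81.irr_orthonormal β'.2 β.2,
    if_neg (fun h => hne (Subtype.ext h.symm)), mul_one, mul_zero] at h2
  exact ha h2

theorem exists_irrProd_eq (Θ : IrrCharacter (A × B)) :
    ∃ (ζ : IrrCharacter A) (ψ : IrrCharacter B), Θ = irrProd ζ ψ := by
  obtain ⟨ζ, ψ, h⟩ := Cfsg.Agent.Helper78.exists_prod_decomp Θ.2
  refine ⟨ζ, ψ, Subtype.ext ?_⟩
  funext x
  rw [irrProd_apply]
  exact h x.1 x.2

/-- Products of characters of degree `< a` and of degree `≤ b` have degree `< a * b`. -/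
theorem Tdeg_prod_le (a b : ℕ) (hb : 1 ≤ b) :
    Tdeg A a * Tdeg B (b + 1) ≤ Tdeg (A × B) (a * b) := by
  classical
  unfold Tdeg
  rw [Finset.sum_mul_sum, ← Finset.sum_product']
  set sA := (Finset.univ : Finset (IrrCharacter A)).filter
    (fun ψ : IrrCharacter A => charDegree (ψ : A → ℂ) < a) with hsA
  set sB := (Finset.univ : Finset (IrrCharacter B)).filter
    (fun ψ : IrrCharacter B => charDegree (ψ : B → ℂ) < b + 1) with hsB
  have hinj : Set.InjOn (fun q : IrrCharacter A × IrrCharacter B => irrProd q.1 q.2)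
      (↑(sA ×ˢ sB) : Set (IrrCharacter A × IrrCharacter B)) := by
    intro q _ q' _ hqq
    exact Prod.ext (irrProd_left_inj hqq) (irrProd_right_inj hqq)
  have h1 : ∑ q ∈ sA ×ˢ sB, charDegree (q.1 : A → ℂ) ^ 2 * charDegree (q.2 : B → ℂ) ^ 2 =
      ∑ Θ ∈ (sA ×ˢ sB).image (fun q : IrrCharacter A × IrrCharacter B => irrProd q.1 q.2),
        charDegree (Θ : A × B → ℂ) ^ 2 := by
    rw [Finset.sum_image hinj]
    apply Finset.sum_congr rfl
    intro q _
    rw [charDegree_irrProd, mul_pow]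
  rw [h1]
  apply Finset.sum_le_sum_of_subset
  intro Θ hΘ
  rw [Finset.mem_image] at hΘ
  obtain ⟨q, hq, rfl⟩ := hΘ
  rw [Finset.mem_product, hsA, hsB, Finset.mem_filter, Finset.mem_filter] at hq
  rw [Finset.mem_filter]
  refine ⟨Finset.mem_univ _, ?_⟩
  rw [charDegree_irrProd]
  have h2 := (irr_one_eq q.2).2
  have h3 : charDegree (q.2 : B → ℂ) ≤ b := by omega
  calc charDegree (q.1 : A → ℂ) * charDegree (q.2 : B → ℂ)
      ≤ charDegree (q.1 : A → ℂ) * b := Nat.mul_le_mul_left _ h3
    _ < a * b := Nat.mul_lt_mul_of_pos_right hq.1.2 (by omega)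

theorem index_commutator_prod :
    (commutator (A × B)).index = (commutator A).index * (commutator B).index := by
  have h : commutator (A × B) = (commutator A).prod (commutator B) := by
    rw [commutator_def, commutator_def, commutator_def, ← Subgroup.commutator_prod_prod,
      Subgroup.top_prod_top]
  rw [h, Subgroup.index_prod]

/-- The degree estimate for a product of a `p`-group and a `p'`-group whose commutator quotients
have order at least `e + 1`. -/
theorem two_mul_le_Tdeg_prod (p : ℕ) [hp : Fact p.Prime] (hA : IsPGroup p A)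
    (hB : (Nat.card B).Coprime p) (e : ℕ)
    (hLA : e + 1 ≤ (commutator A).index) (hLB : e + 1 ≤ (commutator B).index)
    (Θ : IrrCharacter (A × B)) (hpΘ : p ∣ charDegree (Θ : A × B → ℂ)) :
    2 * e * charDegree (Θ : A × B → ℂ) + 2 ≤ Tdeg (A × B) (charDegree (Θ : A × B → ℂ)) := by
  obtain ⟨ζ, ψ, rfl⟩ := exists_irrProd_eq Θ
  rw [charDegree_irrProd] at hpΘ ⊢
  set a := charDegree (ζ : A → ℂ) with ha
  set b := charDegree (ψ : B → ℂ) with hb
  have hb1 : 1 ≤ b := (irr_one_eq ψ).2
  have hpb : ¬ p ∣ b := by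
    intro h
    have h1 : p ∣ Nat.card B := h.trans (degree_dvd_card ψ)
    have h2 : p ∣ Nat.gcd (Nat.card B) p := Nat.dvd_gcd h1 dvd_rfl
    rw [hB] at h2
    exact hp.out.one_lt.ne' (Nat.dvd_one.1 h2)
  have hpa : p ∣ a := by
    rcases (Nat.Prime.dvd_mul hp.out).1 hpΘ with h | h
    · exact h
    · exact absurd h hpb
  have ha2 : 2 ≤ a := by
    have h1 : 0 < a := (irr_one_eq ζ).2
    have := Nat.le_of_dvd h1 hpa
    have := hp.out.two_le
    omega
  have hX1 : a ^ 2 ≤ Tdeg A a := sq_le_Tdeg_of_isPGroup p hA ζ ha2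
  have hX2 : e + 1 ≤ Tdeg A a := hLA.trans (index_commutator_le_Tdeg ha2)
  have hmain := Tdeg_prod_le (A := A) (B := B) a b hb1
  rcases Nat.eq_or_lt_of_le hb1 with hb' | hb'
  · -- b = 1
    have hY : e + 1 ≤ Tdeg B (b + 1) := hLB.trans (index_commutator_le_Tdeg (by omega))
    rw [← hb'] at hmain hY ⊢
    have h1 : a ^ 2 * (e + 1) ≤ Tdeg A a * Tdeg B (1 + 1) := Nat.mul_le_mul hX1 hY
    nlinarith
  · -- b ≥ 2
    have hY : e + 1 + b ^ 2 ≤ Tdeg B (b + 1) := by
      have := index_commutator_add_sq_le_Tdeg ψ (by omega : 2 ≤ charDegree (ψ : B → ℂ))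
      rw [← hb] at this
      omega
    have hb2 : 2 ≤ b := hb'
    by_cases hae : e ≤ a ^ 2
    · have h1 : a ^ 2 * (e + 1 + b ^ 2) ≤ Tdeg A a * Tdeg B (b + 1) := Nat.mul_le_mul hX1 hY
      have h2 : 2 * e * (a * b) ≤ (a * b) ^ 2 + e ^ 2 := by nlinarith [sq_nonneg ((a * b : ℤ) - e)]
      have h3 : e ^ 2 ≤ a ^ 2 * e := by nlinarith
      nlinarith
    · push Not at hae
      have h1 : (e + 1) * (e + 1 + b ^ 2) ≤ Tdeg A a * Tdeg B (b + 1) := Nat.mul_le_mul hX2 hY
      have h2 : 2 * (a * b) ≤ a ^ 2 + b ^ 2 := by nlinarith [sq_nonneg ((a : ℤ) - b)]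
      have h3 : 2 * e * (a * b) ≤ e * (a ^ 2 + b ^ 2) := by nlinarith
      nlinarith

end prod

end Cfsg.Agent.H3Feit
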