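import Mathlib
import Cfsg.Agent.Lib.Helper82.TIFrob
import Cfsg.Agent.Lib.Helper66.Frobenius
import Cfsg.Agent.Lib.Helper3.FeitCohB
import Cfsg.Agent.Lib.Helper3.FeitCohA
import Cfsg.Agent.Lib.Helper81.CharRam

/-!
# Frobenius-type groups: congruences and the characters induced from the kernel
-/

set_option autoImplicit false
set_option linter.style.haveILetI false
set_option linter.unusedSectionVars false
set_option linter.unusedVariables false

namespace Cfsg.Agent.H3Feit

open Cfsg Cfsg.Agent.Helper81 Cfsg.Agent.Helper82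
open scoped ComplexConjugate

universe u v

section frob

variable {N : Type u} [Group N] [Fintype N] (H : Subgroup N) [hHn : H.Normal]
  (hC : ∀ h ∈ H, h ≠ 1 → Subgroup.centralizer ({h} : Set N) ≤ H)

include hC in
/-- Frobenius congruence: a normal subgroup of `N` inside the kernel `H` has order `≡ 1` modulo
the index of `H`. -/
theorem index_dvd_card_sub_one (M : Subgroup N) [hMn : M.Normal] (hMH : M ≤ H) :
    H.index ∣ Nat.card M - 1 := by
  classical
  let w : N → ℕ := fun y => if y ∈ M ∧ y ≠ 1 then 1 else 0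
  have hw : ∀ (g : ConjAct N) (y : N), w (g • y) = w y := by
    intro g y
    have h1 : g • y ∈ M ↔ y ∈ M := by
      rw [ConjAct.smul_def]
      constructor
      · intro h
        have := hMn.conj_mem _ h (ConjAct.ofConjAct g)⁻¹
        simpa [mul_assoc] using this
      · intro h
        exact hMn.conj_mem _ h _
    have h2 : g • y ≠ 1 ↔ y ≠ 1 := by
      rw [ConjAct.smul_def]
      constructor
      · intro h hy
        apply h
        rw [hy]; simp
      · intro h hy
        apply h
        have : y = (ConjAct.ofConjAct g)⁻¹ * 1 * (ConjAct.ofConjAct g) := by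
          rw [← hy]; group
        simpa using this
    simp only [w, h1, h2]
  have hdvd : ∀ y : N, H.index ∣ (MulAction.stabilizer (ConjAct N) y).index * w y := by
    intro y
    by_cases hy : y ∈ M ∧ y ≠ 1
    · simp only [w, if_pos hy, mul_one]
      have h1 := Cfsg.Agent.Helper66.index_stabilizer_conjAct_mul_card y
      have h2 : Nat.card (Subgroup.centralizer ({y} : Set N)) ∣ Nat.card H :=
        Subgroup.card_dvd_of_le (hC y (hMH hy.1) hy.2)
      obtain ⟨k, hk⟩ := h2
      have h3 := H.index_mul_card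
      have hpos : 0 < Nat.card (Subgroup.centralizer ({y} : Set N)) := Nat.card_pos
      refine ⟨k, ?_⟩
      apply Nat.eq_of_mul_eq_mul_right hpos
      rw [h1, ← h3, hk]
      ring
    · simp only [w, if_neg hy, mul_zero, dvd_zero]
  have hsum := Cfsg.Agent.Helper66.dvd_sum_of_dvd_index_mul (G := ConjAct N) w hw H.index hdvd
  have hcount : ∑ y : N, w y = Nat.card M - 1 := by
    simp only [w]
    rw [Finset.sum_boole]
    simp only [Nat.cast_id]
    have h1 : Finset.univ.filter (fun y : N => y ∈ M ∧ y ≠ 1) =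
        (Finset.univ.filter (fun y : N => y ∈ M)).erase 1 := by
      ext y
      simp only [Finset.mem_filter, Finset.mem_univ, true_and, Finset.mem_erase]
      tauto
    rw [h1, Finset.card_erase_of_mem (by simp [M.one_mem])]
    congr 1
    rw [Nat.card_eq_fintype_card, Fintype.card_subtype]
  rw [hcount] at hsum
  exact hsum

open Classical in
/-- The characters of `N` induced from the non-principal irreducible characters of `H`. -/
noncomputable def frobS : Finset (N → ℂ) :=
  ((Finset.univ : Finset (IrrCharacter H)).filter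
    (fun θ : IrrCharacter H => (θ : H → ℂ) ≠ fun _ => 1)).image
    (fun θ : IrrCharacter H => indFun H (θ : H → ℂ))

theorem mem_frobS (ξ : N → ℂ) : ξ ∈ frobS H ↔
    ∃ θ : IrrCharacter H, (θ : H → ℂ) ≠ (fun _ => 1) ∧ ξ = indFun H (θ : H → ℂ) := by
  classical
  unfold frobS
  rw [Finset.mem_image]
  constructor
  · rintro ⟨θ, hθ, rfl⟩
    exact ⟨θ, (Finset.mem_filter.1 hθ).2, rfl⟩
  · rintro ⟨θ, hθ, rfl⟩
    exact ⟨θ, Finset.mem_filter.2 ⟨Finset.mem_univ _, hθ⟩, rfl⟩

include hC in
theorem frobS_irr {ξ : N → ℂ} (hξ : ξ ∈ frobS H) : IsIrrCharacter N ξ := by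
  obtain ⟨θ, hθ, rfl⟩ := (mem_frobS H ξ).1 hξ
  exact indFun_irr_of_centralizer H hC θ θ.2 hθ

theorem indFun_one_eq (θ : IrrCharacter H) :
    indFun H (θ : H → ℂ) 1 = ((H.index * charDegree (θ : H → ℂ) : ℕ) : ℂ) := by
  rw [Cfsg.Agent.Helper81.indFun_one, (Cfsg.Agent.Helper79.irr_one_eq θ).1]
  push_cast
  rfl

theorem charDegree_indFun (θ : IrrCharacter H) :
    charDegree (indFun H (θ : H → ℂ)) = H.index * charDegree (θ : H → ℂ) :=
  charDegree_eq_of_one_eq (indFun_one_eq H θ)

theorem frobS_one {ξ : N → ℂ} (hξ : ξ ∈ frobS H) : ξ 1 = (charDegree ξ : ℂ) := by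
  obtain ⟨θ, hθ, rfl⟩ := (mem_frobS H ξ).1 hξ
  rw [charDegree_indFun, indFun_one_eq]

theorem frobS_dvd {ξ : N → ℂ} (hξ : ξ ∈ frobS H) : H.index ∣ charDegree ξ := by
  obtain ⟨θ, hθ, rfl⟩ := (mem_frobS H ξ).1 hξ
  rw [charDegree_indFun]
  exact dvd_mul_right _ _

include hC in
/-- Members of `frobS` are nontrivial on `H` (when `H` is proper). -/
theorem frobS_relevant (hHtop : H ≠ ⊤) {ξ : N → ℂ} (hξ : ξ ∈ frobS H) :
    ∃ k ∈ H, ξ k ≠ ξ 1 := by
  classical
  by_contra hno
  push Not at hno
  have hirr := frobS_irr H hC hξ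
  obtain ⟨θ, hθ, rfl⟩ := (mem_frobS H ξ).1 hξ
  have hmem : (⟨_, hirr⟩ : IrrCharacter N) ∈ Finset.univ.filter
      (fun χ : IrrCharacter N => H ≤ Cfsg.Agent.Helper79.irrKer χ) :=
    Finset.mem_filter.mpr ⟨Finset.mem_univ _, fun z hz =>
      (Cfsg.Agent.Helper79.mem_irrKer _ z).2 (hno z hz)⟩
  have h1 := Finset.single_le_sum
    (f := fun χ : IrrCharacter N => (charDegree (χ : N → ℂ)) ^ 2)
    (fun _ _ => Nat.zero_le _) hmem
  rw [Cfsg.Agent.Helper79.sum_sq_degree_of_le_ker H] at h1
  simp only at h1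
  rw [charDegree_indFun] at h1
  have hd := (Cfsg.Agent.Helper79.irr_one_eq θ).2
  have hidx : 0 < H.index := Nat.pos_of_ne_zero Subgroup.index_ne_zero_of_finite
  have hone : H.index = 1 := by
    have h6 : H.index * H.index ≤ H.index := by
      calc H.index * H.index = (H.index * 1) ^ 2 := by ring
        _ ≤ (H.index * charDegree (θ : H → ℂ)) ^ 2 :=
            Nat.pow_le_pow_left (Nat.mul_le_mul_left _ hd) 2
        _ ≤ H.index := h1
    nlinarith
  exact hHtop (Subgroup.index_eq_one.mp hone)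

include hC in
/-- `frobS` is the set of irreducible characters of `N` that are nontrivial on `H`. -/
theorem coe_frobS (hHtop : H ≠ ⊤) :
    (↑(frobS H) : Set (N → ℂ)) = {χ : N → ℂ | IsIrrCharacter N χ ∧ ∃ k ∈ H, χ k ≠ χ 1} := by
  ext ξ
  rw [Finset.mem_coe]
  constructor
  · intro hξ
    exact ⟨frobS_irr H hC hξ, frobS_relevant H hC hHtop hξ⟩
  · rintro ⟨hirr, hrel⟩
    obtain ⟨θ, hθ, hθ1, rfl⟩ := exists_indFun_eq_of_relevant H hC hirr hrel
    exact (mem_frobS H _).mpr ⟨⟨θ, hθ⟩, hθ1, rfl⟩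

include hC in
/-- The degrees of the non-principal characters of `H` inducing a given `ξ` add up to at most
the degree of `ξ`. -/
theorem sum_degree_fiber_le {ξ : N → ℂ} (hξ : IsIrrCharacter N ξ)
    (F : Finset (IrrCharacter H))
    (hF : ∀ θ ∈ F, (θ : H → ℂ) ≠ (fun _ => 1) ∧ indFun H (θ : H → ℂ) = ξ) :
    ∑ θ ∈ F, charDegree (θ : H → ℂ) ≤ charDegree ξ := by
  classical
  have hres : IsCharacter H (fun k : H => ξ k) :=
    isCharacter_restrict H (IsIrrCharacter.isCharacter hξ)
  obtain ⟨m, hm⟩ := exists_nat_decomp hres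
  have hmF : ∀ θ ∈ F, m θ = 1 := by
    intro θ hθ
    obtain ⟨hθ1, hθξ⟩ := hF θ hθ
    have h1 : classInner (Cfsg.indFun H (θ : H → ℂ)) ξ = (m θ : ℂ) := by
      rw [frobenius_reciprocity H _ (isClassFunction_of_isCharacter (IsIrrCharacter.isCharacter hξ)),
        classInner_conj_symm (fun k : H => ξ k) _, hm,
        classInner_nat_decomp (fun χ' => (m χ' : ℂ)) θ, Complex.conj_natCast]
    rw [hθξ, irr_orthonormal hξ hξ, if_pos rfl] at h1
    exact_mod_cast h1.symm
  have hval : (charDegree ξ : ℂ) = ((∑ θ : IrrCharacter H, m θ * charDegree (θ : H → ℂ) : ℕ) : ℂ) := by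
    have h1 := congrFun hm 1
    simp only [Subgroup.coe_one] at h1
    rw [← (Cfsg.Agent.Helper79.irr_one_eq ⟨ξ, hξ⟩).1]
    show ξ 1 = _
    rw [h1, Finset.sum_apply]
    push_cast
    apply Finset.sum_congr rfl
    intro θ _
    rw [Pi.smul_apply, smul_eq_mul, (Cfsg.Agent.Helper79.irr_one_eq θ).1]
  have hval' : charDegree ξ = ∑ θ : IrrCharacter H, m θ * charDegree (θ : H → ℂ) := by
    exact_mod_cast hval
  rw [hval']
  calc ∑ θ ∈ F, charDegree (θ : H → ℂ) = ∑ θ ∈ F, m θ * charDegree (θ : H → ℂ) := by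
        apply Finset.sum_congr rfl
        intro θ hθ
        rw [hmF θ hθ, one_mul]
    _ ≤ ∑ θ : IrrCharacter H, m θ * charDegree (θ : H → ℂ) :=
        Finset.sum_le_sum_of_subset (Finset.subset_univ _)

include hC in
/-- The key estimate: the characters in `frobS` of degree `< e f` contribute at least
`e (T_H(f) - 1)` to the sum of squares of degrees. -/
theorem index_mul_Tdeg_le (f : ℕ) (hf : 2 ≤ f) :
    H.index * (Tdeg H f - 1) ≤
      ∑ ξ ∈ (frobS H).filter (fun ξ => charDegree ξ < H.index * f), charDegree ξ ^ 2 := by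
  classical
  have hidx : 0 < H.index := Nat.pos_of_ne_zero Subgroup.index_ne_zero_of_finite
  set triv : IrrCharacter H := ⟨fun _ => 1, isIrrCharacter_one⟩ with htriv
  have htrivdeg : charDegree (triv : H → ℂ) = 1 := by
    apply charDegree_eq_of_one_eq
    simp [htriv]
  set Y := (Finset.univ : Finset (IrrCharacter H)).filter
    (fun θ : IrrCharacter H => (θ : H → ℂ) ≠ (fun _ => 1) ∧ charDegree (θ : H → ℂ) < f) with hY
  -- (i)
  have hT : Tdeg H f = 1 + ∑ θ ∈ Y, charDegree (θ : H → ℂ) ^ 2 := by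
    unfold Tdeg
    have hins : (Finset.univ : Finset (IrrCharacter H)).filter
        (fun ψ : IrrCharacter H => charDegree (ψ : H → ℂ) < f) = insert triv Y := by
      ext θ
      simp only [Finset.mem_filter, Finset.mem_univ, true_and, Finset.mem_insert, hY]
      constructor
      · intro h
        by_cases h1 : (θ : H → ℂ) = fun _ => 1
        · left; exact Subtype.ext h1
        · right; exact ⟨h1, h⟩
      · rintro (rfl | ⟨_, h⟩)
        · rw [htrivdeg]; omega
        · exact h
    have hnot : triv ∉ Y := by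
      rw [hY, Finset.mem_filter]
      rintro ⟨_, h, _⟩
      exact h rfl
    rw [hins, Finset.sum_insert hnot, htrivdeg]
    norm_num
  rw [hT, Nat.add_sub_cancel_left]
  -- (ii)
  set ind : IrrCharacter H → (N → ℂ) := fun θ => indFun H (θ : H → ℂ) with hind
  have hfib := Finset.sum_fiberwise_of_maps_to (s := Y) (t := Y.image ind) (g := ind)
    (fun θ hθ => Finset.mem_image_of_mem ind hθ) (fun θ => charDegree (θ : H → ℂ) ^ 2)
  rw [← hfib, Finset.mul_sum]
  have hsub : Y.image ind ⊆ (frobS H).filter (fun ξ => charDegree ξ < H.index * f) := by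
    intro ξ hξ
    obtain ⟨θ, hθ, rfl⟩ := Finset.mem_image.1 hξ
    rw [hY, Finset.mem_filter] at hθ
    rw [Finset.mem_filter]
    refine ⟨(mem_frobS H _).2 ⟨θ, hθ.2.1, rfl⟩, ?_⟩
    show charDegree (indFun H (θ : H → ℂ)) < _
    rw [charDegree_indFun]
    exact Nat.mul_lt_mul_of_pos_left hθ.2.2 hidx
  refine le_trans ?_ (Finset.sum_le_sum_of_subset hsub)
  apply Finset.sum_le_sum
  intro ξ hξ
  have hξS := (Finset.mem_filter.1 (hsub hξ)).1
  have hξirr := frobS_irr H hC hξS
  have hdeg : ∀ θ ∈ Y.filter (fun θ => ind θ = ξ),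
      H.index * charDegree (θ : H → ℂ) = charDegree ξ := by
    intro θ hθ
    rw [← (Finset.mem_filter.1 hθ).2]
    exact (charDegree_indFun H θ).symm
  have hle := sum_degree_fiber_le H hC hξirr (Y.filter (fun θ => ind θ = ξ)) (by
    intro θ hθ
    obtain ⟨hθY, hθξ⟩ := Finset.mem_filter.1 hθ
    rw [hY, Finset.mem_filter] at hθY
    exact ⟨hθY.2.1, hθξ⟩)
  calc H.index * ∑ θ ∈ Y.filter (fun θ => ind θ = ξ), charDegree (θ : H → ℂ) ^ 2
      = ∑ θ ∈ Y.filter (fun θ => ind θ = ξ), charDegree ξ * charDegree (θ : H → ℂ) := by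
        rw [Finset.mul_sum]
        apply Finset.sum_congr rfl
        intro θ hθ
        rw [← hdeg θ hθ]
        ring
    _ = charDegree ξ * ∑ θ ∈ Y.filter (fun θ => ind θ = ξ), charDegree (θ : H → ℂ) := by
        rw [Finset.mul_sum]
    _ ≤ charDegree ξ * charDegree ξ := Nat.mul_le_mul_left _ hle
    _ = charDegree ξ ^ 2 := by ring

theorem frobS_degree_pos {ξ : N → ℂ} (hξ : ξ ∈ frobS H) : 0 < charDegree ξ := by
  obtain ⟨θ, hθ, rfl⟩ := (mem_frobS H ξ).1 hξ
  rw [charDegree_indFun]
  exact Nat.mul_pos (Nat.pos_of_ne_zero Subgroup.index_ne_zero_of_finite)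
    (Cfsg.Agent.Helper79.irr_one_eq θ).2

include hC in
/-- Coherence of the set of characters induced from a Frobenius kernel, under the degree
inequalities. -/
theorem frob_coherent_of_degree_bound {G : Type v} [Group G] [Fintype G]
    (hL : H.index + 2 ≤ (commutator H).index)
    (hdeg : ∀ φ : IrrCharacter H, 2 ≤ charDegree (φ : H → ℂ) →
      2 * H.index * charDegree (φ : H → ℂ) + 2 ≤ Tdeg H (charDegree (φ : H → ℂ)))
    (τ : (N → ℂ) → (G → ℂ))
    (hτ : Cfsg.IsLinearIsometryOn (Cfsg.zspanOn (↑(frobS H) : Set (N → ℂ)) {1}ᶜ) τ)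
    (hτ1 : ∀ α ∈ Cfsg.zspanOn (↑(frobS H) : Set (N → ℂ)) {1}ᶜ, τ α 1 = 0) :
    Cfsg.IsCoherent (↑(frobS H) : Set (N → ℂ)) {1}ᶜ τ := by
  classical
  have hidx : 0 < H.index := Nat.pos_of_ne_zero Subgroup.index_ne_zero_of_finite
  refine coherent_chain (frobS H) (fun ξ hξ => frobS_irr H hC hξ) charDegree
    (fun ξ hξ => frobS_one H hξ) H.index (fun ξ hξ => frobS_dvd H hξ) ?_ ?_ τ hτ hτ1
  · -- at least two characters of degree `e`
    have h1 := index_mul_Tdeg_le H hC 2 (le_refl 2)
    have hfilt : (frobS H).filter (fun ξ => charDegree ξ < H.index * 2) =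
        (frobS H).filter (fun ξ => charDegree ξ = H.index) := by
      apply Finset.filter_congr
      intro ξ hξ
      obtain ⟨k, hk⟩ := frobS_dvd H hξ
      have hpos := frobS_degree_pos H hξ
      rw [hk] at hpos ⊢
      have hk0 : 0 < k := Nat.pos_of_mul_pos_left hpos
      constructor
      · intro h
        have : k < 2 := Nat.lt_of_mul_lt_mul_left h
        have : k = 1 := by omega
        rw [this, mul_one]
      · intro h
        have : k = 1 := by
          have h' : H.index * k = H.index * 1 := by rw [h, mul_one]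
          exact Nat.eq_of_mul_eq_mul_left hidx h'
        rw [this]; omega
    rw [hfilt] at h1
    have h2 : ∑ ξ ∈ (frobS H).filter (fun ξ => charDegree ξ = H.index), charDegree ξ ^ 2 =
        ((frobS H).filter (fun ξ => charDegree ξ = H.index)).card * H.index ^ 2 := by
      rw [Finset.sum_congr rfl (fun ξ hξ => by rw [(Finset.mem_filter.1 hξ).2] :
        ∀ ξ ∈ (frobS H).filter (fun ξ => charDegree ξ = H.index),
          charDegree ξ ^ 2 = H.index ^ 2)]
      rw [Finset.sum_const, smul_eq_mul]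
    rw [h2] at h1
    have h3 : H.index + 2 ≤ Tdeg H 2 := hL.trans (index_commutator_le_Tdeg (le_refl 2))
    by_contra hlt
    push Not at hlt
    have h4 : ((frobS H).filter (fun ξ => charDegree ξ = H.index)).card ≤ 1 := by omega
    have h5 : H.index * (H.index + 1) ≤ H.index * (Tdeg H 2 - 1) :=
      Nat.mul_le_mul_left _ (by omega)
    have h6 : ((frobS H).filter (fun ξ => charDegree ξ = H.index)).card * H.index ^ 2 ≤
        1 * H.index ^ 2 := Nat.mul_le_mul_right _ h4
    nlinarith
  · intro χ hχ hne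
    obtain ⟨φ, hφ, rfl⟩ := (mem_frobS H χ).1 hχ
    rw [charDegree_indFun] at hne ⊢
    have hf1 := (Cfsg.Agent.Helper79.irr_one_eq φ).2
    have hf2 : 2 ≤ charDegree (φ : H → ℂ) := by
      by_contra h
      have : charDegree (φ : H → ℂ) = 1 := by omega
      rw [this, mul_one] at hne
      exact hne rfl
    have h1 := index_mul_Tdeg_le H hC _ hf2
    have h2 := hdeg φ hf2
    refine lt_of_lt_of_le ?_ h1
    have h3 : H.index * (2 * H.index * charDegree (φ : H → ℂ) + 1) ≤
        H.index * (Tdeg H (charDegree (φ : H → ℂ)) - 1) :=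
      Nat.mul_le_mul_left _ (by omega)
    refine lt_of_lt_of_le ?_ h3
    nlinarith

end frob

end Cfsg.Agent.H3Feit
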