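import Mathlib
import Cfsg.Agent.Lib.Helper79.NilpAux
import Cfsg.Agent.Lib.Helper3.FeitCohC

/-!
# Feit's coherence theorem for Frobenius-type groups: the degree estimates for the kernel
-/

set_option autoImplicit false
set_option linter.style.haveILetI false
set_option linter.unusedSectionVars false
set_option linter.unusedVariables false

namespace Cfsg.Agent.H3Feit

open Cfsg Cfsg.Agent.Helper81 Cfsg.Agent.Helper82

universe u v

/-- Two normal subgroups of coprime orders whose orders multiply to the group order give a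
direct product decomposition. -/
theorem nonempty_prod_equiv {K : Type u} [Group K] [Finite K] (P Q : Subgroup K)
    [hP : P.Normal] [hQ : Q.Normal] (hcop : (Nat.card P).Coprime (Nat.card Q))
    (hcard : Nat.card P * Nat.card Q = Nat.card K) : Nonempty (P × Q ≃* K) := by
  have hdis : Disjoint P Q := Subgroup.disjoint_of_coprime_natCard hcop
  have hcomm : ∀ (a : P) (b : Q), Commute (P.subtype a) (Q.subtype b) := fun a b =>
    Subgroup.commute_of_normal_of_disjoint P Q hP hQ hdis a b a.2 b.2
  let φ : P × Q →* K := MonoidHom.noncommCoprod P.subtype Q.subtype hcomm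
  have hinj : Function.Injective φ := by
    rw [MonoidHom.noncommCoprod_injective]
    refine ⟨P.subtype_injective, Q.subtype_injective, ?_⟩
    rw [Subgroup.range_subtype, Subgroup.range_subtype]
    exact hdis
  have hbij : Function.Bijective φ := by
    apply hinj.bijective_of_nat_card_le
    rw [Nat.card_prod, hcard]
  exact ⟨MulEquiv.ofBijective φ hbij⟩

section frob

variable {N : Type u} [Group N] [Fintype N] (H : Subgroup N) [hHn : H.Normal]
  (hC : ∀ h ∈ H, h ≠ 1 → Subgroup.centralizer ({h} : Set N) ≤ H)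

include hC in
/-- The index of the commutator subgroup of a normal subgroup of `N` inside the kernel is `≡ 1`
modulo the index of the kernel. -/
theorem index_commutator_modEq (M : Subgroup N) [hMn : M.Normal] (hMH : M ≤ H) :
    (commutator M).index ≡ 1 [MOD H.index] := by
  have hM'le : ⁅M, M⁆ ≤ M := Subgroup.commutator_le_left M M
  have h1 := index_dvd_card_sub_one H hC M hMH
  have h2 := index_dvd_card_sub_one H hC ⁅M, M⁆ (hM'le.trans hMH)
  have hc : Nat.card (commutator M) = Nat.card (⁅M, M⁆ : Subgroup N) := by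
    rw [← Subgroup.map_subtype_commutator, Subgroup.card_map_of_injective M.subtype_injective]
  have h3 := (commutator M).index_mul_card
  rw [hc] at h3
  have hm1 : 1 ≡ Nat.card M [MOD H.index] := (Nat.modEq_iff_dvd' Nat.card_pos).2 h1
  have hm2 : 1 ≡ Nat.card (⁅M, M⁆ : Subgroup N) [MOD H.index] :=
    (Nat.modEq_iff_dvd' Nat.card_pos).2 h2
  calc (commutator M).index = (commutator M).index * 1 := (mul_one _).symm
    _ ≡ (commutator M).index * Nat.card (⁅M, M⁆ : Subgroup N) [MOD H.index] :=
        Nat.ModEq.mul_left _ hm2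
    _ = Nat.card M := h3
    _ ≡ 1 [MOD H.index] := hm1.symm

theorem index_add_one_le_of_modEq {L e : ℕ} (h : L ≡ 1 [MOD e]) (hL : 2 ≤ L) : e + 1 ≤ L := by
  have h1 : e ∣ L - 1 := (Nat.modEq_iff_dvd' (by omega)).1 h.symm
  have h2 := Nat.le_of_dvd (by omega) h1
  omega

theorem two_le_index_commutator {K : Type u} [Group K] [Finite K] [Nontrivial K]
    [Group.IsSolvable K] : 2 ≤ (commutator K).index := by
  have h1 : commutator K < ⊤ := Group.IsSolvable.commutator_lt_top_of_nontrivial K
  have h2 : (commutator K).index ≠ 1 := fun h => h1.ne (Subgroup.index_eq_one.1 h)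
  have h3 : (commutator K).index ≠ 0 := Subgroup.index_ne_zero_of_finite
  omega

include hC in
/-- The decomposition of a nilpotent kernel, not of prime power order, at a prime `p`. -/
theorem exists_decomp [hnil : Group.IsNilpotent H] (p : ℕ) [hp : Fact p.Prime]
    (hpH : p ∣ Nat.card H) (hnpp : ¬ ∃ m : ℕ, Nat.card H = p ^ m) :
    ∃ (P Q : Subgroup H), Nonempty (P × Q ≃* H) ∧ IsPGroup p P ∧ (Nat.card Q).Coprime p ∧
      H.index + 1 ≤ (commutator P).index ∧ H.index + 1 ≤ (commutator Q).index := by
  classical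
  obtain ⟨Q, hQn, hQcop, k, hQidx⟩ :=
    Cfsg.Agent.Helper79.exists_normal_pcomplement_of_nilpotent (G := H) p
  let P : Sylow p H := default
  haveI hPn : (P : Subgroup H).Normal :=
    Sylow.normal_of_normalizerCondition Group.normalizerCondition_of_isNilpotent P
  haveI := hQn
  have hcardH : p ^ k * Nat.card Q = Nat.card H := by rw [← hQidx]; exact Q.index_mul_card
  have hPk : Nat.card (P : Subgroup H) = p ^ k := by
    apply Nat.dvd_antisymm
    · obtain ⟨j, hj⟩ := P.isPGroup'.exists_card_eq
      have h1 : Nat.card (P : Subgroup H) ∣ Nat.card H := Subgroup.card_subgroup_dvd_card _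
      rw [← hcardH, hj] at h1
      rw [hj]
      exact (Nat.Coprime.pow_left j hQcop.symm).dvd_of_dvd_mul_right h1
    · exact P.pow_dvd_card_of_pow_dvd_card (Dvd.intro _ hcardH)
  have hk0 : k ≠ 0 := by
    intro h
    rw [h, pow_zero, one_mul] at hcardH
    rw [← hcardH] at hpH
    have : p ∣ Nat.gcd (Nat.card Q) p := Nat.dvd_gcd hpH dvd_rfl
    rw [hQcop] at this
    exact hp.out.one_lt.ne' (Nat.dvd_one.1 this)
  have hcop : (Nat.card (P : Subgroup H)).Coprime (Nat.card Q) := by
    rw [hPk]; exact Nat.Coprime.pow_left k hQcop.symm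
  have hcard : Nat.card (P : Subgroup H) * Nat.card Q = Nat.card H := by rw [hPk, hcardH]
  obtain ⟨Φ⟩ := nonempty_prod_equiv (P : Subgroup H) Q hcop hcard
  -- the Sylow subgroup, as a normal subgroup of `N`
  haveI hPchar : (P : Subgroup H).Characteristic := Sylow.characteristic_of_normal P hPn
  let M₁ : Subgroup N := (P : Subgroup H).map H.subtype
  haveI hM₁n : M₁.Normal := ConjAct.normal_of_characteristic_of_normal
  have hM₁H : M₁ ≤ H := Subgroup.map_subtype_le _
  have hmodM₁ := index_commutator_modEq H hC M₁ hM₁H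
  let ι : (P : Subgroup H) ≃* M₁ :=
    (P : Subgroup H).equivMapOfInjective H.subtype H.subtype_injective
  have hLPeq : (commutator M₁).index = (commutator (P : Subgroup H)).index :=
    index_commutator_congr ι
  rw [hLPeq] at hmodM₁
  -- `P` is nontrivial and solvable
  haveI : Nontrivial (P : Subgroup H) := by
    rw [← Finite.one_lt_card_iff_nontrivial, hPk]
    exact Nat.one_lt_pow hk0 hp.out.one_lt
  have hLP2 : 2 ≤ (commutator (P : Subgroup H)).index := two_le_index_commutator
  have hLP : H.index + 1 ≤ (commutator (P : Subgroup H)).index :=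
    index_add_one_le_of_modEq hmodM₁ hLP2
  -- `Q` is nontrivial and solvable
  haveI : Nontrivial Q := by
    rw [← Finite.one_lt_card_iff_nontrivial]
    by_contra h
    have h1 : Nat.card Q = 1 := by
      have : 0 < Nat.card Q := Nat.card_pos
      omega
    rw [h1, mul_one] at hcardH
    exact hnpp ⟨k, hcardH.symm⟩
  have hLQ2 : 2 ≤ (commutator Q).index := two_le_index_commutator
  have hmodH : (commutator H).index ≡ 1 [MOD H.index] := index_commutator_modEq H hC H le_rfl
  have hprod : (commutator H).index =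
      (commutator (P : Subgroup H)).index * (commutator Q).index := by
    rw [index_commutator_congr Φ, index_commutator_prod]
  have hmodQ : (commutator Q).index ≡ 1 [MOD H.index] := by
    calc (commutator Q).index = 1 * (commutator Q).index := (one_mul _).symm
      _ ≡ (commutator (P : Subgroup H)).index * (commutator Q).index [MOD H.index] :=
          Nat.ModEq.mul_right _ hmodM₁.symm
      _ = (commutator H).index := hprod.symm
      _ ≡ 1 [MOD H.index] := hmodH
  have hLQ : H.index + 1 ≤ (commutator Q).index := index_add_one_le_of_modEq hmodQ hLQ2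
  exact ⟨(P : Subgroup H), Q, ⟨Φ⟩, P.isPGroup', hQcop, hLP, hLQ⟩

include hC in
/-- The degree inequalities for a nilpotent kernel not of prime power order. -/
theorem degree_bound_of_not_prime_pow [hnil : Group.IsNilpotent H] (hH1 : H ≠ ⊥)
    (hnpp : ¬ ∃ p : ℕ, p.Prime ∧ ∃ m : ℕ, Nat.card H = p ^ m) :
    H.index + 2 ≤ (commutator H).index ∧
    ∀ φ : IrrCharacter H, 2 ≤ charDegree (φ : H → ℂ) →
      2 * H.index * charDegree (φ : H → ℂ) + 2 ≤ Tdeg H (charDegree (φ : H → ℂ)) := by
  classical
  have hidx : 0 < H.index := Nat.pos_of_ne_zero Subgroup.index_ne_zero_of_finite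
  constructor
  · have hcard : Nat.card H ≠ 1 := by
      intro h
      exact hH1 (Subgroup.card_eq_one.1 h)
    obtain ⟨p, hp, hpH⟩ := Nat.exists_prime_and_dvd hcard
    haveI := Fact.mk hp
    obtain ⟨P, Q, ⟨Φ⟩, _, _, hLP, hLQ⟩ := exists_decomp H hC p hpH
      (fun ⟨m, hm⟩ => hnpp ⟨p, hp, m, hm⟩)
    rw [index_commutator_congr Φ, index_commutator_prod]
    nlinarith
  · intro φ hφ
    obtain ⟨p, hp, hpf⟩ := Nat.exists_prime_and_dvd (by omega : charDegree (φ : H → ℂ) ≠ 1)
    haveI := Fact.mk hp
    have hpH : p ∣ Nat.card H := hpf.trans (degree_dvd_card φ)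
    obtain ⟨P, Q, ⟨Φ⟩, hP, hQ, hLP, hLQ⟩ := exists_decomp H hC p hpH
      (fun ⟨m, hm⟩ => hnpp ⟨p, hp, m, hm⟩)
    haveI : Fintype P := Fintype.ofFinite _
    haveI : Fintype Q := Fintype.ofFinite _
    have h1 := two_mul_le_Tdeg_prod p hP hQ H.index hLP hLQ (irrCongr Φ φ)
      (by rw [charDegree_irrCongr]; exact hpf)
    rw [charDegree_irrCongr, ← Tdeg_congr Φ] at h1
    exact h1

/-- The degree inequalities for a kernel of prime power order with large commutator quotient. -/
theorem degree_bound_of_prime_pow (p : ℕ) [hp : Fact p.Prime] (hH : IsPGroup p H)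
    (hL : 4 * H.index ^ 2 + 2 ≤ (commutator H).index) :
    ∀ φ : IrrCharacter H, 2 ≤ charDegree (φ : H → ℂ) →
      2 * H.index * charDegree (φ : H → ℂ) + 2 ≤ Tdeg H (charDegree (φ : H → ℂ)) := by
  intro φ hφ
  have h1 := sq_le_Tdeg_of_isPGroup p hH φ hφ
  have h2 := hL.trans (index_commutator_le_Tdeg (K := H) hφ)
  by_cases hf : 2 * H.index + 1 ≤ charDegree (φ : H → ℂ)
  · refine le_trans ?_ h1
    nlinarith
  · push Not at hf
    refine le_trans ?_ h2
    nlinarith

end frob

end Cfsg.Agent.H3Feit
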