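import Mathlib
import Cfsg.Agent.Lib.Helper82.SibSylow
import Cfsg.Agent.Lib.Helper29.FrobCoprime
import Cfsg.Agent.Lib.Helper3.FeitCohD

/-!
# Auxiliary results for the Feit–Sibley coherence theorem for T.I. nilpotent subgroups (S1534)
-/

set_option autoImplicit false
set_option linter.style.haveILetI false
set_option linter.unusedSectionVars false
set_option linter.unusedVariables false

namespace Cfsg.Agent.H3Feit

open Cfsg Cfsg.Agent.Helper81 Cfsg.Agent.Helper82

universe u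

section abstractpart

variable {G : Type u} [Group G] [Fintype G] (L : Subgroup G) [Fintype L]
  (K : Subgroup L) [hKn : K.Normal] [Fintype K]
  (hC : ∀ k ∈ K, k ≠ 1 → Subgroup.centralizer ({k} : Set L) ≤ K)
  (hind : ∀ ϑ : L → ℂ, IsClassFunction L ϑ → (∀ x : L, x ∉ K → ϑ x = 0) → ϑ 1 = 0 →
    ∀ x : L, Cfsg.indFun L ϑ x = ϑ x)

include hC hind in
/-- Induction to `G` is a linear isometry on the integer combinations of `sibS` vanishing at `1`,
with values vanishing at `1`. -/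
theorem ind_isometry :
    Cfsg.IsLinearIsometryOn (Cfsg.zspanOn (↑(sibS L K) : Set (L → ℂ)) {1}ᶜ)
      (fun α : L → ℂ => indFun L α) ∧
    ∀ α ∈ Cfsg.zspanOn (↑(sibS L K) : Set (L → ℂ)) {1}ᶜ, indFun L α 1 = 0 := by
  refine ⟨⟨fun α _ β _ => Cfsg.Agent.Helper81.indFun_add L α β, ?_, ?_, ?_⟩, ?_⟩
  · intro α _ n
    show indFun L (n • α) = n • indFun L α
    rw [← Int.cast_smul_eq_zsmul ℂ n α, Cfsg.Agent.Helper81.indFun_smul,
      Int.cast_smul_eq_zsmul]
  · intro α hα β hβ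
    obtain ⟨hβs, hβ1⟩ := mem_zspanOn_compl_one.mp hβ
    obtain ⟨h1, h2, _⟩ := sibS_span_props L K hC hβs
    exact tifn_ind_inner L K hind α h1 h2 hβ1
  · intro α hα
    obtain ⟨_, _, ⟨χ₁, χ₂, h1, h2, rfl⟩⟩ := sibS_span_props L K hC (mem_zspanOn_compl_one.mp hα).1
    show IsGeneralizedCharacter G (indFun L (χ₁ - χ₂))
    rw [Cfsg.Agent.Helper3.indFun_sub]
    exact ⟨_, _, isCharacter_indFun L h1, isCharacter_indFun L h2, rfl⟩
  · intro α hα
    rw [Cfsg.Agent.Helper81.indFun_one, (mem_zspanOn_compl_one.mp hα).2, mul_zero]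

include hC in
/-- If `|K| = [L:K] + 1` and `K` is abelian, then `K` has exponent `p` for every prime divisor
`p` of its order. -/
theorem exponent_of_card (p : ℕ) [Fact p.Prime] (hab : ∀ a b : K, a * b = b * a)
    (hdvd : p ∣ Nat.card K) (hcardK : Nat.card K = K.index + 1) :
    ∀ k ∈ K, k ^ p = 1 := by
  classical
  have hcomm : ∀ x ∈ K, ∀ y ∈ K, x * y = y * x := fun x hx y hy =>
    congrArg Subtype.val (hab ⟨x, hx⟩ ⟨y, hy⟩)
  let Ω : Subgroup L :=
    { carrier := {x | x ∈ K ∧ x ^ p = 1}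
      mul_mem' := by
        rintro x y ⟨hx, hxp⟩ ⟨hy, hyp⟩
        refine ⟨K.mul_mem hx hy, ?_⟩
        have hc : Commute x y := hcomm x hx y hy
        rw [hc.mul_pow, hxp, hyp, one_mul]
      one_mem' := ⟨K.one_mem, one_pow _⟩
      inv_mem' := by
        rintro x ⟨hx, hxp⟩
        exact ⟨K.inv_mem hx, by rw [inv_pow, hxp, inv_one]⟩ }
  have hΩK : Ω ≤ K := fun x hx => hx.1
  haveI : Ω.Normal := ⟨by
    rintro x ⟨hx, hxp⟩ g
    refine ⟨hKn.conj_mem x hx g, ?_⟩
    rw [conj_pow, hxp, mul_one, mul_inv_cancel]⟩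
  have hΩne : Ω ≠ ⊥ := by
    obtain ⟨x, hx⟩ := exists_prime_orderOf_dvd_card' p hdvd
    intro hbot
    have hxΩ : (x : L) ∈ Ω := ⟨x.2, by
      have := pow_orderOf_eq_one x
      rw [hx] at this
      exact_mod_cast congrArg Subtype.val this⟩
    rw [hbot, Subgroup.mem_bot] at hxΩ
    have hx1 : x = 1 := Subtype.ext hxΩ
    rw [hx1, orderOf_one] at hx
    exact (Fact.out : p.Prime).one_lt.ne hx
  have h1 := Cfsg.Agent.Helper83.FrobAbs.frob_index_lt_card K hC Ω hΩK hΩne
  have h2 : Nat.card Ω ≤ Nat.card K := Subgroup.card_le_of_le hΩK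
  have h3 : Ω = K := Subgroup.eq_of_le_of_card_ge hΩK (by omega)
  intro k hk
  have : k ∈ Ω := by rw [h3]; exact hk
  exact this.2

include hC in
/-- If `|K| = [L:K] + 1` and `K` is nilpotent, then `K` is abelian. -/
theorem abelian_of_card (hnil : Group.IsNilpotent K) (hK : K ≠ ⊥)
    (hcardK : Nat.card K = K.index + 1) : ∀ a b : K, a * b = b * a := by
  classical
  haveI := hnil
  haveI : Nontrivial K := (Subgroup.nontrivial_iff_ne_bot K).mpr hK
  let Z : Subgroup L := (Subgroup.center K).map K.subtype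
  haveI hZn : Z.Normal := ConjAct.normal_of_characteristic_of_normal
  have hZK : Z ≤ K := Subgroup.map_subtype_le _
  have hZne : Z ≠ ⊥ := by
    obtain ⟨z, _, hz1, hzc⟩ := Cfsg.Agent.Helper29.FrobCoprime.exists_central_mem (P := K) ⊤ top_ne_bot
    intro hbot
    have hzZ : (z : L) ∈ Z := by
      refine ⟨z, ?_, rfl⟩
      rw [SetLike.mem_coe, Subgroup.mem_center_iff]
      intro g
      exact hzc g
    rw [hbot, Subgroup.mem_bot] at hzZ
    exact hz1 (Subtype.ext hzZ)
  have h1 := Cfsg.Agent.Helper83.FrobAbs.frob_index_lt_card K hC Z hZK hZne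
  have h2 : Nat.card Z ≤ Nat.card K := Subgroup.card_le_of_le hZK
  have h3 : Z = K := Subgroup.eq_of_le_of_card_ge hZK (by omega)
  have hcen : ∀ a : K, a ∈ Subgroup.center K := by
    intro a
    have ha : (a : L) ∈ Z := by rw [h3]; exact a.2
    obtain ⟨a', ha', haa⟩ := ha
    have : a' = a := Subtype.ext haa
    rw [← this]
    exact ha'
  intro a b
  exact ((Subgroup.mem_center_iff.1 (hcen b)) a).symm ▸ rfl

end abstractpart

/-- A `p`-subgroup containing a subgroup `K ≠ 1` that contains the centralizers of its non-identity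
elements lies in `K`. -/
theorem le_of_isPGroup_of_centralizer {G : Type u} [Group G] [Finite G] (K : Subgroup G)
    (hK1 : K ≠ ⊥) (hC : ∀ k ∈ K, k ≠ 1 → Subgroup.centralizer ({k} : Set G) ≤ K)
    (p : ℕ) [Fact p.Prime] (Q : Subgroup G) (hQ : IsPGroup p Q) (hKQ : K ≤ Q) : Q ≤ K := by
  obtain ⟨⟨k, hkK⟩, hk1'⟩ := (Subgroup.ne_bot_iff_exists_ne_one).mp hK1
  have hk1 : k ≠ 1 := fun h => hk1' (Subtype.ext h)
  haveI : Nontrivial Q := ⟨⟨⟨k, hKQ hkK⟩, 1, fun h => hk1 (congrArg Subtype.val h)⟩⟩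
  haveI := hQ.center_nontrivial
  obtain ⟨z, hz1⟩ := exists_ne (1 : Subgroup.center Q)
  have hzc : ∀ g : Q, g * (z : Q) = (z : Q) * g := fun g => Subgroup.mem_center_iff.1 z.2 g
  have hz1' : ((z : Q) : G) ≠ 1 := by
    intro h
    apply hz1
    apply Subtype.ext
    apply Subtype.ext
    exact h
  have hzK : ((z : Q) : G) ∈ K := by
    apply hC k hkK hk1
    rw [Subgroup.mem_centralizer_iff]
    intro y hy
    rw [Set.mem_singleton_iff] at hy
    rw [hy]
    exact congrArg Subtype.val (hzc ⟨k, hKQ hkK⟩)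
  intro x hx
  apply hC _ hzK hz1'
  rw [Subgroup.mem_centralizer_iff]
  intro y hy
  rw [Set.mem_singleton_iff] at hy
  rw [hy]
  exact (congrArg Subtype.val (hzc ⟨x, hx⟩)).symm

end Cfsg.Agent.H3Feit
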