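import Mathlib
import Cfsg.Prelude.Def_Characters
import Cfsg.Agent.Lib.Helper3.CharNilpotent
import Cfsg.Agent.Lib.Helper81.CharProd
import Cfsg.Agent.Lib.Helper81.CharAbel

set_option autoImplicit false
set_option linter.unusedSectionVars false
set_option linter.style.haveILetI false

namespace Cfsg.Agent.Helper3

open Module Representation

section Elementary

universe u v
variable {E : Type u} [Group E]

/-- an elementary group is nilpotent -/
theorem isNilpotent_of_isElementary [Finite E] {p : ℕ} (hp : p.Prime)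
    (h : Cfsg.IsElementary p E) : Group.IsNilpotent E := by
  obtain ⟨x, hx, _, k, hk⟩ := h
  haveI : Fact p.Prime := ⟨hp⟩
  have hle : Subgroup.zpowers x ≤ Subgroup.center E := by
    rw [Subgroup.zpowers_le]; exact hx
  haveI hn : (Subgroup.zpowers x).Normal := by
    constructor
    intro n hn g
    have hc := Subgroup.mem_center_iff.mp (hle hn) g
    have : g * n * g⁻¹ = n := by rw [hc]; group
    rw [this]; exact hn
  have hpg : IsPGroup p (E ⧸ Subgroup.zpowers x) := by
    apply IsPGroup.of_card (n := k)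
    rw [← hk]; rfl
  haveI hnil : Group.IsNilpotent (E ⧸ Subgroup.zpowers x) := hpg.isNilpotent
  apply Subgroup.isNilpotent_of_ker_le_center (QuotientGroup.mk' (Subgroup.zpowers x))
  rw [QuotientGroup.ker_mk']; exact hle

/-- being elementary transfers along group isomorphisms -/
theorem isElementary_of_mulEquiv {E' : Type v} [Group E'] {p : ℕ} (e : E ≃* E')
    (h : Cfsg.IsElementary p E) : Cfsg.IsElementary p E' := by
  obtain ⟨x, hx, hcop, k, hk⟩ := h
  refine ⟨e x, ?_, ?_, k, ?_⟩
  · rw [Subgroup.mem_center_iff]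
    intro z
    have h1 := Subgroup.mem_center_iff.mp hx (e.symm z)
    have h2 := congrArg e h1
    simpa using h2
  · rw [MulEquiv.orderOf_eq]; exact hcop
  · have : Subgroup.zpowers (e x) = (Subgroup.zpowers x).map (e : E →* E') := by
      rw [MonoidHom.map_zpowers]; rfl
    rw [this, Subgroup.index_map_equiv, hk]

/-- subgroups of elementary groups are elementary -/
theorem isElementary_subgroup [Finite E] {p : ℕ} (hp : p.Prime)
    (h : Cfsg.IsElementary p E) (H : Subgroup E) : Cfsg.IsElementary p H := by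
  obtain ⟨x, hx, hcop, k, hk⟩ := h
  set C := Subgroup.zpowers x with hC
  have hle : C ≤ Subgroup.center E := by
    rw [hC, Subgroup.zpowers_le]; exact hx
  haveI hn : C.Normal := by
    constructor
    intro n hn g
    have hc := Subgroup.mem_center_iff.mp (hle hn) g
    have : g * n * g⁻¹ = n := by rw [hc]; group
    rw [this]; exact hn
  haveI : IsCyclic (C ⊓ H : Subgroup E) := Subgroup.isCyclic_of_le (inf_le_left : C ⊓ H ≤ C)
  obtain ⟨g, hg⟩ := IsCyclic.exists_generator (α := (C ⊓ H : Subgroup E))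
  let y : H := ⟨g.1, g.2.2⟩
  have hyC : (y : E) ∈ C := g.2.1
  refine ⟨y, ?_, ?_, ?_⟩
  · rw [Subgroup.mem_center_iff]
    intro z
    apply Subtype.ext
    have := Subgroup.mem_center_iff.mp (hle hyC) (z : E)
    simpa using this
  · have h1 : orderOf y = orderOf (y : E) := (Subgroup.orderOf_coe y).symm
    rw [h1]
    obtain ⟨i, hi⟩ := Subgroup.mem_zpowers_iff.mp hyC
    have h2 : orderOf (y : E) ∣ orderOf x := by
      apply orderOf_dvd_of_pow_eq_one
      rw [← hi, ← zpow_natCast, ← zpow_mul, mul_comm, zpow_mul, zpow_natCast, pow_orderOf_eq_one,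
        one_zpow]
    exact Nat.Coprime.coprime_dvd_left h2 hcop
  · have hz : Subgroup.zpowers y = C.subgroupOf H := by
      ext z
      rw [Subgroup.mem_subgroupOf]
      constructor
      · intro hz
        obtain ⟨i, rfl⟩ := Subgroup.mem_zpowers_iff.mp hz
        have : ((y ^ i : H) : E) = (y : E) ^ i := by simp
        rw [this]
        exact Subgroup.zpow_mem _ hyC i
      · intro hz
        have hmem : (z : E) ∈ C ⊓ H := ⟨hz, z.2⟩
        obtain ⟨i, hi⟩ := Subgroup.mem_zpowers_iff.mp (hg ⟨(z : E), hmem⟩)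
        rw [Subgroup.mem_zpowers_iff]
        refine ⟨i, ?_⟩
        apply Subtype.ext
        have := congrArg (fun w : (C ⊓ H : Subgroup E) => (w : E)) hi
        simpa using this
    have hdvd : C.relIndex H ∣ C.index := Subgroup.relIndex_dvd_index_of_normal C H
    rw [hk] at hdvd
    obtain ⟨j, _, hj⟩ := (Nat.dvd_prime_pow hp).mp hdvd
    exact ⟨j, by rw [hz]; exact hj⟩

end Elementary

section Brauer

universe u
variable {G : Type u} [Group G] [Fintype G]

/-- the generators: functions induced from linear characters of elementary subgroups -/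
def BrauerGen (f : G → ℂ) : Prop :=
  ∃ (H : Subgroup G) (lam : H →* ℂˣ), (∃ p : ℕ, p.Prime ∧ Cfsg.IsElementary p H) ∧
    f = Cfsg.indFun H (fun h => (lam h : ℂ))

/-- the `ℤ`-span of the generators -/
def BrauerSpan : AddSubgroup (G → ℂ) := AddSubgroup.closure {f | BrauerGen f}

theorem isCharacter_of_hom {H : Type u} [Group H] (lam : H →* ℂˣ) :
    Cfsg.IsCharacter H (fun h => (lam h : ℂ)) :=
  Helper81.isCharacter_of_mul (by simp) (by intro g h; simp)

theorem indFun_indFun_map (T : Subgroup G) [Fintype T] (H' : Subgroup T) (lam' : H' →* ℂˣ) :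
    ∃ lam : (H'.map T.subtype) →* ℂˣ,
      Cfsg.indFun T (Cfsg.indFun H' (fun h => (lam' h : ℂ))) =
        Cfsg.indFun (H'.map T.subtype) (fun h => (lam h : ℂ)) := by
  let e := H'.equivMapOfInjective T.subtype T.subtype_injective
  refine ⟨lam'.comp e.symm.toMonoidHom, ?_⟩
  have hle : H'.map T.subtype ≤ T := by
    rintro _ ⟨x, _, rfl⟩; exact x.2
  rw [← indFun_trans (H'.map T.subtype) T hle]
  congr 1
  apply indFun_congr_subgroup
  · ext x
    simp [Subgroup.mem_subgroupOf]
  · intro x h₁ h₂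
    simp only [MonoidHom.comp_apply]
    congr 2
    change (⟨x, h₁⟩ : H') = e.symm _
    rw [MulEquiv.eq_symm_apply]
    apply Subtype.ext
    rfl

theorem indFun_char_elementary_mem (E : Subgroup G) {p : ℕ} (hp : p.Prime)
    (hE : Cfsg.IsElementary p E) {φ : E → ℂ} (hφ : Cfsg.IsCharacter E φ) :
    Cfsg.indFun E φ ∈ BrauerSpan (G := G) := by
  classical
  haveI : Fintype E := Fintype.ofFinite _
  haveI : Group.IsNilpotent E := isNilpotent_of_isElementary hp hE
  rw [isCharacter_eq_sum_irrMult hφ, indFun_sum]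
  apply AddSubgroup.sum_mem
  intro ψ _
  rw [indFun_smul]
  have hmem : Cfsg.indFun E (ψ : E → ℂ) ∈ BrauerSpan (G := G) := by
    obtain ⟨H', lam', hψ⟩ := nilpotent_monomial (ψ : E → ℂ) ψ.2
    obtain ⟨lam, hlam⟩ := indFun_indFun_map E H' lam'
    rw [hψ, hlam]
    apply AddSubgroup.subset_closure
    refine ⟨H'.map E.subtype, lam, ⟨p, hp, ?_⟩, rfl⟩
    exact isElementary_of_mulEquiv (H'.equivMapOfInjective E.subtype E.subtype_injective)
      (isElementary_subgroup hp hE H')
  rw [Nat.cast_smul_eq_nsmul]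
  exact AddSubgroup.nsmul_mem _ hmem _

theorem brauerSpan_mul_char {f : G → ℂ} (hf : f ∈ BrauerSpan (G := G)) {χ : G → ℂ}
    (hχ : Cfsg.IsCharacter G χ) : f * χ ∈ BrauerSpan (G := G) := by
  unfold BrauerSpan at hf
  induction hf using AddSubgroup.closure_induction with
  | mem f hf =>
    obtain ⟨H, lam, ⟨p, hp, hE⟩, rfl⟩ := hf
    rw [← Helper81.indFun_mul_restrict H _ (isClassFunction_of_isCharacter hχ)]
    apply indFun_char_elementary_mem H hp hE
    exact isCharacter_mul (isCharacter_of_hom lam) (isCharacter_restrict H hχ)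
  | zero => rw [zero_mul]; exact AddSubgroup.zero_mem _
  | add f g _ _ hf hg => rw [add_mul]; exact AddSubgroup.add_mem _ hf hg
  | neg f _ hf => rw [neg_mul]; exact AddSubgroup.neg_mem _ hf

theorem local_list_mem_brauerSpan {p : ℕ} (hp : p.Prime)
    (l : List ((E : Subgroup G) × ((E → ℂ) × ℤ)))
    (hl : ∀ t ∈ l, Cfsg.IsElementary p t.1 ∧ Cfsg.IsCharacter t.1 t.2.1) :
    (l.map fun t => (t.2.2 : ℂ) • Cfsg.indFun t.1 t.2.1).sum ∈ BrauerSpan (G := G) := by
  induction l with
  | nil => simp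
  | cons t l ih =>
    rw [List.map_cons, List.sum_cons]
    apply AddSubgroup.add_mem
    · have ht := hl t List.mem_cons_self
      have := indFun_char_elementary_mem t.1 hp ht.1 ht.2
      rw [Int.cast_smul_eq_zsmul]
      exact AddSubgroup.zsmul_mem _ this _
    · exact ih (fun t ht => hl t (List.mem_cons_of_mem _ ht))

theorem one_mem_brauerSpan
    (hlocal : ∀ p : ℕ, p.Prime → ∃ (m : ℤ) (l : List ((E : Subgroup G) × ((E → ℂ) × ℤ))),
      ¬ (p : ℤ) ∣ m ∧ (∀ t ∈ l, Cfsg.IsElementary p t.1 ∧ Cfsg.IsCharacter t.1 t.2.1) ∧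
      (fun _ : G => (m : ℂ)) = (l.map fun t => (t.2.2 : ℂ) • Cfsg.indFun t.1 t.2.1).sum) :
    (fun _ : G => (1 : ℂ)) ∈ BrauerSpan (G := G) := by
  let I : Ideal ℤ :=
    { carrier := {n | (fun _ : G => (n : ℂ)) ∈ BrauerSpan (G := G)}
      add_mem' := by
        intro a b ha hb
        simp only [Set.mem_ofPred_eq] at ha hb ⊢
        have : (fun _ : G => ((a + b : ℤ) : ℂ)) = (fun _ : G => (a : ℂ)) + (fun _ : G => (b : ℂ)) := by
          funext x; simp
        rw [this]
        exact AddSubgroup.add_mem _ ha hb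
      zero_mem' := by
        simp only [Set.mem_ofPred_eq]
        have : (fun _ : G => ((0 : ℤ) : ℂ)) = 0 := by funext x; simp
        rw [this]
        exact AddSubgroup.zero_mem _
      smul_mem' := by
        intro c a ha
        simp only [Set.mem_ofPred_eq] at ha ⊢
        have : (fun _ : G => ((c • a : ℤ) : ℂ)) = c • (fun _ : G => (a : ℂ)) := by
          funext x; simp
        rw [this]
        exact AddSubgroup.zsmul_mem _ ha _ }
  have hmemI : ∀ n : ℤ, n ∈ I ↔ (fun _ : G => (n : ℂ)) ∈ BrauerSpan (G := G) := fun n => Iff.rfl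
  have hmem : ∀ p : ℕ, p.Prime → ∃ m : ℤ, ¬ (p : ℤ) ∣ m ∧ m ∈ I := by
    intro p hp
    obtain ⟨m, l, hpm, hl, hsum⟩ := hlocal p hp
    refine ⟨m, hpm, ?_⟩
    rw [hmemI, hsum]
    exact local_list_mem_brauerSpan hp l hl
  obtain ⟨d, hd⟩ := (IsPrincipalIdealRing.principal I).principal
  have hdvd : ∀ n : ℤ, n ∈ I → d ∣ n := by
    intro n hn
    rw [hd, Submodule.mem_span_singleton] at hn
    obtain ⟨a, rfl⟩ := hn
    exact Dvd.intro_left a rfl
  have hdI : d ∈ I := by
    rw [hd]; exact Submodule.mem_span_singleton_self d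
  by_cases h1 : d.natAbs = 1
  · have hunit : IsUnit d := Int.isUnit_iff_natAbs_eq.mpr h1
    have h1I : (1 : ℤ) ∈ I := by
      obtain ⟨c, hc⟩ := (hunit.dvd : d ∣ 1)
      rw [hc, mul_comm]
      exact I.smul_mem c hdI
    have := (hmemI 1).mp h1I
    simpa using this
  · obtain ⟨q, hq, hqd⟩ := Nat.exists_prime_and_dvd h1
    obtain ⟨m, hqm, hmI⟩ := hmem q hq
    exfalso
    apply hqm
    exact dvd_trans (Int.natCast_dvd.mpr hqd) (hdvd m hmI)

theorem neg_list_sum (l : List ((E : Subgroup G) × ((E →* ℂˣ) × ℤ))) :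
    -(l.map fun t => (t.2.2 : ℂ) • Cfsg.indFun t.1 (fun e => (t.2.1 e : ℂ))).sum =
      ((l.map (fun t => (⟨t.1, (t.2.1, -t.2.2)⟩ : (E : Subgroup G) × ((E →* ℂˣ) × ℤ)))).map
        fun t => (t.2.2 : ℂ) • Cfsg.indFun t.1 (fun e => (t.2.1 e : ℂ))).sum := by
  induction l with
  | nil => simp
  | cons t l ih =>
    simp only [List.map_cons, List.sum_cons, neg_add]
    rw [ih]
    congr 1
    simp

theorem exists_list_of_mem_brauerSpan {f : G → ℂ} (hf : f ∈ BrauerSpan (G := G)) :
    ∃ l : List ((E : Subgroup G) × ((E →* ℂˣ) × ℤ)),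
      (∀ t ∈ l, ∃ p : ℕ, p.Prime ∧ Cfsg.IsElementary p t.1) ∧
      f = (l.map fun t => (t.2.2 : ℂ) • Cfsg.indFun t.1 (fun e => (t.2.1 e : ℂ))).sum := by
  unfold BrauerSpan at hf
  induction hf using AddSubgroup.closure_induction with
  | mem f hf =>
    obtain ⟨H, lam, hH, rfl⟩ := hf
    refine ⟨[⟨H, (lam, 1)⟩], ?_, ?_⟩
    · intro t ht
      rw [List.mem_singleton] at ht
      rw [ht]; exact hH
    · simp
  | zero => exact ⟨[], by simp, by simp⟩
  | add f g _ _ hf hg =>
    obtain ⟨l₁, h₁, rfl⟩ := hf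
    obtain ⟨l₂, h₂, rfl⟩ := hg
    refine ⟨l₁ ++ l₂, ?_, by simp⟩
    intro t ht
    rcases List.mem_append.mp ht with h | h
    · exact h₁ t h
    · exact h₂ t h
  | neg f _ hf =>
    obtain ⟨l, h, rfl⟩ := hf
    refine ⟨l.map (fun t => ⟨t.1, (t.2.1, -t.2.2)⟩), ?_, ?_⟩
    · intro t ht
      obtain ⟨s, hs, rfl⟩ := List.mem_map.mp ht
      exact h s hs
    · exact neg_list_sum l

/-- Brauer's induction theorem, from its local form -/
theorem brauer_of_local
    (hlocal : ∀ p : ℕ, p.Prime → ∃ (m : ℤ) (l : List ((E : Subgroup G) × ((E → ℂ) × ℤ))),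
      ¬ (p : ℤ) ∣ m ∧ (∀ t ∈ l, Cfsg.IsElementary p t.1 ∧ Cfsg.IsCharacter t.1 t.2.1) ∧
      (fun _ : G => (m : ℂ)) = (l.map fun t => (t.2.2 : ℂ) • Cfsg.indFun t.1 t.2.1).sum)
    (χ : G → ℂ) (hχ : Cfsg.IsCharacter G χ) :
    ∃ l : List ((E : Subgroup G) × ((E →* ℂˣ) × ℤ)),
      (∀ t ∈ l, ∃ p : ℕ, p.Prime ∧ Cfsg.IsElementary p t.1) ∧
      χ = (l.map fun t => (t.2.2 : ℂ) • Cfsg.indFun t.1 (fun e => (t.2.1 e : ℂ))).sum := by
  apply exists_list_of_mem_brauerSpan
  have h1 := brauerSpan_mul_char (one_mem_brauerSpan hlocal) hχ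
  have : (fun _ : G => (1 : ℂ)) * χ = χ := by funext x; simp
  rwa [this] at h1

end Brauer

section Characterization

universe u

theorem isGenChar_intCast_smul {G : Type u} [Group G] {θ : G → ℂ}
    (h : Cfsg.IsGeneralizedCharacter G θ) (c : ℤ) :
    Cfsg.IsGeneralizedCharacter G ((c : ℂ) • θ) := by
  induction c using Int.induction_on with
  | zero => simpa using isGenChar_zero
  | succ n ih =>
    have : ((n + 1 : ℤ) : ℂ) • θ = ((n : ℤ) : ℂ) • θ + θ := by
      push_cast; rw [add_smul, one_smul]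
    rw [this]
    exact isGenChar_add ih h
  | pred n ih =>
    have : ((-(n : ℤ) - 1 : ℤ) : ℂ) • θ = ((-(n : ℤ) : ℤ) : ℂ) • θ - θ := by
      push_cast; rw [sub_smul, one_smul]
    rw [this]
    exact isGenChar_sub ih h

variable {G : Type u} [Group G] [Fintype G]

theorem brauer_characterization_of_local
    (hlocal : ∀ p : ℕ, p.Prime → ∃ (m : ℤ) (l : List ((E : Subgroup G) × ((E → ℂ) × ℤ))),
      ¬ (p : ℤ) ∣ m ∧ (∀ t ∈ l, Cfsg.IsElementary p t.1 ∧ Cfsg.IsCharacter t.1 t.2.1) ∧
      (fun _ : G => (m : ℂ)) = (l.map fun t => (t.2.2 : ℂ) • Cfsg.indFun t.1 t.2.1).sum)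
    (θ : G → ℂ) (hθ : Cfsg.IsClassFunction G θ)
    (hE : ∀ (E : Subgroup G) (p : ℕ), p.Prime → Cfsg.IsElementary p E →
      Cfsg.IsGeneralizedCharacter E (fun e : E => θ e)) :
    Cfsg.IsGeneralizedCharacter G θ := by
  obtain ⟨l, hl, hsum⟩ := brauer_of_local hlocal (fun _ => 1) isCharacter_one
  have h1 : θ = (fun _ => (1 : ℂ)) * θ := by funext x; simp
  rw [h1, hsum, ← List.sum_map_mul_right]
  clear hsum h1
  induction l with
  | nil => simpa using isGenChar_zero
  | cons t l ih =>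
    rw [List.map_cons, List.sum_cons]
    apply isGenChar_add
    · obtain ⟨p, hp, hEl⟩ := hl t List.mem_cons_self
      rw [smul_mul_assoc]
      apply isGenChar_intCast_smul
      rw [← Helper81.indFun_mul_restrict t.1 _ hθ]
      apply isGenChar_indFun
      have h2 := hE t.1 p hp hEl
      have h3 : (fun e : t.1 => (t.2.1 e : ℂ)) * (fun n : t.1 => θ n) =
          (fun e : t.1 => θ e) * (fun e : t.1 => (t.2.1 e : ℂ)) := by
        funext e; simp [mul_comm]
      rw [h3]
      exact isGenChar_mul_char h2 (isCharacter_of_hom t.2.1)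
    · exact ih (fun t ht => hl t (List.mem_cons_of_mem _ ht))

end Characterization

end Cfsg.Agent.Helper3
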