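import Mathlib
import Cfsg.Prelude.Def_Characters
import Cfsg.Agent.Lib.Helper3.CharBrauer
import Cfsg.Agent.Lib.Helper3.CharIntegral

set_option autoImplicit false
set_option linter.unusedSectionVars false
set_option linter.style.haveILetI false

namespace Cfsg.Agent.Helper3

open Module Representation

section DefectZero

open scoped ComplexConjugate

universe u v
variable {G : Type u} [Group G] [Fintype G]
variable {V : Type v} [AddCommGroup V] [Module ℂ V] [FiniteDimensional ℂ V]

/-- the truncation of a function to `p`-regular elements -/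
noncomputable def pRegPart (p : ℕ) (χ : G → ℂ) : G → ℂ :=
  fun y => if p ∣ orderOf y then 0 else χ y

theorem isClassFunction_pRegPart (p : ℕ) {χ : G → ℂ} (hχ : Cfsg.IsClassFunction G χ) :
    Cfsg.IsClassFunction G (pRegPart p χ) := by
  intro g h
  unfold pRegPart
  have ho : orderOf (h * g * h⁻¹) = orderOf g := by
    have := (MulAut.conj h).orderOf_eq g
    simpa [MulAut.conj_apply] using this
  rw [ho, hχ g h]

/-- restriction of a function on a subgroup `E` to a smaller subgroup `S`, as a function on `S` -/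
def resSub {E S : Subgroup G} (hSE : S ≤ E) (ψ : E → ℂ) : S → ℂ := fun s => ψ ⟨(s : G), hSE s.2⟩

theorem isCharacter_resSub {E S : Subgroup G} (hSE : S ≤ E) {ψ : E → ℂ}
    (hψ : Cfsg.IsCharacter E ψ) : Cfsg.IsCharacter S (resSub hSE ψ) := by
  obtain ⟨k, ρ, rfl⟩ := hψ
  exact ⟨k, ρ.comp (Subgroup.inclusion hSE), rfl⟩

theorem pRegPart_restrict_isGenChar (ρ : Representation ℂ G V) [ρ.IsIrreducible] (p n : ℕ)
    (hp : p.Prime) (hn' : ¬ p ^ (n + 1) ∣ Nat.card G) (hdeg : p ^ n ∣ finrank ℂ V)
    (E S : Subgroup G) (hSE : S ≤ E) (k : ℕ)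
    (h1 : ∀ y ∈ E, (¬ p ∣ orderOf y ↔ y ∈ S))
    (h2 : Nat.card E = p ^ k * Nat.card S)
    (h3 : ∀ y ∈ S, p ^ k ∣ Nat.card (Subgroup.centralizer ({y} : Set G)))
    (h4 : Nat.Coprime (Nat.card S) p) :
    Cfsg.IsGeneralizedCharacter E (fun e : E => pRegPart p ρ.character e) := by
  classical
  haveI : Fintype E := Fintype.ofFinite _
  haveI : Fintype S := Fintype.ofFinite _
  set χ := ρ.character with hχdef
  set d := finrank ℂ V with hd
  have hVnt := nontrivial_of_irr ρ
  have hdpos : 0 < d := Module.finrank_pos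
  obtain ⟨b₀, hb₀⟩ := finrank_dvd_card ρ
  have hb₀p : Nat.Coprime b₀ p := by
    rw [Nat.coprime_comm, Nat.Prime.coprime_iff_not_dvd hp]
    intro hpb
    apply hn'
    rw [hb₀, pow_succ]
    exact Nat.mul_dvd_mul hdeg hpb
  set θE : E → ℂ := fun e : E => pRegPart p χ e with hθE
  have hχcf : Cfsg.IsClassFunction G χ := isClassFunction_of_isCharacter (isCharacter_of_rep ρ)
  have hθcf : Cfsg.IsClassFunction E θE := by
    intro a b
    exact isClassFunction_pRegPart p hχcf (a : G) (b : G)
  have hsum : ∀ ψ : E → ℂ, ∑ e : E, θE e * conj (ψ e) =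
      ∑ s : S, χ s * conj (resSub hSE ψ s) := by
    intro ψ
    symm
    apply Fintype.sum_of_injective (fun s : S => (⟨(s : G), hSE s.2⟩ : E))
    · intro a b hab
      apply Subtype.ext
      simpa using congrArg (fun e : E => (e : G)) hab
    · intro e he
      have heS : (e : G) ∉ S := fun h => he ⟨⟨e, h⟩, rfl⟩
      have : p ∣ orderOf (e : G) := by
        by_contra hnd
        exact heS ((h1 e e.2).mp hnd)
      have h0 : θE e = 0 := by
        simp only [hθE, pRegPart]
        rw [if_pos this]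
      rw [h0, zero_mul]
    · intro s
      have : ¬ p ∣ orderOf (s : G) := (h1 s (hSE s.2)).mpr s.2
      have h0 : θE ⟨(s : G), hSE s.2⟩ = χ s := by
        simp only [hθE, pRegPart]
        rw [if_neg this]
      rw [h0]
      rfl
  have hE0 : (Nat.card E : ℂ) ≠ 0 := by
    have : Nat.card E ≠ 0 := Nat.card_pos.ne'
    exact_mod_cast this
  have hS0 : (Nat.card S : ℂ) ≠ 0 := by
    have : Nat.card S ≠ 0 := Nat.card_pos.ne'
    exact_mod_cast this
  have hpk0 : ((p : ℂ) ^ k) ≠ 0 := by
    have : p ≠ 0 := hp.ne_zero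
    exact pow_ne_zero _ (by exact_mod_cast this)
  have hcoef : ∀ ψ : Cfsg.IrrCharacter E, ∃ m : ℤ,
      Cfsg.classInner θE (ψ : E → ℂ) = (m : ℂ) := by
    intro ψ
    set t := Cfsg.classInner θE (ψ : E → ℂ) with ht
    have hψc : Cfsg.IsCharacter E (ψ : E → ℂ) := isCharacter_of_isIrrCharacter ψ.2
    obtain ⟨m, hm⟩ := classInner_isCharacter_nat
      (isCharacter_restrict S (isCharacter_of_rep ρ)) (isCharacter_resSub hSE hψc)
    have hcardE : (Nat.card E : ℂ) = (p : ℂ) ^ k * (Nat.card S : ℂ) := by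
      rw [h2]; push_cast; ring
    have ht' : t = ((p : ℂ) ^ k)⁻¹ * ((Nat.card S : ℂ)⁻¹ *
        ∑ s : S, χ s * conj (resSub hSE (ψ : E → ℂ) s)) := by
      rw [ht]
      unfold Cfsg.classInner
      rw [hsum, hcardE, mul_inv, mul_assoc]
    have hi : t = ((p : ℂ) ^ k)⁻¹ * (m : ℂ) := by
      rw [ht', ← hm]
      rfl
    have hii : IsIntegral ℤ (((b₀ * Nat.card S : ℕ) : ℂ) * t) := by
      have hexp : ((b₀ * Nat.card S : ℕ) : ℂ) * t =
          ∑ s : S, ((b₀ : ℂ) * χ s / ((p : ℂ) ^ k)) * conj (resSub hSE (ψ : E → ℂ) s) := by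
        rw [ht', Finset.mul_sum, Finset.mul_sum, Finset.mul_sum]
        apply Finset.sum_congr rfl
        intro s _
        push_cast
        field_simp
      rw [hexp]
      apply IsIntegral.sum
      intro s _
      apply IsIntegral.mul
      · obtain ⟨c, hc⟩ := h3 s s.2
        have hidx := Subgroup.card_mul_index (Subgroup.centralizer ({(s : G)} : Set G))
        have hint := isIntegral_class_mul_char_div ρ (s : G)
        have hd0 : (d : ℂ) ≠ 0 := by
          have : d ≠ 0 := hdpos.ne'
          exact_mod_cast this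
        have hrel : ((p : ℂ) ^ k) * (c : ℂ) *
            ((Subgroup.centralizer ({(s : G)} : Set G)).index : ℂ) = (d : ℂ) * (b₀ : ℂ) := by
          have h5 : p ^ k * c * (Subgroup.centralizer ({(s : G)} : Set G)).index = d * b₀ := by
            rw [← hc, hidx, hb₀]
          exact_mod_cast h5
        have heq : (b₀ : ℂ) * χ s / ((p : ℂ) ^ k) = (c : ℂ) *
            (((Subgroup.centralizer ({(s : G)} : Set G)).index : ℂ) * χ s / (d : ℂ)) := by
          field_simp
          linear_combination (-(χ (s : G))) * hrel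
        rw [heq]
        exact (isIntegral_algebraMap (R := ℤ) (A := ℂ) (x := (c : ℤ))).mul hint |> fun h => by
          simpa using h
      · apply isIntegral_conj
        obtain ⟨n', σ, _, hσ⟩ := ψ.2
        change IsIntegral ℤ ((ψ : E → ℂ) ⟨(s : G), hSE s.2⟩)
        rw [← hσ]
        exact char_isIntegral σ _
    have hdvd : p ^ k ∣ b₀ * Nat.card S * m := by
      apply rat_of_isIntegral_natCast_div (b₀ * Nat.card S * m) (p ^ k) (pow_ne_zero _ hp.ne_zero)
      have : (((b₀ * Nat.card S * m : ℕ) : ℂ) / ((p ^ k : ℕ) : ℂ)) =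
          ((b₀ * Nat.card S : ℕ) : ℂ) * t := by
        rw [hi]; push_cast; field_simp
      rw [this]; exact hii
    have hcop : Nat.Coprime (p ^ k) (b₀ * Nat.card S) := by
      apply Nat.Coprime.pow_left
      exact Nat.Coprime.mul_right hb₀p.symm h4.symm
    obtain ⟨m', hm'⟩ := hcop.dvd_of_dvd_mul_left hdvd
    refine ⟨(m' : ℤ), ?_⟩
    rw [hi, hm']
    push_cast
    field_simp
  choose mψ hmψ using hcoef
  have hexp := classFunction_eq_sum θE hθcf
  rw [hexp]
  apply isGenChar_sum
  intro ψ _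
  rw [hmψ ψ]
  exact isGenChar_intCast_smul (isGenChar_of_char (isCharacter_of_isIrrCharacter ψ.2)) _

/-- structure of the `p`-regular elements of a `p`-elementary subgroup -/
theorem exists_pRegular_subgroup_same (E : Subgroup G) {p : ℕ} (hp : p.Prime)
    (hE : Cfsg.IsElementary p E) :
    ∃ (S : Subgroup G) (k : ℕ), S ≤ E ∧ (∀ y ∈ E, (¬ p ∣ orderOf y ↔ y ∈ S)) ∧
      Nat.card E = p ^ k * Nat.card S ∧
      (∀ y ∈ S, p ^ k ∣ Nat.card (Subgroup.centralizer ({y} : Set G))) ∧
      Nat.Coprime (Nat.card S) p := by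
  classical
  obtain ⟨x, hx, hcop, k, hk⟩ := hE
  set C : Subgroup E := Subgroup.zpowers x with hC
  have hle : C ≤ Subgroup.center E := by
    rw [hC, Subgroup.zpowers_le]; exact hx
  haveI hn : C.Normal := by
    constructor
    intro n hn g
    have hc := Subgroup.mem_center_iff.mp (hle hn) g
    have : g * n * g⁻¹ = n := by rw [hc]; group
    rw [this]; exact hn
  have hcardS : Nat.card (C.map E.subtype) = orderOf x := by
    rw [Subgroup.card_map_of_injective E.subtype_injective, hC, Nat.card_zpowers]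
  have hcardE : Nat.card E = p ^ k * Nat.card (C.map E.subtype) := by
    rw [Subgroup.card_map_of_injective E.subtype_injective, ← hk, mul_comm]
    exact (Subgroup.card_mul_index C).symm
  refine ⟨C.map E.subtype, k, Subgroup.map_subtype_le C, ?_, hcardE, ?_, ?_⟩
  · intro y hy
    constructor
    · intro hnd
      let y' : E := ⟨y, hy⟩
      have ho : orderOf y' = orderOf y := Subgroup.orderOf_mk y hy
      have hq1 : ((y' : E ⧸ C)) ^ (p ^ k) = 1 := by
        have hcardQ : Nat.card (E ⧸ C) = p ^ k := by rw [← hk]; rfl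
        rw [← hcardQ]
        exact pow_card_eq_one'
      have hq2 : ((y' : E ⧸ C)) ^ (orderOf y) = 1 := by
        rw [← QuotientGroup.mk_pow, ← ho, pow_orderOf_eq_one]
        rfl
      have hg : Nat.gcd (p ^ k) (orderOf y) = 1 := by
        apply Nat.Coprime.pow_left
        exact (Nat.Prime.coprime_iff_not_dvd hp).mpr hnd
      have h1 := pow_gcd_eq_one.mpr ⟨hq1, hq2⟩
      rw [hg, pow_one] at h1
      have hmem : y' ∈ C := (QuotientGroup.eq_one_iff y').mp h1
      exact ⟨y', hmem, rfl⟩
    · rintro ⟨z, hz, rfl⟩ hdvd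
      have ho : orderOf (E.subtype z) = orderOf z := by
        simp
      rw [ho] at hdvd
      obtain ⟨i, hi⟩ := Subgroup.mem_zpowers_iff.mp hz
      have h2 : orderOf z ∣ orderOf x := by
        apply orderOf_dvd_of_pow_eq_one
        rw [← hi, ← zpow_natCast, ← zpow_mul, mul_comm, zpow_mul, zpow_natCast,
          pow_orderOf_eq_one, one_zpow]
      have : p ∣ orderOf x := dvd_trans hdvd h2
      have hcop' := (Nat.Prime.coprime_iff_not_dvd hp).mp hcop.symm
      exact hcop' this
  · rintro y ⟨z, hz, rfl⟩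
    have hcen : E ≤ Subgroup.centralizer ({(E.subtype z : G)} : Set G) := by
      intro e he
      rw [Subgroup.mem_centralizer_iff]
      intro w hw
      rw [Set.mem_singleton_iff] at hw
      rw [hw]
      have := Subgroup.mem_center_iff.mp (hle hz) ⟨e, he⟩
      have h3 := congrArg (fun t : E => (t : G)) this
      simpa using h3.symm
    have h4 := Subgroup.card_dvd_of_le hcen
    exact dvd_trans (Dvd.intro _ hcardE.symm) h4
  · rw [hcardS]; exact hcop

/-- structure of the `p`-regular elements of an `r`-elementary subgroup, `r ≠ p` -/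
theorem exists_pRegular_subgroup_other (E : Subgroup G) {p r : ℕ} (hp : p.Prime) (hr : r.Prime)
    (hpr : r ≠ p) (hE : Cfsg.IsElementary r E) :
    ∃ (S : Subgroup G) (k : ℕ), S ≤ E ∧ (∀ y ∈ E, (¬ p ∣ orderOf y ↔ y ∈ S)) ∧
      Nat.card E = p ^ k * Nat.card S ∧
      (∀ y ∈ S, p ^ k ∣ Nat.card (Subgroup.centralizer ({y} : Set G))) ∧
      Nat.Coprime (Nat.card S) p := by
  classical
  obtain ⟨x, hx, hcop, j, hj⟩ := hE
  have ho0 : orderOf x ≠ 0 := (orderOf_pos x).ne'
  obtain ⟨a, c, hc, hoc⟩ := Nat.exists_eq_pow_mul_and_not_dvd ho0 p hp.ne_one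
  have hc0 : c ≠ 0 := by
    rintro rfl
    exact hc (dvd_zero p)
  have hcdvd : c ∣ orderOf x := ⟨p ^ a, by rw [hoc, mul_comm]⟩
  set z : E := x ^ c with hz
  have hzo : orderOf z = p ^ a := by
    rw [hz, orderOf_pow_of_dvd hc0 hcdvd, hoc, Nat.mul_div_cancel _ (Nat.pos_of_ne_zero hc0)]
  set P : Subgroup E := Subgroup.zpowers z with hP
  have hzcen : z ∈ Subgroup.center E := Subgroup.pow_mem _ hx c
  have hle : P ≤ Subgroup.center E := by
    rw [hP, Subgroup.zpowers_le]; exact hzcen
  haveI hn : P.Normal := by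
    constructor
    intro n hn g
    have hcm := Subgroup.mem_center_iff.mp (hle hn) g
    have : g * n * g⁻¹ = n := by rw [hcm]; group
    rw [this]; exact hn
  have hcardP : Nat.card P = p ^ a := by rw [hP, Nat.card_zpowers, hzo]
  have hcardE : Nat.card E = p ^ a * (c * r ^ j) := by
    have h1 := Subgroup.card_mul_index (Subgroup.zpowers x)
    rw [Nat.card_zpowers, hj, hoc] at h1
    rw [← h1]; ring
  have hidx : P.index = c * r ^ j := by
    have h1 := Subgroup.card_mul_index P
    rw [hcardP, hcardE] at h1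
    exact Nat.eq_of_mul_eq_mul_left (pow_pos hp.pos a) h1
  have hpc : Nat.Coprime p (c * r ^ j) := by
    apply Nat.Coprime.mul_right
    · exact (Nat.Prime.coprime_iff_not_dvd hp).mpr hc
    · apply Nat.Coprime.pow_right
      exact (Nat.coprime_primes hp hr).mpr (Ne.symm hpr)
  have hcopr : Nat.Coprime (Nat.card P) P.index := by
    rw [hcardP, hidx]
    exact Nat.Coprime.pow_left _ hpc
  obtain ⟨Q, hQ⟩ := Subgroup.exists_right_complement'_of_coprime hcopr
  have hcardQ : Nat.card Q = c * r ^ j := by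
    rw [← hidx]; exact (hQ.symm.index_eq_card).symm
  have hcardS : Nat.card (Q.map E.subtype) = c * r ^ j := by
    rw [Subgroup.card_map_of_injective E.subtype_injective, hcardQ]
  refine ⟨Q.map E.subtype, a, Subgroup.map_subtype_le Q, ?_, ?_, ?_, ?_⟩
  · intro y hy
    constructor
    · intro hnd
      let y' : E := ⟨y, hy⟩
      have ho : orderOf y' = orderOf y := Subgroup.orderOf_mk y hy
      obtain ⟨⟨u, q⟩, huq, _⟩ := hQ.existsUnique y'
      simp only at huq
      have hucen : (u : E) ∈ Subgroup.center E := hle u.2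
      have hcomm : Commute (u : E) (q : E) := by
        have := Subgroup.mem_center_iff.mp hucen (q : E)
        exact this.symm
      have hqN : (q : E) ^ (Nat.card Q) = 1 := by
        have : q ^ (Nat.card Q) = 1 := pow_card_eq_one'
        have h5 : ((q ^ (Nat.card Q) : Q) : E) = ((1 : Q) : E) := congrArg _ this
        rwa [Subgroup.coe_pow, Subgroup.coe_one] at h5
      have hyN : y' ^ (Nat.card Q) = (u : E) ^ (Nat.card Q) := by
        rw [← huq, hcomm.mul_pow, hqN, mul_one]
      have hu1 : (u : E) ^ (Nat.card Q * orderOf y) = 1 := by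
        rw [pow_mul, ← hyN, ← pow_mul, mul_comm, pow_mul, ← ho, pow_orderOf_eq_one, one_pow]
      have hu2 : (u : E) ^ (p ^ a) = 1 := by
        have : u ^ (Nat.card P) = 1 := pow_card_eq_one'
        have h5 : ((u ^ (Nat.card P) : P) : E) = ((1 : P) : E) := congrArg _ this
        rwa [Subgroup.coe_pow, Subgroup.coe_one, hcardP] at h5
      have hg : Nat.gcd (p ^ a) (Nat.card Q * orderOf y) = 1 := by
        apply Nat.Coprime.pow_left
        apply Nat.Coprime.mul_right
        · rw [hcardQ]; exact hpc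
        · exact (Nat.Prime.coprime_iff_not_dvd hp).mpr hnd
      have h1 := pow_gcd_eq_one.mpr ⟨hu2, hu1⟩
      rw [hg, pow_one] at h1
      have hyq : y' = (q : E) := by rw [← huq, h1, one_mul]
      exact ⟨(q : E), q.2, by rw [← hyq]; rfl⟩
    · rintro ⟨w, hw, rfl⟩ hdvd
      have ho : orderOf (E.subtype w) = orderOf w := by simp
      rw [ho] at hdvd
      have h2 : orderOf w ∣ Nat.card Q := by
        have : orderOf (⟨w, hw⟩ : Q) ∣ Nat.card Q := orderOf_dvd_natCard _
        rwa [Subgroup.orderOf_mk] at this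
      rw [hcardQ] at h2
      have : p ∣ c * r ^ j := dvd_trans hdvd h2
      exact (Nat.Prime.coprime_iff_not_dvd hp).mp hpc this
  · rw [hcardS, hcardE]
  · rintro y ⟨w, hw, rfl⟩
    have hcen : P.map E.subtype ≤ Subgroup.centralizer ({(E.subtype w : G)} : Set G) := by
      rintro _ ⟨u, hu, rfl⟩
      rw [Subgroup.mem_centralizer_iff]
      intro v hv
      rw [Set.mem_singleton_iff] at hv
      rw [hv]
      have := Subgroup.mem_center_iff.mp (hle hu) w
      have h3 := congrArg (fun t : E => (t : G)) this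
      simpa using h3
    have h4 := Subgroup.card_dvd_of_le hcen
    rw [Subgroup.card_map_of_injective E.subtype_injective, hcardP] at h4
    exact h4
  · rw [hcardS]; exact hpc.symm

theorem sum_normSq_of_classInner {φ : G → ℂ} {K : ℝ} (h : Cfsg.classInner φ φ = (K : ℂ)) :
    ∑ y : G, Complex.normSq (φ y) = (Fintype.card G : ℝ) * K := by
  unfold Cfsg.classInner at h
  have hg0 : (Nat.card G : ℂ) ≠ 0 := by
    have : Nat.card G ≠ 0 := Nat.card_pos.ne'
    exact_mod_cast this
  have h1 : ∑ y : G, φ y * conj (φ y) = (Nat.card G : ℂ) * (K : ℂ) := by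
    rw [← h, ← mul_assoc, mul_inv_cancel₀ hg0, one_mul]
  simp only [Complex.mul_conj] at h1
  rw [Nat.card_eq_fintype_card] at h1
  exact_mod_cast h1

/-- characters of `p`-defect zero vanish on `p`-singular elements (given the local form of
Brauer's induction theorem) -/
theorem defect_zero_of_local
    (hlocal : ∀ p : ℕ, p.Prime → ∃ (m : ℤ) (l : List ((E : Subgroup G) × ((E → ℂ) × ℤ))),
      ¬ (p : ℤ) ∣ m ∧ (∀ t ∈ l, Cfsg.IsElementary p t.1 ∧ Cfsg.IsCharacter t.1 t.2.1) ∧
      (fun _ : G => (m : ℂ)) = (l.map fun t => (t.2.2 : ℂ) • Cfsg.indFun t.1 t.2.1).sum)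
    (ρ : Representation ℂ G V) [ρ.IsIrreducible] (p n : ℕ) (hp : p.Prime)
    (hn' : ¬ p ^ (n + 1) ∣ Nat.card G) (hdeg : p ^ n ∣ finrank ℂ V) (x : G)
    (hx : p ∣ orderOf x) : ρ.character x = 0 := by
  classical
  set χ := ρ.character with hχdef
  set θ := pRegPart p χ with hθdef
  have hχc : Cfsg.IsCharacter G χ := isCharacter_of_rep ρ
  have hχirr : Cfsg.IsIrrCharacter G χ := isIrrCharacter_of_rep ρ
  have hχcf := isClassFunction_of_isCharacter hχc
  have hθcf : Cfsg.IsClassFunction G θ := isClassFunction_pRegPart p hχcf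
  have hθgen : Cfsg.IsGeneralizedCharacter G θ := by
    apply brauer_characterization_of_local hlocal θ hθcf
    intro E r hr hE
    by_cases hrp : r = p
    · subst hrp
      obtain ⟨S, k, hSE, h1, h2, h3, h4⟩ := exists_pRegular_subgroup_same E hr hE
      exact pRegPart_restrict_isGenChar ρ r n hr hn' hdeg E S hSE k h1 h2 h3 h4
    · obtain ⟨S, k, hSE, h1, h2, h3, h4⟩ := exists_pRegular_subgroup_other E hp hr hrp hE
      exact pRegPart_restrict_isGenChar ρ p n hp hn' hdeg E S hSE k h1 h2 h3 h4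
  obtain ⟨α, β, hα, hβ, hθeq⟩ := hθgen
  set c : Cfsg.IrrCharacter G → ℤ := fun ψ => (irrMult α ψ : ℤ) - (irrMult β ψ : ℤ) with hc
  have hexp : θ = ∑ ψ : Cfsg.IrrCharacter G, ((c ψ : ℤ) : ℂ) • (ψ : G → ℂ) := by
    rw [hθeq]
    conv_lhs => rw [isCharacter_eq_sum_irrMult hα, isCharacter_eq_sum_irrMult hβ]
    rw [← Finset.sum_sub_distrib]
    apply Finset.sum_congr rfl
    intro ψ _
    simp only [hc]
    push_cast
    rw [sub_smul]
  have hnorm : Cfsg.classInner θ θ = (((∑ ψ, c ψ ^ 2 : ℤ) : ℝ) : ℂ) := by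
    conv_lhs => rw [hexp]
    rw [classInner_sum_irr]
    push_cast
    apply Finset.sum_congr rfl
    intro ψ _
    rw [map_intCast]; ring
  have hθ1 : θ 1 = χ 1 := by
    simp only [hθdef, pRegPart, orderOf_one]
    rw [if_neg]
    exact hp.one_lt.ne' ∘ Nat.dvd_one.mp
  have hχ1 : χ 1 ≠ 0 := by
    obtain ⟨m, hm, hm1⟩ := irr_one_pos ⟨χ, hχirr⟩
    change χ 1 = (m : ℂ) at hm1
    rw [hm1]
    have : m ≠ 0 := hm.ne'
    exact_mod_cast this
  have hKpos : 1 ≤ ∑ ψ, c ψ ^ 2 := by
    by_contra hlt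
    have hnn : ∀ ψ ∈ Finset.univ, 0 ≤ c ψ ^ 2 := fun ψ _ => sq_nonneg _
    have h0 : ∑ ψ, c ψ ^ 2 = 0 := by
      have := Finset.sum_nonneg hnn
      omega
    have hall := (Finset.sum_eq_zero_iff_of_nonneg hnn).mp h0
    have hθ0 : θ = 0 := by
      rw [hexp]
      apply Finset.sum_eq_zero
      intro ψ hψ
      have : c ψ = 0 := pow_eq_zero_iff (two_ne_zero) |>.mp (hall ψ hψ)
      rw [this]; simp
    rw [hθ0] at hθ1
    exact hχ1 hθ1.symm
  have hNθ := sum_normSq_of_classInner hnorm
  have hχχ : Cfsg.classInner χ χ = ((1 : ℝ) : ℂ) := by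
    rw [classInner_irr_self hχirr]; simp
  have hNχ := sum_normSq_of_classInner hχχ
  have hle : ∀ y : G, Complex.normSq (θ y) ≤ Complex.normSq (χ y) := by
    intro y
    simp only [hθdef, pRegPart]
    split_ifs
    · simp [Complex.normSq_nonneg]
    · exact le_refl _
  have hθx : θ x = 0 := by
    simp only [hθdef, pRegPart]
    rw [if_pos hx]
  have hdiff : ∑ y : G, (Complex.normSq (χ y) - Complex.normSq (θ y)) ≤ 0 := by
    rw [Finset.sum_sub_distrib, hNχ, hNθ]
    have hg : (0 : ℝ) ≤ (Fintype.card G : ℝ) := Nat.cast_nonneg _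
    have hK : (1 : ℝ) ≤ ((∑ ψ, c ψ ^ 2 : ℤ) : ℝ) := by exact_mod_cast hKpos
    nlinarith
  have hterm : Complex.normSq (χ x) - Complex.normSq (θ x) ≤
      ∑ y : G, (Complex.normSq (χ y) - Complex.normSq (θ y)) :=
    Finset.single_le_sum (f := fun y => Complex.normSq (χ y) - Complex.normSq (θ y))
      (fun y _ => sub_nonneg.mpr (hle y)) (Finset.mem_univ x)
  rw [hθx, Complex.normSq_zero, sub_zero] at hterm
  have h0 : Complex.normSq (χ x) = 0 :=
    le_antisymm (le_trans hterm hdiff) (Complex.normSq_nonneg _)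
  exact Complex.normSq_eq_zero.mp h0

end DefectZero

end Cfsg.Agent.Helper3
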