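import Mathlib
import Cfsg.Prelude.Def_Characters
import Cfsg.Agent.Lib.Helper3.CharDefectZero

set_option autoImplicit false
set_option linter.unusedSectionVars false
set_option linter.style.haveILetI false

namespace Cfsg.Agent.Helper3

open Module Representation

section PReg

open scoped ComplexConjugate

universe u
variable {G : Type u} [Group G] [Fintype G]

/-- inner products of the `p`-regular truncation on a subgroup `E` whose `p`-regular elements
form a subgroup `S` of `p`-power index -/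
theorem pRegPart_inner (p : ℕ) (χ : G → ℂ) (E S : Subgroup G) [Fintype E] [Fintype S]
    (hSE : S ≤ E) (k : ℕ) (hp : p.Prime)
    (h1 : ∀ y ∈ E, (¬ p ∣ orderOf y ↔ y ∈ S))
    (h2 : Nat.card E = p ^ k * Nat.card S) (ψ : E → ℂ) :
    ((p : ℂ) ^ k) * Cfsg.classInner (fun e : E => pRegPart p χ e) ψ =
      Cfsg.classInner (fun s : S => χ s) (resSub hSE ψ) := by
  classical
  set θE : E → ℂ := fun e : E => pRegPart p χ e with hθE
  have hsum : ∑ e : E, θE e * conj (ψ e) = ∑ s : S, χ s * conj (resSub hSE ψ s) := by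
    symm
    apply Fintype.sum_of_injective (fun s : S => (⟨(s : G), hSE s.2⟩ : E))
    · intro a b hab
      apply Subtype.ext
      simpa using congrArg (fun e : E => (e : G)) hab
    · intro e he
      have heS : (e : G) ∉ S := fun h => he ⟨⟨e, h⟩, rfl⟩
      have : p ∣ orderOf (e : G) := by
        by_contra hnd
        exact heS ((h1 e e.2).mp hnd)
      have h0 : θE e = 0 := by
        simp only [hθE, pRegPart]
        rw [if_pos this]
      rw [h0, zero_mul]
    · intro s
      have : ¬ p ∣ orderOf (s : G) := (h1 s (hSE s.2)).mpr s.2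
      have h0 : θE ⟨(s : G), hSE s.2⟩ = χ s := by
        simp only [hθE, pRegPart]
        rw [if_neg this]
      rw [h0]
      rfl
  have hS0 : (Nat.card S : ℂ) ≠ 0 := by
    have : Nat.card S ≠ 0 := Nat.card_pos.ne'
    exact_mod_cast this
  have hpk0 : ((p : ℂ) ^ k) ≠ 0 := by
    have : p ≠ 0 := hp.ne_zero
    exact pow_ne_zero _ (by exact_mod_cast this)
  have hcardE : (Nat.card E : ℂ) = (p : ℂ) ^ k * (Nat.card S : ℂ) := by
    rw [h2]; push_cast; ring
  unfold Cfsg.classInner
  rw [hsum, hcardE, mul_inv, ← mul_assoc, ← mul_assoc, mul_inv_cancel₀ hpk0, one_mul]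

/-- `p^a` times the `p`-regular truncation of a character is a generalized character on every
elementary subgroup -/
theorem scaled_pRegPart_restrict_isGenChar (p a : ℕ) (hp : p.Prime)
    (ha : ∀ j : ℕ, p ^ j ∣ Nat.card G → j ≤ a) {χ : G → ℂ} (hχ : Cfsg.IsCharacter G χ)
    (E : Subgroup G) (r : ℕ) (hr : r.Prime) (hE : Cfsg.IsElementary r E) :
    Cfsg.IsGeneralizedCharacter E
      (fun e : E => ((p ^ a : ℕ) : ℂ) * pRegPart p χ e) := by
  classical
  haveI : Fintype E := Fintype.ofFinite _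
  have hstruct : ∃ (S : Subgroup G) (k : ℕ), S ≤ E ∧ (∀ y ∈ E, (¬ p ∣ orderOf y ↔ y ∈ S)) ∧
      Nat.card E = p ^ k * Nat.card S := by
    by_cases hrp : r = p
    · subst hrp
      obtain ⟨S, k, hSE, h1, h2, _, _⟩ := exists_pRegular_subgroup_same E hr hE
      exact ⟨S, k, hSE, h1, h2⟩
    · obtain ⟨S, k, hSE, h1, h2, _, _⟩ := exists_pRegular_subgroup_other E hp hr hrp hE
      exact ⟨S, k, hSE, h1, h2⟩
  obtain ⟨S, k, hSE, h1, h2⟩ := hstruct
  haveI : Fintype S := Fintype.ofFinite _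
  have hka : k ≤ a := by
    apply ha
    have h3 : p ^ k ∣ Nat.card E := Dvd.intro _ h2.symm
    exact dvd_trans h3 (Subgroup.card_subgroup_dvd_card E)
  have hχcf := isClassFunction_of_isCharacter hχ
  set θE : E → ℂ := fun e : E => pRegPart p χ e with hθE
  have hθcf : Cfsg.IsClassFunction E θE := by
    intro x y
    exact isClassFunction_pRegPart p hχcf (x : G) (y : G)
  have hpk0 : ((p : ℂ) ^ k) ≠ 0 := by
    have : p ≠ 0 := hp.ne_zero
    exact pow_ne_zero _ (by exact_mod_cast this)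
  have hcoef : ∀ ψ : Cfsg.IrrCharacter E, ∃ m : ℕ,
      ((p ^ a : ℕ) : ℂ) * Cfsg.classInner θE (ψ : E → ℂ) = (m : ℂ) := by
    intro ψ
    have hψc : Cfsg.IsCharacter E (ψ : E → ℂ) := isCharacter_of_isIrrCharacter ψ.2
    obtain ⟨m, hm⟩ := classInner_isCharacter_nat
      (isCharacter_restrict S hχ) (isCharacter_resSub hSE hψc)
    have hkey := pRegPart_inner p χ E S hSE k hp h1 h2 (ψ : E → ℂ)
    rw [hm] at hkey
    refine ⟨p ^ (a - k) * m, ?_⟩
    have hpa : ((p ^ a : ℕ) : ℂ) = (p : ℂ) ^ (a - k) * (p : ℂ) ^ k := by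
      rw [← pow_add, Nat.sub_add_cancel hka]; push_cast; rfl
    rw [hpa, mul_assoc, hkey]
    push_cast; rfl
  choose mψ hmψ using hcoef
  have hexp := classFunction_eq_sum θE hθcf
  have h4 : (fun e : E => ((p ^ a : ℕ) : ℂ) * pRegPart p χ e) =
      ∑ ψ : Cfsg.IrrCharacter E, ((mψ ψ : ℕ) : ℂ) • (ψ : E → ℂ) := by
    have : (fun e : E => ((p ^ a : ℕ) : ℂ) * pRegPart p χ e) = ((p ^ a : ℕ) : ℂ) • θE := by
      funext e; simp [hθE]
    rw [this]
    conv_lhs => rw [hexp]
    rw [Finset.smul_sum]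
    apply Finset.sum_congr rfl
    intro ψ _
    rw [smul_smul, hmψ ψ]
  rw [h4]
  apply isGenChar_sum
  intro ψ _
  have := isGenChar_intCast_smul (isGenChar_of_char (isCharacter_of_isIrrCharacter ψ.2))
    ((mψ ψ : ℕ) : ℤ)
  simpa using this

theorem scaled_pRegPart_isGenChar_of_local
    (hlocal : ∀ p : ℕ, p.Prime → ∃ (m : ℤ) (l : List ((E : Subgroup G) × ((E → ℂ) × ℤ))),
      ¬ (p : ℤ) ∣ m ∧ (∀ t ∈ l, Cfsg.IsElementary p t.1 ∧ Cfsg.IsCharacter t.1 t.2.1) ∧
      (fun _ : G => (m : ℂ)) = (l.map fun t => (t.2.2 : ℂ) • Cfsg.indFun t.1 t.2.1).sum)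
    (p : ℕ) (hp : p.Prime) {χ : G → ℂ} (hχ : Cfsg.IsCharacter G χ) :
    Cfsg.IsGeneralizedCharacter G (fun x : G => if p ∣ orderOf x then 0 else
      ((p ^ (Nat.card G).factorization p : ℕ) : ℂ) * χ x) := by
  classical
  set a := (Nat.card G).factorization p with ha_def
  have ha : ∀ j : ℕ, p ^ j ∣ Nat.card G → j ≤ a := fun j hj =>
    (hp.pow_dvd_iff_le_factorization (Nat.card_pos.ne')).mp hj
  have heq : (fun x : G => if p ∣ orderOf x then 0 else ((p ^ a : ℕ) : ℂ) * χ x) =
      fun x : G => ((p ^ a : ℕ) : ℂ) * pRegPart p χ x := by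
    funext x
    simp only [pRegPart]
    split_ifs <;> simp
  rw [heq]
  apply brauer_characterization_of_local hlocal
  · have h1 := isClassFunction_pRegPart p (isClassFunction_of_isCharacter hχ)
    intro x y
    simp only [h1 x y]
  · intro E r hr hE
    exact scaled_pRegPart_restrict_isGenChar p a hp ha hχ E r hr hE

end PReg

end Cfsg.Agent.Helper3
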