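import Mathlib
import Cfsg.Prelude.Def_Characters
import Cfsg.Agent.Lib.Helper15.BrauerSuzuki
import Cfsg.Agent.Lib.Helper15.Central
import Cfsg.Agent.Lib.Helper82.GenChar
import Cfsg.Agent.Lib.Helper82.TIFrobCoh
import Cfsg.Agent.Lib.Helper81.CharCore
import Cfsg.Agent.Lib.Helper81.CharCorr
import Cfsg.Agent.S0164

set_option autoImplicit false
set_option linter.unusedSectionVars false
set_option linter.style.haveILetI false

/-!
# Twisting a generalized character by a central involution on the `2`-part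

`twoPartTwist_isGenChar`: `z` a central involution of `H`, `θ` a generalized character of `H`
with `θ (z * c) = θ c`, vanishing unless the `2`-part of `c` is `1` or `z`.  Then
`c ↦ if (2-part of c) = z then 2 * θ c else 0` is a generalized character.
-/

namespace Cfsg.Agent.Helper3

open Cfsg
open scoped ComplexConjugate

section TwoPartTwist

universe u

theorem tpt_pow_odd {H : Type*} [Group H] {z : H} (hz2 : orderOf z = 2) (m : ℕ) (hm : Odd m) :
    z ^ m = z := by
  have hzz : z ^ 2 = 1 := by rw [← hz2]; exact pow_orderOf_eq_one z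
  obtain ⟨t, rfl⟩ := hm
  rw [pow_succ, pow_mul, hzz, one_pow, one_mul]

theorem tpt_inv_eq {H : Type*} [Group H] {z : H} (hz2 : orderOf z = 2) : z⁻¹ = z := by
  have hzz : z ^ 2 = 1 := by rw [← hz2]; exact pow_orderOf_eq_one z
  rw [inv_eq_iff_mul_eq_one, ← sq, hzz]

/-- For an involution `z` commuting with `c`: `z * c` has odd order iff some odd power of `c`
is `z` (i.e. the `2`-part of `c` is `z`). -/
theorem odd_orderOf_mul_iff {H : Type*} [Group H] {z c : H} (hzc : Commute z c)
    (hz2 : orderOf z = 2) : Odd (orderOf (z * c)) ↔ ∃ m, Odd m ∧ c ^ m = z := by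
  have hzz : z ^ 2 = 1 := by rw [← hz2]; exact pow_orderOf_eq_one z
  constructor
  · intro h
    refine ⟨orderOf (z * c), h, ?_⟩
    have h1 := pow_orderOf_eq_one (z * c)
    rw [hzc.mul_pow, tpt_pow_odd hz2 _ h] at h1
    rw [eq_inv_of_mul_eq_one_right h1, tpt_inv_eq hz2]
  · rintro ⟨m, hm, hcm⟩
    have h1 : (z * c) ^ m = 1 := by
      rw [hzc.mul_pow, tpt_pow_odd hz2 m hm, hcm, ← sq, hzz]
    exact Odd.of_dvd_nat hm (orderOf_dvd_of_pow_eq_one h1)

/-- `c` and `z * c` cannot both have odd order. -/
theorem tpt_not_both_odd {H : Type*} [Group H] {z c : H} (hzc : Commute z c)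
    (hz2 : orderOf z = 2) (h1 : Odd (orderOf c)) (h2 : Odd (orderOf (z * c))) : False := by
  have h3 : z ^ (orderOf c * orderOf (z * c)) = 1 := by
    have h4 : (z * c) ^ (orderOf c * orderOf (z * c)) = 1 := by
      rw [mul_comm, pow_mul, pow_orderOf_eq_one, one_pow]
    rw [hzc.mul_pow] at h4
    have h5 : c ^ (orderOf c * orderOf (z * c)) = 1 := by
      rw [pow_mul, pow_orderOf_eq_one, one_pow]
    rw [h5, mul_one] at h4
    exact h4
  have h6 : 2 ∣ orderOf c * orderOf (z * c) := by
    rw [← hz2]; exact orderOf_dvd_of_pow_eq_one h3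
  have h7 : Odd (orderOf c * orderOf (z * c)) := h1.mul h2
  rw [← Nat.not_even_iff_odd] at h7
  exact h7 (even_iff_two_dvd.2 h6)

/-- The local statement: on an elementary subgroup the twisted function is a generalized
character. -/
theorem tpt_local {H : Type u} [Group H] [Fintype H] (z : H)
    (hzc : z ∈ Subgroup.center H) (hz2 : orderOf z = 2) (θ : H → ℂ)
    (hθ : IsGeneralizedCharacter H θ) (hθz : ∀ c, θ (z * c) = θ c)
    (hsupp : ∀ c, ¬ Odd (orderOf c) → ¬ Odd (orderOf (z * c)) → θ c = 0)
    (E : Subgroup H) (p : ℕ) (hp : p.Prime) (hE : IsElementary p E) :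
    IsGeneralizedCharacter E
      (fun e : E => if Odd (orderOf (z * (e : H))) then 2 * θ e else 0) := by
  classical
  haveI : Fintype E := Fintype.ofFinite E
  have hcomm : ∀ c : H, Commute z c := fun c => (Subgroup.mem_center_iff.1 hzc c).symm
  have hzz : z * z = 1 := by
    have : z ^ 2 = 1 := by rw [← hz2]; exact pow_orderOf_eq_one z
    rwa [sq] at this
  set Ψ : E → ℂ := fun e : E => if Odd (orderOf (z * (e : H))) then 2 * θ e else 0 with hΨ
  have hθcf := Cfsg.Agent.Helper82.isClassFunction_of_isGeneralizedCharacter hθ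
  by_cases hzE : z ∈ E
  swap
  · have h0 : Ψ = 0 := by
      funext e
      simp only [hΨ, Pi.zero_apply]
      rw [if_neg]
      intro hodd
      obtain ⟨m, hm, hcm⟩ := (odd_orderOf_mul_iff (hcomm e) hz2).1 hodd
      exact hzE (hcm ▸ E.pow_mem e.2 m)
    rw [h0]
    exact isGenChar_zero
  set zE : E := ⟨z, hzE⟩ with hzEdef
  have hzEc : zE ∈ Subgroup.center E := by
    rw [Subgroup.mem_center_iff]
    intro e
    apply Subtype.ext
    exact Subgroup.mem_center_iff.1 hzc e
  have hzE2 : orderOf zE = 2 := by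
    rw [← hz2, ← Subgroup.orderOf_coe zE]
  -- arithmetic of the exponent
  have hn0 : Nat.card E ≠ 0 := Nat.card_pos.ne'
  obtain ⟨j, m, hm, hn⟩ := Nat.exists_eq_two_pow_mul_odd hn0
  have hcop : Nat.Coprime m (2 ^ j) :=
    Nat.Coprime.pow_right j (Nat.coprime_two_right.2 hm)
  have h2n : 2 ∣ Nat.card E := by rw [← hzE2]; exact orderOf_dvd_natCard zE
  have hj : 1 ≤ j := by
    by_contra hj0
    have hj00 : j = 0 := by omega
    subst hj00
    rw [pow_zero, one_mul] at hn
    rw [hn] at h2n
    exact (Nat.not_even_iff_odd.2 hm) (even_iff_two_dvd.2 h2n)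
  obtain ⟨k, hk1, hk0'⟩ := Nat.chineseRemainder hcop 1 0
  obtain ⟨k', hk'0', hk'1⟩ := Nat.chineseRemainder hcop 0 1
  have hk0 : 2 ^ j ∣ k := (Nat.modEq_zero_iff_dvd).1 hk0'
  have hk'0 : m ∣ k' := (Nat.modEq_zero_iff_dvd).1 hk'0'
  have hkk' : k + k' ≡ 1 [MOD m * 2 ^ j] := by
    rw [← Nat.modEq_and_modEq_iff_modEq_mul hcop]
    constructor
    · have := hk1.add hk'0'
      simpa using this
    · have := hk0'.add hk'1
      simpa using this
  have hmulpow := Cfsg.Agent.Helper15.mul_pow_of_isElementary hp hE hcop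
    (by rw [hn, mul_comm]) hk0 hk'0 hkk'
  let π : E →* E :=
    { toFun := fun e => e ^ k
      map_one' := one_pow _
      map_mul' := hmulpow }
  have hπodd : ∀ s : E, Odd (orderOf (s : H)) → π s = s := by
    intro s hs
    have h1 : orderOf s = orderOf (s : H) := (Subgroup.orderOf_coe s).symm
    have h2 : orderOf s ∣ m := by
      have h3 : orderOf s ∣ 2 ^ j * m := by rw [← hn]; exact orderOf_dvd_natCard s
      have h4 : Nat.Coprime (orderOf s) (2 ^ j) := by
        rw [h1]
        exact Nat.Coprime.pow_right j (Nat.coprime_two_right.2 hs)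
      exact h4.dvd_of_dvd_mul_left h3
    change s ^ k = s
    conv_rhs => rw [← pow_one s]
    exact pow_eq_pow_iff_modEq.2 (hk1.of_dvd h2)
  have hπz : π zE = 1 := by
    change zE ^ k = 1
    have h2k : 2 ∣ k := (dvd_pow_self 2 (by omega)).trans hk0
    rw [← hzE2] at h2k
    exact orderOf_dvd_iff_pow_eq_one.1 h2k
  have hθE := Cfsg.Agent.Helper82.isGeneralizedCharacter_restrict E hθ
  -- the coefficients
  have hcoef : ∀ η : IrrCharacter E, ∃ t : ℤ, classInner Ψ (η : E → ℂ) = (t : ℂ) := by
    intro η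
    obtain ⟨c, hc, hck⟩ := Cfsg.Agent.Helper15.irr_central_scalar η zE hzEc
    have hc2 : c ^ 2 = 1 := hck 2 (by rw [← hzE2]; exact pow_orderOf_eq_one zE)
    have hc1 : c = 1 ∨ c = -1 := sq_eq_one_iff.1 hc2
    set A : ℂ := ∑ s : E, (if Odd (orderOf (s : H)) then θ s * conj ((η : E → ℂ) s) else 0)
      with hA
    have hηπ : IsCharacter E (fun e => (η : E → ℂ) (π e)) :=
      Cfsg.Agent.Helper81.isCharacter_comp_hom π (isCharacter_of_isIrrCharacter η.2)
    obtain ⟨t, ht⟩ := Cfsg.Agent.Helper82.genChar_inner_int hθE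
      (Cfsg.Agent.Helper82.isGeneralizedCharacter_of_isCharacter hηπ)
    have hzmul : ∀ s : E, ((zE * s : E) : H) = z * (s : H) := fun s => rfl
    have hηz : ∀ s : E, (η : E → ℂ) (zE * s) = c * (η : E → ℂ) s := by
      intro s
      rw [← hc s, Subgroup.mem_center_iff.1 hzEc s]
    have hsum1 : ∑ e : E, Ψ e * conj ((η : E → ℂ) e) = 2 * conj c * A := by
      rw [← Fintype.sum_equiv (Equiv.mulLeft zE)
        (fun s => Ψ (zE * s) * conj ((η : E → ℂ) (zE * s)))
        (fun e => Ψ e * conj ((η : E → ℂ) e)) (fun s => rfl)]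
      rw [hA, Finset.mul_sum]
      apply Finset.sum_congr rfl
      intro s _
      have h1 : z * ((zE * s : E) : H) = (s : H) := by
        rw [hzmul, ← mul_assoc, hzz, one_mul]
      simp only [hΨ]
      rw [h1, hzmul, hθz, hηz, map_mul]
      by_cases hs : Odd (orderOf (s : H))
      · rw [if_pos hs, if_pos hs]; ring
      · rw [if_neg hs, if_neg hs]; ring
    have hsum2 : ∑ e : E, θ e * conj ((η : E → ℂ) (π e)) = 2 * A := by
      have hsplit : ∀ e : E, θ e * conj ((η : E → ℂ) (π e)) =
          (if Odd (orderOf (e : H)) then θ e * conj ((η : E → ℂ) e) else 0) +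
          (if Odd (orderOf (z * (e : H))) then θ e * conj ((η : E → ℂ) (π e)) else 0) := by
        intro e
        by_cases h1 : Odd (orderOf (e : H))
        · have h2 : ¬ Odd (orderOf (z * (e : H))) := fun h2 =>
            tpt_not_both_odd (hcomm e) hz2 h1 h2
          rw [if_pos h1, if_neg h2, add_zero, hπodd e h1]
        · by_cases h2 : Odd (orderOf (z * (e : H)))
          · rw [if_neg h1, if_pos h2, zero_add]
          · rw [if_neg h1, if_neg h2, hsupp e h1 h2]; ring
      rw [Finset.sum_congr rfl (fun e _ => hsplit e), Finset.sum_add_distrib, ← hA]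
      have h3 : ∑ e : E, (if Odd (orderOf (z * (e : H))) then
          θ e * conj ((η : E → ℂ) (π e)) else 0) = A := by
        rw [← Fintype.sum_equiv (Equiv.mulLeft zE)
          (fun s => (if Odd (orderOf (z * ((zE * s : E) : H))) then
            θ ((zE * s : E) : H) * conj ((η : E → ℂ) (π (zE * s))) else 0))
          (fun e => (if Odd (orderOf (z * (e : H))) then
            θ e * conj ((η : E → ℂ) (π e)) else 0)) (fun s => rfl)]
        rw [hA]
        apply Finset.sum_congr rfl
        intro s _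
        have h1 : z * ((zE * s : E) : H) = (s : H) := by
          rw [hzmul, ← mul_assoc, hzz, one_mul]
        rw [h1, hzmul, hθz, map_mul, hπz, one_mul]
        by_cases hs : Odd (orderOf (s : H))
        · rw [if_pos hs, if_pos hs, hπodd s hs]
        · rw [if_neg hs, if_neg hs]
      rw [h3]; ring
    have hin1 : classInner Ψ (η : E → ℂ) = conj c * classInner (fun e : E => θ e)
        (fun e => (η : E → ℂ) (π e)) := by
      unfold classInner
      rw [hsum1, hsum2]; ring
    rw [hin1, ht]
    rcases hc1 with h | h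
    · refine ⟨t, ?_⟩
      rw [h, map_one, one_mul]
    · refine ⟨-t, ?_⟩
      rw [h, map_neg, map_one]; push_cast; ring
  choose tη htη using hcoef
  have hΨcf : IsClassFunction E Ψ := by
    intro g h
    have h1 : z * ((h * g * h⁻¹ : E) : H) = (h : H) * (z * (g : H)) * (h : H)⁻¹ := by
      have := (hcomm (h : H)).eq
      calc z * ((h * g * h⁻¹ : E) : H) = (z * (h : H)) * (g : H) * (h : H)⁻¹ := by
            simp [mul_assoc]
        _ = ((h : H) * z) * (g : H) * (h : H)⁻¹ := by rw [this]
        _ = (h : H) * (z * (g : H)) * (h : H)⁻¹ := by simp [mul_assoc]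
    have h2 : orderOf (z * ((h * g * h⁻¹ : E) : H)) = orderOf (z * (g : H)) := by
      rw [h1]
      exact (MulAut.conj (h : H)).orderOf_eq (z * (g : H))
    have h3 : θ ((h * g * h⁻¹ : E) : H) = θ (g : H) := hθcf (g : H) (h : H)
    simp only [hΨ]
    rw [h2, h3]
  have hexp := classFunction_eq_sum Ψ hΨcf
  have h4 : Ψ = ∑ η : IrrCharacter E, ((tη η : ℤ) : ℂ) • (η : E → ℂ) := by
    conv_lhs => rw [hexp]
    apply Finset.sum_congr rfl
    intro η _
    rw [htη η]
  rw [h4]
  apply isGenChar_sum
  intro η _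
  exact isGenChar_intCast_smul (isGenChar_of_char (isCharacter_of_isIrrCharacter η.2)) (tη η)

/-- **Lemma A.**  `z` a central involution of `H`, `θ` a generalized character of `H`, invariant
under multiplication by `z`, vanishing at every `c` such that neither `c` nor `z * c` has odd
order (i.e. unless the `2`-part of `c` is `1` or `z`).  Then the function which is `2 * θ c` if
`z * c` has odd order (i.e. if the `2`-part of `c` is `z`) and `0` otherwise is a generalized
character. -/
theorem twoPartTwist_isGenChar {H : Type u} [Group H] [Finite H] (z : H)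
    (hzc : z ∈ Subgroup.center H) (hz2 : orderOf z = 2) (θ : H → ℂ)
    (hθ : IsGeneralizedCharacter H θ) (hθz : ∀ c, θ (z * c) = θ c)
    (hsupp : ∀ c, ¬ Odd (orderOf c) → ¬ Odd (orderOf (z * c)) → θ c = 0)
    (S : H → Prop) [DecidablePred S] (hS : ∀ c, S c ↔ Odd (orderOf (z * c))) :
    IsGeneralizedCharacter H (fun c => if S c then 2 * θ c else 0) := by
  classical
  haveI : Fintype H := Fintype.ofFinite H
  have hcomm : ∀ c : H, Commute z c := fun c => (Subgroup.mem_center_iff.1 hzc c).symm
  have hθcf := Cfsg.Agent.Helper82.isClassFunction_of_isGeneralizedCharacter hθ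
  have hfun : (fun c => if S c then 2 * θ c else 0) =
      fun c : H => if Odd (orderOf (z * c)) then 2 * θ c else 0 := by
    funext c
    by_cases h : S c
    · rw [if_pos h, if_pos ((hS c).1 h)]
    · rw [if_neg h, if_neg (fun h' => h ((hS c).2 h'))]
  rw [hfun]
  apply Cfsg.Agent.S0164.result
  · intro g h
    have h1 : z * (h * g * h⁻¹) = h * (z * g) * h⁻¹ := by
      have := (hcomm h).eq
      calc z * (h * g * h⁻¹) = (z * h) * g * h⁻¹ := by simp [mul_assoc]
        _ = (h * z) * g * h⁻¹ := by rw [this]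
        _ = h * (z * g) * h⁻¹ := by simp [mul_assoc]
    have h2 : orderOf (z * (h * g * h⁻¹)) = orderOf (z * g) := by
      rw [h1]
      exact (MulAut.conj h).orderOf_eq (z * g)
    simp only []
    rw [h2, hθcf g h]
  · intro E p hp hE
    exact tpt_local z hzc hz2 θ hθ hθz hsupp E p hp hE

/-- Variant of Lemma A with the `2`-part condition phrased via odd powers:
`S c ↔ ∃ m, Odd m ∧ c ^ m = z`. -/
theorem twoPartTwist_isGenChar' {H : Type u} [Group H] [Finite H] (z : H)
    (hzc : z ∈ Subgroup.center H) (hz2 : orderOf z = 2) (θ : H → ℂ)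
    (hθ : IsGeneralizedCharacter H θ) (hθz : ∀ c, θ (z * c) = θ c)
    (hsupp : ∀ c, ¬ Odd (orderOf c) → (¬ ∃ m, Odd m ∧ c ^ m = z) → θ c = 0)
    (S : H → Prop) [DecidablePred S] (hS : ∀ c, S c ↔ ∃ m, Odd m ∧ c ^ m = z) :
    IsGeneralizedCharacter H (fun c => if S c then 2 * θ c else 0) := by
  have hcomm : ∀ c : H, Commute z c := fun c => (Subgroup.mem_center_iff.1 hzc c).symm
  apply twoPartTwist_isGenChar z hzc hz2 θ hθ hθz
  · intro c h1 h2
    exact hsupp c h1 (fun h => h2 ((odd_orderOf_mul_iff (hcomm c) hz2).2 h))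
  · intro c
    rw [hS c, odd_orderOf_mul_iff (hcomm c) hz2]

end TwoPartTwist

end Cfsg.Agent.Helper3
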