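import Mathlib
import Cfsg.Agent.Lib.Helper3.S4017DDefs
import Cfsg.Agent.Lib.Helper60.S4017DF3
import Cfsg.Agent.Lib.Helper69.S4017DL4
import Cfsg.Agent.Lib.Helper63.S4017DL5
import Cfsg.Agent.Lib.Helper12.S4017DL6
import Cfsg.Agent.Lib.Helper12.S4017DL7

/-!
# S4017, case D: the friendship-graph contradiction (assembly)

`CaseD G Q P t w → False`, assembled from the pieces of the S4017D lemma server
(`tools/s4017d_sigs_helper3.lean.txt`): F3 (helper60), L4 (helper69), L5 (helper63),
L6 and L7 (helper12).
-/

set_option autoImplicit false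

namespace Cfsg.Agent.Helper3.S4017

variable {G : Type*} [Group G] [Finite G] {Q P : Subgroup G} {t : G} {w : ℕ}

/-- Case D of S4017 is contradictory: the commuting graph on involutions is a regular
friendship graph of degree `2 * 3 ^ w ≥ 6`. -/
theorem CaseD.false (h : CaseD G Q P t w) : False := by
  have ht : orderOf t = 2 := by
    refine orderOf_eq_prime (by rw [sq]; exact h.elem t h.t_mem) h.t_ne
  refine Cfsg.Agent.Helper60.S4017D.friendship_false (2 * 3 ^ w) ?_ ⟨t, ht⟩
    (Cfsg.Agent.Helper69.S4017D.card_nbr h) (Cfsg.Agent.Helper63.S4017D.hcomm_of_caseD h)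
    (Cfsg.Agent.Helper12.S4017D.hord_of_caseD h) (Cfsg.Agent.Helper12.S4017D.hzeta_of_caseD h)
  have : 3 ^ 1 ≤ 3 ^ w := Nat.pow_le_pow_right (by norm_num) h.w_pos
  omega

/-- The same, in the name announced on the board. -/
theorem CaseD_false (h : CaseD G Q P t w) : False := h.false

end Cfsg.Agent.Helper3.S4017
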