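import Mathlib
import Cfsg.Agent.Lib.Helper55.O2520Defs

/-!
# O2520 / S3C sub-server (helper20): the piece (Q3), `|C(x)| ≤ 18`
-/

set_option autoImplicit false

namespace Cfsg.Agent.Helper3.O2520

open Cfsg.Agent.Helper55.O2520

universe u

/-- an element conjugating `x` to `x` or `x⁻¹` normalises `⟨x⟩` -/
theorem h3_mem_normalizer_zpowers {G : Type u} [Group G] (x g : G)
    (h : g * x * g⁻¹ = x ∨ g * x * g⁻¹ = x⁻¹) :
    g ∈ Subgroup.normalizer ((Subgroup.zpowers x : Subgroup G) : Set G) := by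
  have h' : g⁻¹ * x * g = x ∨ g⁻¹ * x * g = x⁻¹ := by
    rcases h with h | h
    · left
      calc g⁻¹ * x * g = g⁻¹ * (g * x * g⁻¹) * g := by rw [h]
        _ = x := by group
    · right
      have h2 : x = g⁻¹ * x⁻¹ * g := by
        calc x = g⁻¹ * (g * x * g⁻¹) * g := by group
          _ = g⁻¹ * x⁻¹ * g := by rw [h]
      calc g⁻¹ * x * g = (g⁻¹ * x⁻¹ * g)⁻¹ := by group
        _ = x⁻¹ := by rw [← h2]
  rw [Subgroup.mem_normalizer_iff]
  intro y
  constructor
  · intro hy
    obtain ⟨k, rfl⟩ := Subgroup.mem_zpowers_iff.1 hy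
    have e : g * x ^ k * g⁻¹ = (g * x * g⁻¹) ^ k := by
      rw [conj_zpow]
    rw [e]
    rcases h with h | h
    · rw [h]; exact Subgroup.zpow_mem _ (Subgroup.mem_zpowers x) k
    · rw [h]; exact Subgroup.zpow_mem _ (Subgroup.inv_mem _ (Subgroup.mem_zpowers x)) k
  · intro hy
    obtain ⟨k, hk⟩ := Subgroup.mem_zpowers_iff.1 hy
    have e : y = (g⁻¹ * x * g) ^ k := by
      have e1 : (g⁻¹ * x * g) ^ k = g⁻¹ * x ^ k * g := by
        have := conj_zpow (a := g⁻¹) (b := x) (i := k)
        rw [inv_inv] at this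
        exact this
      rw [e1, hk]
      group
    rw [e]
    rcases h' with h | h
    · rw [h]; exact Subgroup.zpow_mem _ (Subgroup.mem_zpowers x) k
    · rw [h]; exact Subgroup.zpow_mem _ (Subgroup.inv_mem _ (Subgroup.mem_zpowers x)) k

theorem s3c_card_centralizer_le {G : Type u} [Group G] [Finite G] [IsSimpleGroup G]
    (hG : Nat.card G = 2520) (P : Subgroup G)
    (hN : Nat.card (Subgroup.normalizer (P : Set G)) = 36)
    (hovg : ∀ K : Subgroup G, Subgroup.normalizer (P : Set G) < K → K ≠ ⊤ → Nat.card K = 360)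
    (hD : ¬ Done G) (x b : G) (hx1 : x ≠ 1) (hx3 : x ^ 3 = 1)
    (hb : b ∈ Subgroup.normalizer (P : Set G)) (hbx : b * x * b⁻¹ = x⁻¹)
    (hnorm : ∀ g ∈ Subgroup.normalizer (P : Set G), g * x * g⁻¹ = x ∨ g * x * g⁻¹ = x⁻¹) :
    Nat.card (Subgroup.centralizer ({x} : Set G)) ≤ 18 := by
  set K : Subgroup G := Subgroup.normalizer ((Subgroup.zpowers x : Subgroup G) : Set G) with hK
  have hNK : Subgroup.normalizer (P : Set G) ≤ K := fun g hg =>
    h3_mem_normalizer_zpowers x g (hnorm g hg)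
  -- K ≠ ⊤
  have hKtop : K ≠ ⊤ := by
    intro htop
    have hnor : (Subgroup.zpowers x).Normal := Subgroup.normalizer_eq_top_iff.1 htop
    rcases hnor.eq_bot_or_eq_top with h | h
    · exact hx1 (Subgroup.zpowers_eq_bot.1 h)
    · have hc : Nat.card (Subgroup.zpowers x) = Nat.card G := by
        rw [h, Subgroup.card_top]
      rw [Nat.card_zpowers, hG] at hc
      have : orderOf x ∣ 3 := orderOf_dvd_of_pow_eq_one hx3
      have : orderOf x ≤ 3 := Nat.le_of_dvd (by norm_num) this
      omega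
  -- K = N(P)
  have hKeq : Subgroup.normalizer (P : Set G) = K := by
    by_contra hne
    exact hD ⟨K, hovg K (lt_of_le_of_ne hNK hne) hKtop⟩
  -- C(x) ≤ K
  have hCK : Subgroup.centralizer ({x} : Set G) ≤ Subgroup.normalizer (P : Set G) := by
    rw [hKeq]
    intro c hc
    apply h3_mem_normalizer_zpowers
    left
    have : x * c = c * x := (Subgroup.mem_centralizer_iff.1 hc) x (Set.mem_singleton x)
    calc c * x * c⁻¹ = x * c * c⁻¹ := by rw [this]
      _ = x := by group
  -- b ∉ C(x)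
  have hbC : b ∉ Subgroup.centralizer ({x} : Set G) := by
    intro hc
    have h1 : x * b = b * x := (Subgroup.mem_centralizer_iff.1 hc) x (Set.mem_singleton x)
    have h2 : b * x * b⁻¹ = x := by
      calc b * x * b⁻¹ = x * b * b⁻¹ := by rw [h1]
        _ = x := by group
    rw [hbx] at h2
    -- x⁻¹ = x, x^3 = 1 → x = 1
    apply hx1
    have h3 : x * x = 1 := by
      calc x * x = x⁻¹ * x := by rw [h2]
        _ = 1 := by group
    calc x = x ^ 3 * (x * x)⁻¹ := by group
      _ = 1 := by rw [hx3, h3]; group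
  have hdvd : Nat.card (Subgroup.centralizer ({x} : Set G)) ∣ 36 := by
    rw [← hN]
    exact Subgroup.card_dvd_of_le hCK
  have hne : Nat.card (Subgroup.centralizer ({x} : Set G)) ≠ 36 := by
    intro h36
    have : Subgroup.centralizer ({x} : Set G) = Subgroup.normalizer (P : Set G) :=
      Subgroup.eq_of_le_of_card_ge hCK (by rw [hN, h36])
    exact hbC (this ▸ hb)
  obtain ⟨k, hk⟩ := hdvd
  have hk2 : k ≠ 0 := by rintro rfl; omega
  have hk1 : k ≠ 1 := by rintro rfl; omega
  nlinarith [Nat.two_le_iff k |>.2 ⟨hk2, hk1⟩]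

end Cfsg.Agent.Helper3.O2520
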