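import Mathlib
import Cfsg.Agent.Lib.Helper62.SUO0

/-!
# SUO server (helper62, S2282): the piece (M1) `MM_of_S`
-/

set_option autoImplicit false
set_option linter.unusedSectionVars false
set_option linter.unusedVariables false
set_option quotPrecheck false

namespace Cfsg.Agent.Helper3.SUO

open Matrix Cfsg Cfsg.Agent.Helper13 Cfsg.Agent.Helper87.PsuA Cfsg.Agent.Helper62.SUO

section M
variable {F : Type*} [Field F] [Fintype F] {q n : ℕ} (hF : Fintype.card F = q ^ 2)
  {Hs : Subgroup ↥(Cfsg.SU n F q)} {u l : ↥(Cfsg.SU n F q)} {e0 e1 p : Fin n → F} {c γ : F}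

local notation "V" => Fin n → F
local notation "G" => ↥(Cfsg.SU n F q)
local notation "H" => Cfsg.hermForm n F q

include hF

/-- (M1) if `eich e0 (a•e1) α ∈ Hs` then `(u E u⁻¹) * E⁻¹ = eich e0 (a • e0) 0 = eich e0 0 (a - a^q)`
(`eich_conj`, `eich_inv`, `eich_mul`, `hyp.ue0`, `hyp.ue1`; compare actions with `eich_act`, `G_ext`) -/
theorem MM_of_S (hyp : Hyp hF Hs u l e0 e1 p c γ) {a : F} (ha : a • e1 ∈ QQ hF Hs e0) :
    a - a ^ q ∈ MM hF Hs e0 := by
  obtain ⟨h0w, α, hα, hE⟩ := ha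
  have h00 := hyp.e0e0
  refine ⟨?_, ?_⟩
  · rw [frob_sub hF, frob_frob hF]
    ring
  · -- the conjugate
    have hconj : u * eich hF e0 (a • e1) α * u⁻¹ = eich hF e0 (a • e1 + a • e0) α := by
      rw [eich_conj hF h00 h0w hα, hyp.ue0, actv_smul, hyp.ue1, smul_add]
    have hadd : eich hF e0 (a • e1 + a • e0) α = eich hF e0 (a • e1) (α + a - a ^ q) :=
      eich_add_smul hF h00 h0w hα
    have hα' : (α + a - a ^ q) + (α + a - a ^ q) ^ q + H (a • e1) (a • e1) = 0 := by
      rw [frob_sub hF, frob_add hF, frob_frob hF]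
      linear_combination hα
    have hinv : (eich hF e0 (a • e1) α)⁻¹ = eich hF e0 (-(a • e1)) (α ^ q) :=
      eich_inv hF h00 h0w hα
    have h2 : H e0 (-(a • e1)) = 0 := by rw [H_neg_right hF, h0w, neg_zero]
    have h3 : α ^ q + (α ^ q) ^ q + H (-(a • e1)) (-(a • e1)) = 0 := by
      rw [frob_frob hF, H_neg_left hF, H_neg_right hF]
      linear_combination hα
    have hprod : u * eich hF e0 (a • e1) α * u⁻¹ * (eich hF e0 (a • e1) α)⁻¹ =
        eich hF e0 0 (a - a ^ q) := by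
      rw [hconj, hadd, hinv, eich_mul hF h00 h0w hα' h2 h3]
      have e1' : a • e1 + -(a • e1) = 0 := add_neg_cancel _
      have e2 : α + a - a ^ q + α ^ q - H (-(a • e1)) (a • e1) = a - a ^ q := by
        rw [H_neg_left hF]
        linear_combination hα
      rw [e1', e2]
    rw [← hprod]
    exact Hs.mul_mem (Hs.mul_mem (Hs.mul_mem hyp.hu hE) (Hs.inv_mem hyp.hu)) (Hs.inv_mem hE)

end M

end Cfsg.Agent.Helper3.SUO
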