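import Mathlib

/-!
# Abelian-group lemmas used for Bender–Glauberman §15 (structure of `U`)
-/

set_option autoImplicit false

namespace Cfsg.Agent.H3BG15

open Subgroup

variable {G : Type*} [Group G]

/-- In a cyclic `r`-group `⟨u⟩` of order `r ^ v`, the element `u ^ r ^ (v - 1)` lies in every
nontrivial subgroup. -/
theorem bottom_mem_zpowers {r v : ℕ} (hr : r.Prime) (hv : 1 ≤ v) {u w : G} (hu : orderOf u = r ^ v)
    (hw : w ∈ zpowers u) (hw1 : w ≠ 1) : u ^ r ^ (v - 1) ∈ zpowers w := by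
  have hfin : IsOfFinOrder u := orderOf_pos_iff.mp (by rw [hu]; exact pow_pos hr.pos _)
  obtain ⟨k, rfl⟩ := (Submonoid.mem_powers_iff _ _).mp (hfin.mem_powers_iff_mem_zpowers.mpr hw)
  have hk : k ≠ 0 := by
    rintro rfl
    exact hw1 (pow_zero u)
  obtain ⟨a, m, hm, hkeq⟩ := Nat.exists_eq_pow_mul_and_not_dvd hk r hr.ne_one
  have hav : a < v := by
    by_contra hcon
    push Not at hcon
    apply hw1
    rw [← orderOf_dvd_iff_pow_eq_one, hu, hkeq]
    exact Dvd.dvd.mul_right (pow_dvd_pow r hcon) m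
  have hy : orderOf (u ^ r ^ a) = r ^ (v - a) := by
    rw [orderOf_pow_of_dvd (pow_ne_zero _ hr.ne_zero) (by rw [hu]; exact pow_dvd_pow r hav.le), hu,
      Nat.pow_div hav.le hr.pos]
  have hcop : m.Coprime (orderOf (u ^ r ^ a)) := by
    rw [hy]
    exact (((Nat.Prime.coprime_iff_not_dvd hr).mpr hm).symm).pow_right _
  obtain ⟨m', hm'⟩ := exists_pow_eq_self_of_coprime hcop
  have hyw : u ^ r ^ a ∈ zpowers (u ^ k) := by
    rw [← hm', hkeq, pow_mul]
    exact pow_mem (mem_zpowers _) m'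
  have : u ^ r ^ (v - 1) = (u ^ r ^ a) ^ r ^ (v - 1 - a) := by
    rw [← pow_mul, ← pow_add]
    congr 2
    omega
  rw [this]
  exact pow_mem hyw _

/-- The key dichotomy in a finite abelian group whose `Ω₁` of the `r`-part has order `r²`. -/
theorem abelian_key {A : Type*} [CommGroup A] [Finite A] {r v : ℕ} (hr : r.Prime) (hv : 1 ≤ v)
    (u₁ : A) (hu₁ : orderOf u₁ = r ^ v)
    (hΩ : Nat.card (powMonoidHom r : A →* A).ker = r ^ 2) :
    (∀ a : A, a ^ r = 1 → a ≠ 1 → ∃ u : A, orderOf u = r ^ v ∧ u ^ r ^ (v - 1) = a) ∨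
    (∀ x : A, x ^ r ^ v = 1 → x ^ r ^ (v - 1) ∈ zpowers (u₁ ^ r ^ (v - 1))) := by
  obtain ⟨n, rfl⟩ : ∃ n, v = n + 1 := ⟨v - 1, by omega⟩
  simp only [Nat.add_sub_cancel]
  haveI := Fact.mk hr
  by_cases hb : ∀ x : A, x ^ r ^ (n + 1) = 1 → x ^ r ^ n ∈ zpowers (u₁ ^ r ^ n)
  · exact Or.inr hb
  · left
    push Not at hb
    obtain ⟨x₀, hx₀, hw⟩ := hb
    intro a ha ha1
    set z := u₁ ^ r ^ n with hz
    set w := x₀ ^ r ^ n with hwdef
    set Ω := (powMonoidHom r : A →* A).ker with hΩdef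
    have hzΩ : z ∈ Ω := by
      rw [hΩdef, MonoidHom.mem_ker, powMonoidHom_apply, hz, ← pow_mul, ← pow_succ, ← hu₁]
      exact pow_orderOf_eq_one _
    have hwΩ : w ∈ Ω := by
      rw [hΩdef, MonoidHom.mem_ker, powMonoidHom_apply, hwdef, ← pow_mul, ← pow_succ]
      exact hx₀
    have haΩ : a ∈ Ω := by
      rw [hΩdef, MonoidHom.mem_ker, powMonoidHom_apply]; exact ha
    have hzord : orderOf z = r := by
      rw [hz, orderOf_pow_of_dvd (pow_ne_zero _ hr.ne_zero)
        (by rw [hu₁]; exact pow_dvd_pow r (Nat.le_succ n)), hu₁, pow_succ,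
        Nat.mul_div_cancel_left _ (pow_pos hr.pos n)]
    have hzcard : Nat.card (zpowers z) = r := by rw [Nat.card_zpowers, hzord]
    set H := zpowers z ⊔ zpowers w with hH
    have hHΩ : H ≤ Ω := sup_le ((zpowers_le).mpr hzΩ) ((zpowers_le).mpr hwΩ)
    have hHdvd : Nat.card H ∣ r ^ 2 := by rw [← hΩ]; exact Subgroup.card_dvd_of_le hHΩ
    obtain ⟨k, hk2, hk⟩ := (Nat.dvd_prime_pow hr).mp hHdvd
    have hzH : zpowers z ≤ H := le_sup_left
    have hrdvd : r ∣ Nat.card H := by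
      have := Subgroup.card_dvd_of_le hzH
      rwa [hzcard] at this
    have hk0 : k ≠ 0 := by
      rintro rfl
      rw [hk, pow_zero] at hrdvd
      exact hr.one_lt.ne' (Nat.dvd_one.mp hrdvd)
    have hk1 : k ≠ 1 := by
      rintro rfl
      rw [pow_one] at hk
      have heq : zpowers z = H :=
        Subgroup.eq_of_le_of_card_ge hzH (by rw [hk, hzcard])
      apply hw
      rw [heq]
      exact (le_sup_right : zpowers w ≤ H) (mem_zpowers w)
    have hk2' : k = 2 := by omega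
    have hHeq : H = Ω := Subgroup.eq_of_le_of_card_ge hHΩ (by rw [hk, hk2', hΩ])
    have haH : a ∈ H := hHeq ▸ haΩ
    obtain ⟨y, hy, y', hy', hyy⟩ := Subgroup.mem_sup.mp haH
    obtain ⟨i, rfl⟩ := mem_zpowers_iff.mp hy
    obtain ⟨j, rfl⟩ := mem_zpowers_iff.mp hy'
    refine ⟨u₁ ^ i * x₀ ^ j, ?_, ?_⟩
    · have hpow : (u₁ ^ i * x₀ ^ j) ^ r ^ n = a := by
        rw [mul_pow, ← hyy, hz, hwdef]
        congr 1
        · rw [← zpow_natCast, ← zpow_mul, mul_comm, zpow_mul, zpow_natCast]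
        · rw [← zpow_natCast, ← zpow_mul, mul_comm, zpow_mul, zpow_natCast]
      apply orderOf_eq_prime_pow
      · rw [hpow]; exact ha1
      · rw [pow_succ, pow_mul, hpow]; exact ha
    · rw [mul_pow, ← hyy, hz, hwdef]
      congr 1
      · rw [← zpow_natCast, ← zpow_mul, mul_comm, zpow_mul, zpow_natCast]
      · rw [← zpow_natCast, ← zpow_mul, mul_comm, zpow_mul, zpow_natCast]

end Cfsg.Agent.H3BG15
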