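import Mathlib
import Cfsg.Agent.Lib.Helper3.BG15A
import Cfsg.Agent.Lib.Helper22.Structure

/-!
# A regular subgroup of full exponent in an abelian group (for Bender–Glauberman §15)
-/

set_option autoImplicit false

namespace Cfsg.Agent.H3BG15

open Subgroup

variable {G : Type*} [Group G]

theorem le_normalizer_of_commute {A B : Subgroup G} (h : ∀ a ∈ A, ∀ b ∈ B, Commute a b) :
    A ≤ normalizer (B : Set G) := by
  intro g hg
  rw [mem_normalizer_iff]
  intro x
  constructor
  · intro hx
    have hc : g * x = x * g := (h g hg x hx).eq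
    have : g * x * g⁻¹ = x := by rw [hc]; group
    rw [this]; exact hx
  · intro hx
    have hc : g * (g * x * g⁻¹) = (g * x * g⁻¹) * g := (h g hg _ hx).eq
    have : x = g * x * g⁻¹ := by
      calc x = g⁻¹ * ((g * x * g⁻¹) * g) := by group
        _ = g⁻¹ * (g * (g * x * g⁻¹)) := by rw [hc]
        _ = g * x * g⁻¹ := by group
    rw [this]; exact hx

/-- Bezout: a factor of a product of commuting elements of coprime exponents is a power of the product. -/
theorem left_mem_zpowers_mul {a b : G} (hab : Commute a b) {N₁ N₂ : ℕ} (hcop : N₁.Coprime N₂)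
    (ha : a ^ N₁ = 1) (hb : b ^ N₂ = 1) : a ∈ zpowers (a * b) := by
  rw [mem_zpowers_iff]
  refine ⟨(N₂ : ℤ) * Nat.gcdB N₁ N₂, ?_⟩
  have hbez : (N₁ : ℤ) * Nat.gcdA N₁ N₂ + N₂ * Nat.gcdB N₁ N₂ = 1 := by
    have := Nat.gcd_eq_gcd_ab N₁ N₂
    rw [hcop.gcd_eq_one] at this
    simpa using this.symm
  have hb' : b ^ ((N₂ : ℤ) * Nat.gcdB N₁ N₂) = 1 := by
    rw [zpow_mul, zpow_natCast, hb, one_zpow]
  have ha' : a ^ ((N₂ : ℤ) * Nat.gcdB N₁ N₂) = a := by
    have h1 : (N₂ : ℤ) * Nat.gcdB N₁ N₂ = 1 - N₁ * Nat.gcdA N₁ N₂ := by linarith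
    rw [h1, zpow_sub, zpow_one, zpow_mul, zpow_natCast, ha, one_zpow, inv_one, mul_one]
  rw [hab.mul_zpow, ha', hb', mul_one]

theorem exists_U0 [Finite G] (Ms U : Subgroup G) (hUc : IsMulCommutative U)
    (hgood : ∀ r : ℕ, r.Prime → r ∣ Monoid.exponent U →
      ∃ u ∈ U, orderOf u = r ^ (Monoid.exponent U).factorization r ∧
        Ms ⊓ centralizer ({u ^ r ^ ((Monoid.exponent U).factorization r - 1)} : Set G) = ⊥) :
    ∃ U₀ : Subgroup G, U₀ ≤ U ∧ Monoid.exponent U₀ = Monoid.exponent U ∧
      ∀ w ∈ U₀, w ≠ 1 → Ms ⊓ centralizer ({w} : Set G) = ⊥ := by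
  classical
  set n := Monoid.exponent U with hn
  have hn0 : n ≠ 0 := Monoid.exponent_ne_zero_of_finite
  have hcommU : ∀ a ∈ U, ∀ b ∈ U, Commute a b := fun a ha b hb => by
    have := hUc.is_comm.comm ⟨a, ha⟩ ⟨b, hb⟩
    exact congrArg Subtype.val this
  have key : ∀ T : Finset ℕ, T ⊆ n.primeFactors →
      ∃ W : Subgroup G, W ≤ U ∧ (∀ w ∈ W, w ≠ 1 → Ms ⊓ centralizer ({w} : Set G) = ⊥) ∧
        (∀ r ∈ T, ∃ w ∈ W, orderOf w = r ^ n.factorization r) ∧
        (∀ w ∈ W, w ^ (∏ r ∈ T, r ^ n.factorization r) = 1) := by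
    intro T
    induction T using Finset.induction_on with
    | empty =>
      intro _
      refine ⟨⊥, bot_le, ?_, ?_, ?_⟩
      · intro w hw hw1; exact absurd (Subgroup.mem_bot.mp hw) hw1
      · intro r hr; exact absurd hr (Finset.notMem_empty r)
      · intro w hw; rw [Subgroup.mem_bot.mp hw, one_pow]
    | insert r T hrT ih =>
      intro hsub
      obtain ⟨W, hWU, hWgood, hWord, hWpow⟩ := ih ((Finset.subset_insert r T).trans hsub)
      have hrmem : r ∈ n.primeFactors := hsub (Finset.mem_insert_self r T)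
      have hr : r.Prime := Nat.prime_of_mem_primeFactors hrmem
      have hrn : r ∣ n := Nat.dvd_of_mem_primeFactors hrmem
      obtain ⟨u, huU, huo, hug⟩ := hgood r hr hrn
      set v := n.factorization r with hv
      have hv1 : 1 ≤ v := hr.factorization_pos_of_dvd hn0 hrn
      set N₁ := ∏ q ∈ T, q ^ n.factorization q with hN₁
      have hcop : N₁.Coprime (r ^ v) := by
        apply Nat.Coprime.pow_right
        apply Nat.Coprime.prod_left
        intro q hq
        apply Nat.Coprime.pow_left
        have hqp : q.Prime := Nat.prime_of_mem_primeFactors (hsub (Finset.mem_insert_of_mem hq))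
        exact (Nat.coprime_primes hqp hr).mpr (fun h => hrT (h ▸ hq))
      have hzU : zpowers u ≤ U := (zpowers_le).mpr huU
      have hdecomp : ∀ w ∈ W ⊔ zpowers u, ∃ a ∈ W, ∃ b ∈ zpowers u, a * b = w := by
        intro w hw
        exact (Cfsg.Agent.Helper22.mem_sup_of_le_normalizer
          (le_normalizer_of_commute (fun a ha b hb => hcommU a (hWU ha) b (hzU hb)))).mp hw
      have hbpow : ∀ b ∈ zpowers u, b ^ r ^ v = 1 := by
        intro b hb
        obtain ⟨k, rfl⟩ := mem_zpowers_iff.mp hb
        rw [← zpow_natCast, ← zpow_mul, mul_comm, zpow_mul, zpow_natCast, ← huo, pow_orderOf_eq_one,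
          one_zpow]
      refine ⟨W ⊔ zpowers u, sup_le hWU hzU, ?_, ?_, ?_⟩
      · intro w hw hw1
        rw [Subgroup.eq_bot_iff_forall]
        intro y hy
        by_contra hy1
        obtain ⟨a, ha, b, hb, rfl⟩ := hdecomp w hw
        obtain ⟨hyMs, hyC⟩ := Subgroup.mem_inf.mp hy
        have hab : Commute a b := hcommU a (hWU ha) b (hzU hb)
        have haN : a ^ N₁ = 1 := hWpow a ha
        have hbN : b ^ r ^ v = 1 := hbpow b hb
        have ha_mem : a ∈ zpowers (a * b) := left_mem_zpowers_mul hab hcop haN hbN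
        have hb_mem : b ∈ zpowers (a * b) := by
          rw [hab.eq]; exact left_mem_zpowers_mul hab.symm hcop.symm hbN haN
        have hyc : ∀ t ∈ zpowers (a * b), t * y = y * t := by
          intro t ht
          obtain ⟨k, rfl⟩ := mem_zpowers_iff.mp ht
          have h0 : Commute (a * b) y := (mem_centralizer_iff.mp hyC) (a * b) (Set.mem_singleton _)
          exact (h0.zpow_left k).eq
        have ha1 : a = 1 := by
          by_contra hne
          have hbot := hWgood a ha hne
          have hmem : y ∈ Ms ⊓ centralizer ({a} : Set G) := by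
            refine Subgroup.mem_inf.mpr ⟨hyMs, ?_⟩
            rw [mem_centralizer_iff]
            intro h hh
            rw [Set.mem_singleton_iff] at hh
            rw [hh]; exact hyc a ha_mem
          rw [hbot, Subgroup.mem_bot] at hmem
          exact hy1 hmem
        have hb1 : b = 1 := by
          by_contra hne
          have hbot := bottom_mem_zpowers hr hv1 huo hb hne
          have hmem : y ∈ Ms ⊓ centralizer ({u ^ r ^ (v - 1)} : Set G) := by
            refine Subgroup.mem_inf.mpr ⟨hyMs, ?_⟩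
            rw [mem_centralizer_iff]
            intro h hh
            rw [Set.mem_singleton_iff] at hh
            rw [hh]; exact hyc _ ((zpowers_le).mpr hb_mem hbot)
          rw [hug, Subgroup.mem_bot] at hmem
          exact hy1 hmem
        exact hw1 (by rw [ha1, hb1, one_mul])
      · intro q hq
        rcases Finset.mem_insert.mp hq with rfl | hq'
        · exact ⟨u, (le_sup_right : zpowers u ≤ W ⊔ zpowers u) (mem_zpowers u), huo⟩
        · obtain ⟨w, hw, hwo⟩ := hWord q hq'
          exact ⟨w, (le_sup_left : W ≤ W ⊔ zpowers u) hw, hwo⟩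
      · intro w hw
        obtain ⟨a, ha, b, hb, rfl⟩ := hdecomp w hw
        have hab : Commute a b := hcommU a (hWU ha) b (hzU hb)
        rw [Finset.prod_insert hrT, hab.mul_pow]
        have h1 : a ^ (r ^ v * N₁) = 1 := by rw [mul_comm, pow_mul, hWpow a ha, one_pow]
        have h2 : b ^ (r ^ v * N₁) = 1 := by rw [pow_mul, hbpow b hb, one_pow]
        rw [h1, h2, mul_one]
  obtain ⟨U₀, hU₀U, hgood₀, hord, -⟩ := key n.primeFactors (subset_refl _)
  refine ⟨U₀, hU₀U, ?_, hgood₀⟩
  have hne0 : Monoid.exponent U₀ ≠ 0 := Monoid.exponent_ne_zero_of_finite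
  apply Nat.dvd_antisymm
  · apply Monoid.exponent_dvd_of_forall_pow_eq_one
    intro w
    have h1 : ((⟨w.1, hU₀U w.2⟩ : U)) ^ n = 1 := Monoid.pow_exponent_eq_one _
    apply Subtype.ext
    have := congrArg Subtype.val h1
    simpa using this
  · rw [← Nat.factorization_prime_le_iff_dvd hn0 hne0]
    intro r hr
    by_cases hrn : r ∣ n
    · obtain ⟨w, hw, hwo⟩ := hord r (Nat.mem_primeFactors.mpr ⟨hr, hrn, hn0⟩)
      have h1 : r ^ n.factorization r ∣ Monoid.exponent U₀ := by
        have := Monoid.order_dvd_exponent (⟨w, hw⟩ : U₀)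
        rwa [Subgroup.orderOf_mk, hwo] at this
      exact (hr.pow_dvd_iff_le_factorization hne0).mp h1
    · rw [Nat.factorization_eq_zero_of_not_dvd hrn]; exact Nat.zero_le _

end Cfsg.Agent.H3BG15
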