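import Mathlib
import Cfsg.Agent.Lib.Helper38.BG128a
import Cfsg.Agent.Lib.Helper3.BG15E

/-!
# Pure group theory for Bender–Glauberman Lemma 12.12(a)
-/

set_option autoImplicit false

namespace Cfsg.Agent.H3BG12

open Subgroup

variable {G : Type*} [Group G]

/-- An element commuting with all prime-power-order powers of `z` commutes with `z`. -/
theorem commute_of_forall_prime_pow {s : G} :
    ∀ (n : ℕ) (z : G), orderOf z = n → 0 < n →
      (∀ (q k : ℕ), q.Prime → ∀ w ∈ zpowers z, w ^ q ^ k = 1 → Commute s w) → Commute s z := by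
  intro n
  induction n using Nat.strong_induction_on with
  | _ n ih =>
    intro z hzn hn0 h
    by_cases hn1 : n = 1
    · rw [hn1, orderOf_eq_one_iff] at hzn
      rw [hzn]; exact Commute.one_right s
    set q := n.minFac with hq
    have hqp : q.Prime := Nat.minFac_prime hn1
    have hqn : q ∣ n := Nat.minFac_dvd n
    set k := n.factorization q with hk
    set m := n / q ^ k with hm
    have hqk : q ^ k ∣ n := Nat.ordProj_dvd n q
    have hnm : n = q ^ k * m := (Nat.mul_div_cancel' hqk).symm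
    have hcop : (q ^ k).Coprime m := (Nat.coprime_ordCompl hqp hn0.ne').pow_left k
    have hk1 : 1 ≤ k := hqp.factorization_pos_of_dvd hn0.ne' hqn
    have hm0 : 0 < m := Nat.pos_of_ne_zero (by
      intro h0; rw [h0, mul_zero] at hnm; omega)
    have hmn : m < n := by
      rw [hnm]
      have : 1 < q ^ k := Nat.one_lt_pow (by omega) hqp.one_lt
      nlinarith
    -- the two parts
    set a := z ^ m with ha
    set b := z ^ q ^ k with hb
    have ha1 : a ^ q ^ k = 1 := by
      rw [ha, ← pow_mul, mul_comm, ← hnm, ← hzn, pow_orderOf_eq_one]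
    have hbo : orderOf b = m := by
      rw [hb, orderOf_pow' z (pow_ne_zero k hqp.ne_zero), hzn, Nat.gcd_eq_right hqk, hm]
    have hca : Commute s a := h q k hqp a (pow_mem (mem_zpowers z) m) ha1
    have hcb : Commute s b := by
      apply ih m hmn b hbo hm0
      intro q' k' hq' w hw hw1
      apply h q' k' hq' w _ hw1
      exact (zpowers_le.mpr (pow_mem (mem_zpowers z) _)) hw
    -- Bezout
    have hbez : (q ^ k : ℤ) * Nat.gcdA (q ^ k) m + m * Nat.gcdB (q ^ k) m = 1 := by
      have := Nat.gcd_eq_gcd_ab (q ^ k) m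
      rw [hcop.gcd_eq_one] at this
      push_cast at this
      linarith
    have hz : z = b ^ (Nat.gcdA (q ^ k) m) * a ^ (Nat.gcdB (q ^ k) m) := by
      rw [hb, ha, ← zpow_natCast z (q ^ k), ← zpow_natCast z m, ← zpow_mul, ← zpow_mul, ← zpow_add]
      push_cast
      rw [hbez, zpow_one]
    rw [hz]
    exact (hcb.zpow_right _).mul_right (hca.zpow_right _)

/-- The `Ω₁`-lemma for abelian groups: an element `s` of order prime to `q` normalizing the abelian
group `B` and centralizing all its elements of order dividing `q` centralizes all `q`-elements of `B`. -/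
theorem commute_of_commute_omega {B : Subgroup G} (hB : ∀ a ∈ B, ∀ b ∈ B, a * b = b * a) {s : G}
    (hsB : ∀ b ∈ B, s * b * s⁻¹ ∈ B) {q n : ℕ} (hsn : s ^ n = 1) (hnq : n.Coprime q)
    (h1 : ∀ w ∈ B, w ^ q = 1 → s * w = w * s) :
    ∀ k : ℕ, ∀ z ∈ B, z ^ q ^ k = 1 → s * z = z * s := by
  intro k
  induction k with
  | zero =>
    intro z _ hz
    rw [pow_zero, pow_one] at hz
    rw [hz, mul_one, one_mul]
  | succ k ih =>
    intro z hzB hz
    have hzq : (z ^ q) ^ q ^ k = 1 := by rw [← pow_mul, ← pow_succ']; exact hz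
    have hzqc : s * z ^ q = z ^ q * s := ih (z ^ q) (pow_mem hzB q) hzq
    set c := s * z * s⁻¹ * z⁻¹ with hc
    have hcB : c ∈ B := B.mul_mem (hsB z hzB) (B.inv_mem hzB)
    have hcq : c ^ q = 1 := by
      have hcomm : Commute (s * z * s⁻¹) z⁻¹ := hB _ (hsB z hzB) _ (B.inv_mem hzB)
      rw [hc, hcomm.mul_pow, conj_pow, inv_pow]
      have : s * z ^ q * s⁻¹ = z ^ q := by rw [hzqc]; group
      rw [this, mul_inv_cancel]
    have hsc : s * c = c * s := h1 c hcB hcq
    have hconj : s * z * s⁻¹ = c * z := by rw [hc]; group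
    have hpow := Cfsg.Agent.Helper38.BG128.conj_pow_eq_pow_mul s z c hconj hsc n
    rw [hsn, inv_one, mul_one, one_mul] at hpow
    have hcn : c ^ n = 1 := by
      have : c ^ n * z = 1 * z := by rw [one_mul]; exact hpow.symm
      exact mul_right_cancel this
    have hc1 : c = 1 := by
      have h2 : orderOf c ∣ n := orderOf_dvd_of_pow_eq_one hcn
      have h3 : orderOf c ∣ q := orderOf_dvd_of_pow_eq_one hcq
      have h4 : orderOf c ∣ 1 := by
        have := Nat.dvd_gcd h2 h3
        rwa [hnq.gcd_eq_one] at this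
      exact orderOf_eq_one_iff.mp (Nat.dvd_one.mp h4)
    have : s * z * s⁻¹ = z := by rw [hconj, hc1, one_mul]
    calc s * z = s * z * s⁻¹ * s := by group
      _ = z * s := by rw [this]

/-- If `x` normalizes `⟨w⟩`, `w ^ q = 1`, and `x ^ q = 1` for a prime `q`, then `x` commutes with `w`. -/
theorem commute_of_normalizes_prime {q : ℕ} (hq : q.Prime) {w x : G} (hw : w ^ q = 1)
    (hx : x ^ q = 1) (hxw : x * w * x⁻¹ ∈ zpowers w) : x * w = w * x := by
  by_cases hw1 : w = 1
  · rw [hw1, mul_one, one_mul]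
  haveI := Fact.mk hq
  have hwo : orderOf w = q := orderOf_eq_prime hw hw1
  obtain ⟨k, hk⟩ := mem_zpowers_iff.mp hxw
  have hq0 : (orderOf w : ℤ) ≠ 0 := by rw [hwo]; exact_mod_cast hq.ne_zero
  obtain ⟨i, hi⟩ : ∃ i : ℕ, w ^ i = x * w * x⁻¹ := by
    refine ⟨(k % (orderOf w : ℤ)).toNat, ?_⟩
    rw [← zpow_natCast, Int.toNat_of_nonneg (Int.emod_nonneg _ hq0), zpow_mod_orderOf, hk]
  have hpow := Cfsg.Agent.Helper38.BG128.conj_pow_eq_pow_of_conj_eq_pow x w i hi.symm q
  rw [hx, inv_one, mul_one, one_mul] at hpow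
  -- w = w ^ (i ^ q), so i ^ q ≡ 1 mod q, hence i ≡ 1 mod q
  have h1 : i ^ q ≡ 1 [MOD q] := by
    have : w ^ (i ^ q) = w ^ 1 := by rw [pow_one]; exact hpow.symm
    rw [pow_eq_pow_iff_modEq, hwo] at this
    exact this
  have h2 : i ^ q ≡ i [MOD q] := by
    haveI := Fact.mk hq
    have := ZMod.pow_card (i : ZMod q)
    rw [← Nat.cast_pow] at this
    exact (ZMod.natCast_eq_natCast_iff _ _ _).mp this
  have h3 : i ≡ 1 [MOD q] := h2.symm.trans h1
  have h4 : w ^ i = w ^ 1 := by
    rw [pow_eq_pow_iff_modEq, hwo]; exact h3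
  rw [pow_one] at h4
  have : x * w * x⁻¹ = w := by rw [← hi, h4]
  calc x * w = x * w * x⁻¹ * x := by group
    _ = w * x := by rw [this]

end Cfsg.Agent.H3BG12
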