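import Mathlib
import Cfsg.Agent.Lib.Helper3.BG15A
import Cfsg.Agent.Lib.Helper55.BGDecomp2
import Cfsg.Agent.Lib.Helper34.BG10d

/-!
# Group-theoretic lemmas for Bender–Glauberman §15 (structure of `U`)
-/

set_option autoImplicit false
open Pointwise

namespace Cfsg.Agent.H3BG15

open Subgroup Cfsg
open Cfsg.Agent.Helper33 (mem_conj_smul conj_mem_conj_smul)

variable {G : Type*} [Group G]

theorem centralizer_zpowers (z : G) :
    centralizer ((zpowers z : Subgroup G) : Set G) = centralizer ({z} : Set G) := by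
  apply le_antisymm
  · apply Subgroup.centralizer_le
    intro x hx
    rw [Set.mem_singleton_iff] at hx
    rw [hx]
    exact mem_zpowers z
  · intro g hg
    rw [mem_centralizer_iff] at hg ⊢
    intro h hh
    obtain ⟨k, rfl⟩ := mem_zpowers_iff.mp hh
    have h1 : z * g = g * z := hg z (Set.mem_singleton z)
    have hc : Commute z g := h1
    exact (hc.zpow_left k).eq

theorem conj_mem_sigmaCore {M : Subgroup G} {m y : G} (hm : m ∈ M) (hy : y ∈ Cfsg.sigmaCore M) :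
    m * y * m⁻¹ ∈ Cfsg.sigmaCore M := by
  have h := Cfsg.Agent.Helper55.BGB.le_normalizer_sigmaCore M hm
  rw [mem_normalizer_iff] at h
  exact (h y).mp hy

/-- an element `t ≠ 1` of `r`-power order in `M` commuting with some `y ≠ 1` of `M_σ`, where `r ∉ σ(M)`
and the Sylow `r`-subgroups of `M` are cyclic, puts `r` into `κ(M)`. -/
theorem mem_kappa_of_commute [Finite G] {M : Subgroup G} {r : ℕ} (hr : r.Prime)
    (hσ : r ∉ Cfsg.sigma M) (hcyc : ∀ P : Sylow r M, IsCyclic P)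
    {t y : G} (htM : t ∈ M) (ht : orderOf t = r) (hy : y ∈ Cfsg.sigmaCore M) (hy1 : y ≠ 1)
    (hty : t * y = y * t) : r ∈ Cfsg.kappa M := by
  haveI := Fact.mk hr
  have hto : orderOf (⟨t, htM⟩ : M) = r := by
    rw [← ht]; exact (Subgroup.orderOf_mk t htM)
  have hrM : r ∣ Nat.card M := by rw [← hto]; exact orderOf_dvd_natCard _
  refine ⟨hr, hrM, hσ, fun P => ⟨hcyc P, ?_⟩⟩
  have hpg : IsPGroup r (zpowers (⟨t, htM⟩ : M)) := by
    apply IsPGroup.of_card (n := 1)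
    rw [Nat.card_zpowers, hto, pow_one]
  obtain ⟨Q, hQ⟩ := hpg.exists_le_sylow
  obtain ⟨m, hm⟩ := MulAction.exists_smul_eq M Q P
  have htQ : (⟨t, htM⟩ : M) ∈ (Q : Subgroup M) := hQ (mem_zpowers _)
  have hx : m * ⟨t, htM⟩ * m⁻¹ ∈ (P : Subgroup M) := by
    rw [← hm, Sylow.coe_subgroup_smul]
    exact conj_mem_conj_smul htQ
  refine ⟨m * ⟨t, htM⟩ * m⁻¹, hx, ?_, (m : G) * y * (m : G)⁻¹, conj_mem_sigmaCore m.2 hy, ?_, ?_⟩
  · intro h1
    have : (⟨t, htM⟩ : M) = 1 := by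
      have := congrArg (fun z => m⁻¹ * z * m) h1
      simpa [mul_assoc] using this
    rw [← orderOf_eq_one_iff, hto] at this
    exact hr.one_lt.ne' this
  · intro h1
    apply hy1
    have := congrArg (fun z => (m : G)⁻¹ * z * (m : G)) h1
    simpa [mul_assoc] using this
  · have : ((m * ⟨t, htM⟩ * m⁻¹ : M) : G) = (m : G) * t * (m : G)⁻¹ := by simp
    rw [this]
    calc (m : G) * t * (m : G)⁻¹ * ((m : G) * y * (m : G)⁻¹)
        = (m : G) * (t * y) * (m : G)⁻¹ := by group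
      _ = (m : G) * (y * t) * (m : G)⁻¹ := by rw [hty]
      _ = (m : G) * y * (m : G)⁻¹ * ((m : G) * t * (m : G)⁻¹) := by group

/-- outside `κ(M)`, elements of order `r` act without fixed points on `M_σ`. -/
theorem inf_centralizer_eq_bot_of_not_kappa [Finite G] {M : Subgroup G} {r : ℕ} (hr : r.Prime)
    (hσ : r ∉ Cfsg.sigma M) (hκ : r ∉ Cfsg.kappa M) (hcyc : ∀ P : Sylow r M, IsCyclic P)
    {t : G} (htM : t ∈ M) (ht : orderOf t = r) :
    Cfsg.sigmaCore M ⊓ centralizer ({t} : Set G) = ⊥ := by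
  rw [Subgroup.eq_bot_iff_forall]
  intro y hy
  by_contra hy1
  rw [Subgroup.mem_inf, mem_centralizer_iff] at hy
  exact hκ (mem_kappa_of_commute hr hσ hcyc htM ht hy.1 hy1 (hy.2 t (Set.mem_singleton t)))

theorem sylow_cyclic_of_pRankLE_one [Finite G] (hG : IsMinSimpleOddOrder G) {M : Subgroup G} {r : ℕ}
    [hr : Fact r.Prime] (hrM : r ∣ Nat.card M) (h : PRankLE r 1 M) (P : Sylow r M) :
    IsCyclic P :=
  Cfsg.Agent.Helper34.BG.isCyclic_of_pRankLE_one
    (Cfsg.Agent.Helper34.BG.prime_ne_two hG M hrM) P.isPGroup'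
    (Cfsg.Agent.Helper34.BG.pRankLE_subgroup_type h (P : Subgroup M))

/-- If conjugation by every element of `N_G(R)` maps `z` into `⟨z⟩`, then `N_G(R) ≤ N_G(⟨z⟩)`. -/
theorem normalizer_le_normalizer_zpowers {R : Subgroup G} {z : G}
    (h : ∀ g ∈ normalizer (R : Set G), g * z * g⁻¹ ∈ zpowers z) :
    normalizer (R : Set G) ≤ normalizer ((zpowers z : Subgroup G) : Set G) := by
  intro g hg
  have hg' : g⁻¹ ∈ normalizer (R : Set G) := inv_mem hg
  rw [mem_normalizer_iff]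
  intro x
  constructor
  · intro hx
    obtain ⟨k, rfl⟩ := mem_zpowers_iff.mp hx
    have : g * z ^ k * g⁻¹ = (g * z * g⁻¹) ^ k := by
      rw [conj_zpow]
    rw [this]
    exact zpow_mem (h g hg) k
  · intro hx
    obtain ⟨k, hk⟩ := mem_zpowers_iff.mp hx
    have hx' : x = (g⁻¹ * z * g⁻¹⁻¹) ^ k := by
      rw [conj_zpow, hk]; group
    rw [hx']
    exact zpow_mem (h g⁻¹ hg') k

theorem le_set_normalizer_of_forall {M : Subgroup G} {X : Set G}
    (h : ∀ m ∈ M, ∀ n ∈ X, m * n * m⁻¹ ∈ X) : M ≤ normalizer X := by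
  intro m hm
  rw [mem_set_normalizer_iff]
  intro n
  constructor
  · exact h m hm n
  · intro hn
    have := h m⁻¹ (inv_mem hm) _ hn
    simpa [mul_assoc] using this

theorem pow_mul_mem {U N : Subgroup G} (hUN : U ≤ normalizer (N : Set G)) {u s : G} (hu : u ∈ U)
    (hs : s ∈ N) (n : ℕ) : ∃ s' ∈ N, (u * s) ^ n = u ^ n * s' := by
  induction n with
  | zero => exact ⟨1, one_mem _, by simp⟩
  | succ n ih =>
    obtain ⟨s', hs', he⟩ := ih
    have h1 : u⁻¹ * s' * u⁻¹⁻¹ ∈ N := (mem_normalizer_iff.mp (hUN (inv_mem hu)) s').mp hs'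
    refine ⟨u⁻¹ * s' * u⁻¹⁻¹ * s, mul_mem h1 hs, ?_⟩
    rw [pow_succ, he, pow_succ]
    group

theorem orderOf_dvd_orderOf_mul {U N : Subgroup G} (hUN : U ≤ normalizer (N : Set G))
    (hdisj : U ⊓ N = ⊥) {u s : G} (hu : u ∈ U) (hs : s ∈ N) : orderOf u ∣ orderOf (u * s) := by
  obtain ⟨s', hs', he⟩ := pow_mul_mem hUN hu hs (orderOf (u * s))
  rw [pow_orderOf_eq_one] at he
  have h1 : u ^ orderOf (u * s) = s'⁻¹ := by
    rw [eq_inv_iff_mul_eq_one]; exact he.symm
  have h2 : u ^ orderOf (u * s) ∈ U ⊓ N :=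
    Subgroup.mem_inf.mpr ⟨pow_mem hu _, h1 ▸ inv_mem hs'⟩
  rw [hdisj, Subgroup.mem_bot] at h2
  exact orderOf_dvd_of_pow_eq_one h2

end Cfsg.Agent.H3BG15
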