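import Mathlib
import Cfsg.Agent.Lib.Helper3.BG12A
import Cfsg.Agent.Lib.Helper3.BG15B
import Cfsg.Agent.Lib.Helper38.BG128b
import Cfsg.Agent.Lib.Helper29.BG127e
import Cfsg.Agent.Lib.Helper29.CoprimeAb
import Cfsg.Agent.Lib.Helper29.OmegaInv
import Cfsg.Agent.Lib.Helper30.BGFusC
import Cfsg.Agent.S1350
import Cfsg.Agent.S1405
import Cfsg.Agent.S1408
import Cfsg.Agent.S1414
import Cfsg.Agent.S1417
import Cfsg.Agent.S1418
import Cfsg.Agent.S1420
import Cfsg.Agent.Lib.Helper78.BG121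

/-!
# Bender–Glauberman Lemma 12.12(a): the abelian normal subgroup `A₀ = C_E(E')`

`E` a complement of `M_σ` in the maximal subgroup `M`.  Every `p`-element `y` of `E`
(`p ∈ τ₂(M)`) that centralizes a nonidentity element of `M_σ` centralizes `E'`.
-/

set_option autoImplicit false
open Pointwise

namespace Cfsg.Agent.H3BG12

open Subgroup Cfsg
open scoped commutatorElement
open Cfsg.Agent.Helper33 (IsSylIn exists_isSylIn_ge exists_isSylIn card_conj_smul)
open Cfsg.Agent.Helper34.BG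
open Cfsg.Agent.Helper38.BG128 (C1417 sylIn_comm sylIn_omega sylIn_map_eq)

variable {G : Type*} [Group G] [Finite G]

/-- The data attached to a prime `p ∈ τ₂(M)` and an elementary abelian `A ≤ E` of order `p²`
(from the rows S1408, S1417, S1418). -/
structure Tau2Ctx (M E : Subgroup G) (p : ℕ) (A : Subgroup G) : Prop where
  hp : p.Prime
  hτ : p ∈ tau2 M
  hAE : A ≤ E
  hAel : IsElementaryAbelian p A
  hAcard : Nat.card A = p ^ 2
  h17 : C1417 M p A
  hnorm : E ≤ normalizer (A : Set G)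
  hsub : ∀ X : Subgroup G, X ≤ E → Nat.card X = p → X ≤ A
  hcent : centralizer (A : Set G) ≤ E
  hbad : ∀ X : Subgroup G, X ≤ A → Nat.card X = p →
    sigmaCore M ⊓ centralizer (X : Set G) ≠ ⊥ →
      centralizer (X : Set G) ≤ M ∧
        ∀ L : Subgroup G, IsCoatom L → centralizer (X : Set G) ≤ L → L = M
  hmax : ∀ B : Subgroup G, IsElementaryAbelian p B → A ≤ B → B = A
  hnotideal : ¬ IsIdealPrime p G

/-- existence of an elementary abelian subgroup of order `p²` in `E` for `p ∈ τ₂(M)`. -/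
theorem exists_elemAb_le_compl {M E : Subgroup G}
    (hσ : IsPiHallOf (sigma M) (sigmaCore M) M) (hE : IsComplIn E (sigmaCore M) M)
    {p : ℕ} [Fact p.Prime] (hpτ : p ∈ tau2 M) :
    ∃ A : Subgroup G, A ≤ E ∧ IsElementaryAbelian p A ∧ Nat.card A = p ^ 2 := by
  have hpp : p.Prime := hpτ.1
  have hpσ : p ∉ sigma M := hpτ.2.1
  have hr1 : ¬ PRankLE p 1 ↥M := hpτ.2.2.2
  obtain ⟨A₁, hA₁M, hA₁, hA₁c⟩ := Cfsg.Agent.Helper38.BG128.exists_elemAb_sq (p := p) hr1
  obtain ⟨T₀, hT₀⟩ := exists_isSylIn (p := p) E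
  have hEidx : E.relIndex M = Nat.card (sigmaCore M) := by
    have h2 : Nat.card (E.subgroupOf M) * (E.subgroupOf M).index = Nat.card M :=
      Subgroup.card_mul_index _
    rw [card_subgroupOf_of_le hE.1, Cfsg.Agent.Helper38.BG128.card_eq_of_isComplIn' hE] at h2
    exact Nat.eq_of_mul_eq_mul_left Nat.card_pos h2
  have hT₀M : IsSylIn p T₀ M := by
    refine ⟨hT₀.1.trans hE.1, hT₀.2.1, ?_⟩
    rw [← Subgroup.relIndex_mul_relIndex T₀ E M hT₀.1 hE.1]
    intro hdvd
    rcases (Nat.Prime.dvd_mul hpp).mp hdvd with h | h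
    · exact hT₀.2.2 h
    · rw [hEidx] at h
      exact hpσ (hσ.2.1 p hpp h)
  obtain ⟨u, -, hle⟩ := hT₀M.exists_conj_le (isElementaryAbelian_isPGroup hA₁) hA₁M
  refine ⟨MulAut.conj u • A₁, hle.trans hT₀.1, isElementaryAbelian_conj hA₁ u, ?_⟩
  rw [card_conj_smul]; exact hA₁c

theorem exists_ctx (hG : IsMinSimpleOddOrder G) {M : Subgroup G} (hM : IsCoatom M) {E : Subgroup G}
    (hE : IsComplIn E (sigmaCore M) M) {p : ℕ} (hpτ : p ∈ tau2 M) :
    ∃ A : Subgroup G, Tau2Ctx M E p A := by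
  haveI : Fact p.Prime := ⟨hpτ.1⟩
  have hσ := (Cfsg.Agent.S1350.result hG M hM).1
  obtain ⟨A, hAE, hAel, hAc⟩ := exists_elemAb_le_compl hσ hE hpτ
  have hAM : A ≤ M := hAE.trans hE.1
  have h17 := Cfsg.Agent.S1417.result hG M hM p hpτ A ⟨hAM, hAel, hAc⟩
  obtain ⟨⟨h18a, h18b⟩, ⟨h18c, h18d, -⟩, h18e⟩ :=
    Cfsg.Agent.S1418.result hG M hM E hE p hpτ A ⟨hAE, hAel, hAc⟩
  obtain ⟨h08a, h08b⟩ := Cfsg.Agent.S1408.result hG M hM p hpτ.2.1 hpτ.2.2.1 hpτ.2.2.2
  exact ⟨A,
    { hp := hpτ.1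
      hτ := hpτ
      hAE := hAE
      hAel := hAel
      hAcard := hAc
      h17 := h17
      hnorm := h18a
      hsub := h18b
      hcent := by rw [← h18d]; exact h18c
      hbad := h18e
      hmax := h08b A hAM hAel hAc
      hnotideal := h08a }⟩

/-! ### Basic facts on `E'` -/

omit [Finite G] in
theorem commutator_le_self (E : Subgroup G) : ⁅E, E⁆ ≤ E :=
  Subgroup.commutator_le.mpr fun a ha b hb => by
    rw [commutatorElement_def]
    exact E.mul_mem (E.mul_mem (E.mul_mem ha hb) (E.inv_mem ha)) (E.inv_mem hb)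

omit [Finite G] in
theorem conj_mem_commutator {E : Subgroup G} {g z : G} (hg : g ∈ E) (hz : z ∈ ⁅E, E⁆) :
    g * z * g⁻¹ ∈ ⁅E, E⁆ := by
  have h1 : g ∈ normalizer ((⁅E, E⁆ : Subgroup G) : Set G) :=
    Cfsg.Agent.Helper29.normalizer_inf_le_normalizer_commutator E E
      ⟨le_normalizer hg, le_normalizer hg⟩
  exact (mem_normalizer_iff.mp h1 z).mp hz

omit [Finite G] in
theorem conj_mem_of_le_normalizer {E A : Subgroup G} (h : E ≤ normalizer (A : Set G)) {g a : G}
    (hg : g ∈ E) (ha : a ∈ A) : g * a * g⁻¹ ∈ A :=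
  (mem_normalizer_iff.mp (h hg) a).mp ha

omit [Finite G] in
/-- an element killed by two coprime exponents is trivial -/
theorem eq_one_of_pow_eq_one_of_coprime {c : G} {m n : ℕ} (hmn : m.Coprime n) (hm : c ^ m = 1)
    (hn : c ^ n = 1) : c = 1 := by
  have h2 : orderOf c ∣ m := orderOf_dvd_of_pow_eq_one hm
  have h3 : orderOf c ∣ n := orderOf_dvd_of_pow_eq_one hn
  have h4 : orderOf c ∣ 1 := by
    have := Nat.dvd_gcd h2 h3
    rwa [hmn.gcd_eq_one] at this
  exact orderOf_eq_one_iff.mp (Nat.dvd_one.mp h4)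

omit [Finite G] in
theorem eq_of_commutator_eq_one {a b : G} (h : a * b * a⁻¹ * b⁻¹ = 1) : a * b = b * a := by
  have : a * b * a⁻¹ = b := by
    rw [mul_inv_eq_one] at h; exact h
  calc a * b = a * b * a⁻¹ * a := by group
    _ = b * a := by rw [this]

/-- `p`-elements of `E` commute with `p`-elements of `E'`. -/
theorem commute_p_elements {M E : Subgroup G} {p : ℕ} {A : Subgroup G}
    (hEM : E ≤ M) (ctx : Tau2Ctx M E p A)
    (hE'c : ∀ a ∈ ⁅E, E⁆, ∀ b ∈ ⁅E, E⁆, a * b = b * a)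
    {y z : G} (hy : y ∈ E) {k : ℕ} (hyk : y ^ p ^ k = 1) (hz : z ∈ ⁅E, E⁆) {l : ℕ}
    (hzl : z ^ p ^ l = 1) : y * z = z * y := by
  haveI : Fact p.Prime := ⟨ctx.hp⟩
  set P' := Cfsg.Agent.Helper29.pPart ⁅E, E⁆ hE'c p with hP'
  have hP'p : IsPGroup p P' := Cfsg.Agent.Helper29.pPart_isPGroup _ _ _
  have hYp : IsPGroup p (zpowers y) := Cfsg.Agent.Helper38.BG128.isPGroup_zpowers_of_pow hyk
  have hEN : E ≤ normalizer ((P' : Subgroup G) : Set G) := by
    apply Cfsg.Agent.H3BG15.le_set_normalizer_of_forall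
    rintro m hm n ⟨hn, j, hj⟩
    exact ⟨conj_mem_commutator hm hn, j, by rw [conj_pow, hj]; group⟩
  have hYN : zpowers y ≤ normalizer ((P' : Subgroup G) : Set G) :=
    (zpowers_le.mpr hy).trans hEN
  have hS : IsPGroup p (zpowers y ⊔ P' : Subgroup G) := hYp.to_sup_of_normal_right' hP'p hYN
  have hSM : zpowers y ⊔ P' ≤ M :=
    sup_le ((zpowers_le.mpr hy).trans hEM)
      ((Cfsg.Agent.Helper29.pPart_le _ _ _).trans ((commutator_le_self E).trans hEM))
  obtain ⟨T, hT, hST⟩ := exists_isSylIn_ge (p := p) hS hSM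
  exact sylIn_comm ctx.h17 hT y (hST ((le_sup_left : zpowers y ≤ _) (mem_zpowers y)))
    z (hST ((le_sup_right : P' ≤ _) ⟨hz, l, hzl⟩))

/-- elements of `A` commute with `E'`. -/
theorem commute_of_mem_A {M E : Subgroup G} {p : ℕ} {A : Subgroup G}
    (hEM : E ≤ M) (ctx : Tau2Ctx M E p A)
    (hE'c : ∀ a ∈ ⁅E, E⁆, ∀ b ∈ ⁅E, E⁆, a * b = b * a)
    {y : G} (hyA : y ∈ A) : ∀ z ∈ ⁅E, E⁆, y * z = z * y := by
  intro z hz
  have hyE : y ∈ E := ctx.hAE hyA
  have hyp : y ^ p = 1 := ctx.hAel.2 y hyA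
  apply (commute_of_forall_prime_pow (s := y) (orderOf z) z rfl (orderOf_pos z) ?_).eq
  intro q k hq w hw hwk
  have hwE' : w ∈ ⁅E, E⁆ := (zpowers_le.mpr hz) hw
  have hwE : w ∈ E := commutator_le_self E hwE'
  by_cases hqp : q = p
  · subst hqp
    exact commute_p_elements hEM ctx hE'c hyE (k := 1) (by rwa [pow_one]) hwE' hwk
  · -- the commutator lies in `A` and is a `q`-element
    have hc1 : y * w * y⁻¹ * w⁻¹ ∈ A := by
      have : y * w * y⁻¹ * w⁻¹ = y * (w * y⁻¹ * w⁻¹) := by group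
      rw [this]
      exact A.mul_mem hyA (conj_mem_of_le_normalizer ctx.hnorm hwE (A.inv_mem hyA))
    have hcp : (y * w * y⁻¹ * w⁻¹) ^ p = 1 := ctx.hAel.2 _ hc1
    have hcq : (y * w * y⁻¹ * w⁻¹) ^ q ^ k = 1 := by
      have hcomm : Commute (y * w * y⁻¹) w⁻¹ :=
        hE'c _ (conj_mem_commutator hyE hwE') _ (inv_mem hwE')
      rw [hcomm.mul_pow, conj_pow, inv_pow, hwk]
      group
    have hcop : p.Coprime (q ^ k) :=
      ((Nat.coprime_primes ctx.hp hq).mpr (Ne.symm hqp)).pow_right k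
    exact eq_of_commutator_eq_one (eq_one_of_pow_eq_one_of_coprime hcop hcp hcq)

/-! ### The case of nonabelian Sylow `p`-subgroups -/

/-- If the Sylow `p`-subgroups of `G` are nonabelian, a `p`-element of `M` (inside a Sylow
`p`-subgroup `T ≥ A` of `M`) centralizing a nonidentity element of `M_σ` lies in `A`. -/
theorem mem_A_of_nonabelian (hG : IsMinSimpleOddOrder G) {M : Subgroup G} (hM : IsCoatom M)
    {E : Subgroup G} (hEM : E ≤ M) {p : ℕ} {A : Subgroup G} (ctx : Tau2Ctx M E p A)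
    [Fact p.Prime] {T : Subgroup G} (hT : IsSylIn p T M) (hAT : A ≤ T) (S : Sylow p G)
    (hTS : T ≤ (S : Subgroup G)) (hSna : ¬ IsMulCommutative (S : Subgroup G))
    {y : G} (hyT : y ∈ T) {x : G} (hx : x ∈ sigmaCore M) (hx1 : x ≠ 1) (hyx : y * x = x * y) :
    y ∈ A := by
  classical
  haveI := isSimple hG
  by_contra hyA
  have hpp : p.Prime := ctx.hp
  have hTc := sylIn_comm ctx.h17 hT
  have hΩ := sylIn_omega ctx.h17 hT hAT
  have hAS : A ≤ (S : Subgroup G) := hAT.trans hTS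
  -- the order of `y`
  have hex : ∃ k, y ^ p ^ k = 1 := by
    obtain ⟨k, hk⟩ := hT.isPGroup ⟨y, hyT⟩
    exact ⟨k, by simpa using congrArg Subtype.val hk⟩
  set k := Nat.find hex with hkdef
  have hk : y ^ p ^ k = 1 := Nat.find_spec hex
  have hmin : ∀ j < k, y ^ p ^ j ≠ 1 := fun j hj => Nat.find_min hex hj
  have hyp : y ^ p ≠ 1 := fun h => hyA ((hΩ y hyT).mp h)
  have hk2 : 2 ≤ k := by
    by_contra hlt
    have : k = 0 ∨ k = 1 := by omega
    rcases this with h0 | h1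
    · rw [h0, pow_zero, pow_one] at hk
      exact hyA (hk ▸ A.one_mem)
    · rw [h1, pow_one] at hk
      exact hyp hk
  obtain ⟨j, hj⟩ : ∃ j, k = j + 2 := ⟨k - 2, by omega⟩
  set u := y ^ p ^ j with hu
  set x0 := u ^ p with hx0
  have hx0y : x0 = y ^ p ^ (j + 1) := by rw [hx0, hu, ← pow_mul, ← pow_succ]
  have hx01 : x0 ≠ 1 := by rw [hx0y]; exact hmin (j + 1) (by omega)
  have hx0p : x0 ^ p = 1 := by
    rw [hx0y, ← pow_mul, ← pow_succ]
    have : j + 1 + 1 = k := by omega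
    rw [this]; exact hk
  have huT : u ∈ T := pow_mem hyT _
  have hx0T : x0 ∈ T := pow_mem huT _
  have hx0A : x0 ∈ A := (hΩ x0 hx0T).mp hx0p
  have hx0o : orderOf x0 = p := orderOf_eq_prime hx0p hx01
  have hx0x : x0 * x = x * x0 := by
    rw [hx0y]
    have hc : Commute y x := hyx
    exact (hc.pow_left _).eq
  -- `X = ⟨x0⟩` is a bad line
  have hXA : zpowers x0 ≤ A := zpowers_le.mpr hx0A
  have hXc : Nat.card (zpowers x0) = p := by rw [Nat.card_zpowers, hx0o]
  have hXbad : sigmaCore M ⊓ centralizer ((zpowers x0 : Subgroup G) : Set G) ≠ ⊥ := by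
    intro h
    have hmem : x ∈ sigmaCore M ⊓ centralizer ((zpowers x0 : Subgroup G) : Set G) := by
      refine Subgroup.mem_inf.mpr ⟨hx, ?_⟩
      rw [Cfsg.Agent.H3BG15.centralizer_zpowers, mem_centralizer_iff]
      intro h hh
      rw [Set.mem_singleton_iff] at hh
      rw [hh]; exact hx0x
    rw [h, mem_bot] at hmem
    exact hx1 hmem
  obtain ⟨-, hu'⟩ := ctx.hbad _ hXA hXc hXbad
  have hX1 : zpowers x0 ≠ ⊥ := zpowers_ne_bot.mpr hx01
  have hXt : zpowers x0 ≠ ⊤ := by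
    intro h
    have h1 : (⊤ : Subgroup G) ≤ M := by
      rw [← h]; exact hXA.trans (ctx.hAE.trans hEM)
    exact hM.1 (top_le_iff.mp h1)
  have hNX : normalizer ((zpowers x0 : Subgroup G) : Set G) ≤ M :=
    Cfsg.Agent.Helper55.BGB.normalizer_le_of_unique hX1 hXt hu'
  -- a central element of `S` in `A`
  have hpM : p ∣ Nat.card M := by
    have h1 : p ∣ Nat.card A := by rw [ctx.hAcard]; exact dvd_pow_self p (by norm_num)
    exact h1.trans (Subgroup.card_dvd_of_le (ctx.hAE.trans hEM))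
  have hp2 : p ≠ 2 := prime_ne_two hG M hpM
  have hSnt : Nontrivial ↥(S : Subgroup G) := by
    refine ⟨⟨⟨x0, hAS hx0A⟩, 1, ?_⟩⟩
    intro h
    exact hx01 (congrArg Subtype.val h)
  have hZnt : Nontrivial ↥(center ↥(S : Subgroup G)) := S.isPGroup'.center_nontrivial
  have hZp : IsPGroup p ↥(center ↥(S : Subgroup G)) := S.isPGroup'.to_subgroup _
  have hZdvd : p ∣ Nat.card ↥(center ↥(S : Subgroup G)) := by
    rcases hZp.card_eq_or_dvd with h | h
    · exact absurd h (by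
        have := Finite.one_lt_card (α := ↥(center ↥(S : Subgroup G)))
        omega)
    · exact h
  obtain ⟨c, hc⟩ := exists_prime_orderOf_dvd_card' p hZdvd
  set z0 : G := ((c : ↥(S : Subgroup G)) : G) with hz0
  have hz0S : z0 ∈ (S : Subgroup G) := (c : ↥(S : Subgroup G)).2
  have hz0o : orderOf z0 = p := by
    rw [hz0, Subgroup.orderOf_coe, Subgroup.orderOf_coe]; exact hc
  have hz01 : z0 ≠ 1 := by
    intro h
    rw [h, orderOf_one] at hz0o
    exact hpp.one_lt.ne hz0o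
  have hz0c : ∀ s ∈ (S : Subgroup G), s * z0 = z0 * s := by
    intro s hs
    have h1 := (mem_center_iff.mp c.2) ⟨s, hs⟩
    have h2 := congrArg Subtype.val h1
    simpa using h2
  have hz0A : z0 ∈ A := by
    apply Cfsg.Agent.Helper29.BG127.mem_of_centralizes_of_max ctx.hAel ctx.hmax
    · rw [mem_centralizer_iff]
      intro a ha
      exact hz0c a (hAS ha)
    · rw [← hz0o]; exact pow_orderOf_eq_one z0
  obtain ⟨C, hC1, hC2⟩ := Cfsg.Agent.Helper29.BG127.exists_power_subgroup hG p hp2 S hSna A hAS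
    ctx.hAel ctx.hAcard ctx.hmax z0 hz0A hz01 hz0c
  -- elements of `T` of order dividing `p²` have central `p`-th powers
  have hkey : ∀ v ∈ T, v ^ p ^ 2 = 1 → (v ^ p ∈ A ∧ ∀ s ∈ (S : Subgroup G), s * v ^ p = v ^ p * s) := by
    intro v hvT hv2
    have hvC : v ∈ centralizer (A : Set G) := by
      rw [mem_centralizer_iff]
      intro a ha
      exact hTc a (hAT ha) v hvT
    have h1 : v ^ p ∈ C := hC1 v (hTS hvT) hvC
    have h2 : (v ^ p) ^ p = 1 := by rw [← pow_mul, ← sq]; exact hv2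
    exact ⟨(hΩ _ (pow_mem hvT p)).mp h2, hC2 _ h1 h2⟩
  have hu2 : u ^ p ^ 2 = 1 := by
    rw [hu, ← pow_mul, ← pow_add, ← hj]; exact hk
  have hx0cen := (hkey u huT hu2).2
  -- the normalizer of `T` normalizes `⟨x0⟩`
  have hNT : normalizer (T : Set G) ≤ normalizer ((zpowers x0 : Subgroup G) : Set G) := by
    apply Cfsg.Agent.H3BG15.normalizer_le_normalizer_zpowers
    intro g hg
    have hgu : g * u * g⁻¹ ∈ T := (mem_normalizer_iff.mp hg u).mp huT
    have hgu2 : (g * u * g⁻¹) ^ p ^ 2 = 1 := by rw [conj_pow, hu2]; group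
    obtain ⟨hx1A, hx1c⟩ := hkey _ hgu hgu2
    have hx1eq : (g * u * g⁻¹) ^ p = g * x0 * g⁻¹ := by rw [conj_pow]
    rw [hx1eq] at hx1A hx1c
    by_contra hnot
    -- then `A = ⟨x0, x1⟩` is central in `S`
    set x1 := g * x0 * g⁻¹ with hx1
    set B := zpowers x0 ⊔ zpowers x1 with hB
    have hBA : B ≤ A := sup_le hXA (zpowers_le.mpr hx1A)
    have hlt : zpowers x0 < B := by
      refine lt_of_le_of_ne le_sup_left ?_
      intro h
      apply hnot
      rw [h]
      exact (le_sup_right : zpowers x1 ≤ B) (mem_zpowers x1)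
    have hcardlt : Nat.card (zpowers x0) < Nat.card B := by
      have hle : Nat.card (zpowers x0) ∣ Nat.card B := Subgroup.card_dvd_of_le hlt.le
      rcases (Nat.le_of_dvd Nat.card_pos hle).lt_or_eq with h | h
      · exact h
      · exact absurd (Subgroup.eq_of_le_of_card_ge hlt.le h.ge) hlt.ne
    have hBdvd : Nat.card B ∣ p ^ 2 := by
      rw [← ctx.hAcard]; exact Subgroup.card_dvd_of_le hBA
    obtain ⟨m, hm2, hm⟩ := (Nat.dvd_prime_pow hpp).mp hBdvd
    have hm2' : m = 2 := by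
      rw [hXc, hm] at hcardlt
      have h1 : 1 < m := by
        by_contra hle
        have : m = 0 ∨ m = 1 := by omega
        rcases this with h0 | h1
        · rw [h0, pow_zero] at hcardlt
          have := hpp.one_lt
          omega
        · rw [h1, pow_one] at hcardlt
          omega
      omega
    have hBeq : B = A := by
      apply Subgroup.eq_of_le_of_card_ge hBA
      rw [ctx.hAcard, hm, hm2']
    have hScent : (S : Subgroup G) ≤ centralizer (A : Set G) := by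
      intro s hs
      rw [mem_centralizer_iff]
      intro a ha
      have haB : a ∈ B := by rw [hBeq]; exact ha
      have hBle : B ≤ centralizer ({s} : Set G) := by
        apply sup_le <;> rw [zpowers_le, mem_centralizer_iff] <;> intro h hh <;>
          rw [Set.mem_singleton_iff] at hh <;> rw [hh]
        · exact hx0cen s hs
        · exact hx1c s hs
      have := (mem_centralizer_iff.mp (hBle haB)) s (Set.mem_singleton s)
      exact this.symm
    have hSM : (S : Subgroup G) ≤ M := hScent.trans (ctx.hcent.trans hEM)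
    obtain ⟨T', hT', hST'⟩ := exists_isSylIn_ge (p := p) S.isPGroup' hSM
    have hT'c := sylIn_comm ctx.h17 hT'
    apply hSna
    refine ⟨⟨fun a b => ?_⟩⟩
    apply Subtype.ext
    exact hT'c _ (hST' a.2) _ (hST' b.2)
  -- contradiction with S1417(b)
  have hmap := sylIn_map_eq hT
  have h2 := ((ctx.h17.2.1 hT.toSylow).2 (by rw [hmap]; exact hAT)).2
  rw [hmap] at h2
  exact h2 (hNT.trans hNX)

/-! ### Two general lemmas -/

/-- in a group of `q`-rank one, an element of order dividing `q` commuting with an element `w` of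
order `q` is a power of `w`. -/
theorem mem_zpowers_of_pRankLE_one {M : Subgroup G} {q : ℕ} (hq : q.Prime) (h1 : PRankLE q 1 ↥M)
    {w x : G} (hwM : w ∈ M) (hxM : x ∈ M) (hw : w ^ q = 1) (hw1 : w ≠ 1) (hx : x ^ q = 1)
    (hxw : x * w = w * x) : x ∈ zpowers w := by
  haveI := Fact.mk hq
  have hcomm : ∀ a ∈ zpowers w, ∀ b ∈ zpowers x, a * b = b * a := by
    intro a ha b hb
    obtain ⟨i, rfl⟩ := mem_zpowers_iff.mp ha
    obtain ⟨j, rfl⟩ := mem_zpowers_iff.mp hb
    have hc : Commute w x := hxw.symm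
    exact ((hc.zpow_left i).zpow_right j).eq
  set B := zpowers w ⊔ zpowers x with hB
  have hBM : B ≤ M := sup_le (zpowers_le.mpr hwM) (zpowers_le.mpr hxM)
  have hform : ∀ u ∈ B, ∃ i j : ℤ, u = w ^ i * x ^ j := by
    intro u hu
    obtain ⟨a, ha, b, hb, rfl⟩ := Cfsg.Agent.Helper29.BG127.mem_sup_of_comm' hcomm hu
    obtain ⟨i, rfl⟩ := mem_zpowers_iff.mp ha
    obtain ⟨j, rfl⟩ := mem_zpowers_iff.mp hb
    exact ⟨i, j, rfl⟩
  have hc : Commute w x := hxw.symm
  have hBc : ∀ u ∈ B, ∀ v ∈ B, u * v = v * u := by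
    intro u hu v hv
    obtain ⟨i, j, rfl⟩ := hform u hu
    obtain ⟨i', j', rfl⟩ := hform v hv
    have h1 : Commute (w ^ i) (w ^ i') := (Commute.refl w).zpow_zpow i i'
    have h2 : Commute (w ^ i) (x ^ j') := (hc.zpow_left i).zpow_right j'
    have h3 : Commute (x ^ j) (w ^ i') := (hc.symm.zpow_left j).zpow_right i'
    have h4 : Commute (x ^ j) (x ^ j') := (Commute.refl x).zpow_zpow j j'
    exact ((h1.mul_right h2).mul_left (h3.mul_right h4)).eq
  have hBe : ∀ u ∈ B, u ^ q = 1 := by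
    intro u hu
    obtain ⟨i, j, rfl⟩ := hform u hu
    have h2 : Commute (w ^ i) (x ^ j) := (hc.zpow_left i).zpow_right j
    rw [h2.mul_pow, ← zpow_natCast, ← zpow_mul, mul_comm, zpow_mul, zpow_natCast, hw, one_zpow,
      ← zpow_natCast (x ^ j), ← zpow_mul, mul_comm, zpow_mul, zpow_natCast, hx, one_zpow, one_mul]
  have hcard : Nat.card (B.subgroupOf M) ≤ q ^ 1 := by
    apply h1 (B.subgroupOf M)
    · refine ⟨⟨fun a b => ?_⟩⟩
      apply Subtype.ext
      apply Subtype.ext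
      exact hBc _ (mem_subgroupOf.mp a.2) _ (mem_subgroupOf.mp b.2)
    · intro a ha
      apply Subtype.ext
      exact hBe _ (mem_subgroupOf.mp ha)
  rw [Cfsg.Agent.Helper29.BG12.card_subgroupOf_of_le hBM, pow_one] at hcard
  have hwo : Nat.card (zpowers w) = q := by rw [Nat.card_zpowers, orderOf_eq_prime hw hw1]
  have heq : zpowers w = B :=
    Subgroup.eq_of_le_of_card_ge le_sup_left (by rw [hwo]; exact hcard)
  rw [heq]
  exact (le_sup_right : zpowers x ≤ B) (mem_zpowers x)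

/-- a normal `q`-complement contains every element of order prime to `q`. -/
theorem exists_of_hasNormalPComplement {H : Type*} [Group H] [Finite H] {q : ℕ} [hq : Fact q.Prime]
    (h : HasNormalPComplement q H) :
    ∃ N' : Subgroup H, (Nat.card N').Coprime q ∧ ∀ g : H, (orderOf g).Coprime q → g ∈ N' := by
  obtain ⟨Q, N', hN, hc⟩ := h
  haveI := hN
  refine ⟨N', ?_, ?_⟩
  · have h1 : (Q : Subgroup H).index = Nat.card N' := hc.index_eq_card
    rw [← h1]
    exact ((Nat.Prime.coprime_iff_not_dvd hq.out).mpr Q.not_dvd_index).symm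
  · intro g hg
    have h1 : N'.index = Nat.card (Q : Subgroup H) := hc.symm.index_eq_card
    obtain ⟨n, hn⟩ := (IsPGroup.iff_card.mp Q.isPGroup')
    have h2 : orderOf ((QuotientGroup.mk' N') g) ∣ orderOf g := orderOf_map_dvd _ g
    have h3 : orderOf ((QuotientGroup.mk' N') g) ∣ q ^ n := by
      rw [← hn, ← h1, Subgroup.index_eq_card]
      exact orderOf_dvd_natCard _
    have h4 : orderOf ((QuotientGroup.mk' N') g) ∣ 1 := by
      have := Nat.dvd_gcd h2 h3
      rwa [(hg.pow_right n).gcd_eq_one] at this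
    have h5 : (QuotientGroup.mk' N') g = 1 := orderOf_eq_one_iff.mp (Nat.dvd_one.mp h4)
    exact (QuotientGroup.eq_one_iff g).mp h5

/-! ### The case of abelian Sylow `p`-subgroups -/

omit [Finite G] in
/-- elements of `E` of order dividing `p` lie in `A`. -/
theorem mem_A_of_pow_eq_one {M E : Subgroup G} {p : ℕ} {A : Subgroup G} (ctx : Tau2Ctx M E p A)
    {x : G} (hxE : x ∈ E) (hxp : x ^ p = 1) : x ∈ A := by
  haveI := Fact.mk ctx.hp
  by_cases hx1 : x = 1
  · rw [hx1]; exact A.one_mem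
  · have hc : Nat.card (zpowers x) = p := by rw [Nat.card_zpowers, orderOf_eq_prime hxp hx1]
    exact ctx.hsub (zpowers x) (zpowers_le.mpr hxE) hc (mem_zpowers x)

omit [Finite G] in
theorem conj_mem_centralizer {A : Subgroup G} {g c : G} (hg : g ∈ normalizer (A : Set G))
    (hc : c ∈ centralizer (A : Set G)) : g * c * g⁻¹ ∈ centralizer (A : Set G) := by
  rw [mem_centralizer_iff]
  intro a ha
  have ha' : g⁻¹ * a * g ∈ A := by
    have := (mem_normalizer_iff.mp (inv_mem hg) a).mp ha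
    simpa using this
  have h1 : (g⁻¹ * a * g) * c = c * (g⁻¹ * a * g) := (mem_centralizer_iff.mp hc) _ ha'
  calc a * (g * c * g⁻¹) = g * ((g⁻¹ * a * g) * c) * g⁻¹ := by group
    _ = g * (c * (g⁻¹ * a * g)) * g⁻¹ := by rw [h1]
    _ = g * c * g⁻¹ * a := by group

/-- The data of the abelian case: an abelian Sylow `p`-subgroup `S` of `G` containing `A`. -/
structure BetaCtx (E : Subgroup G) (p : ℕ) [Fact p.Prime] (A : Subgroup G) (S : Sylow p G) : Prop where
  hAS : A ≤ (S : Subgroup G)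
  hSE : (S : Subgroup G) ≤ E
  hSc : ∀ a ∈ (S : Subgroup G), ∀ b ∈ (S : Subgroup G), a * b = b * a

theorem BetaCtx.normalizer_le {M E : Subgroup G} {p : ℕ} [Fact p.Prime] {A : Subgroup G}
    {S : Sylow p G} (ctx : Tau2Ctx M E p A) (hβ : BetaCtx E p A S) :
    normalizer ((S : Subgroup G) : Set G) ≤ normalizer (A : Set G) := by
  apply Cfsg.Agent.H3BG15.le_set_normalizer_of_forall
  intro g hg a ha
  have h1 : g * a * g⁻¹ ∈ (S : Subgroup G) := (mem_normalizer_iff.mp hg a).mp (hβ.hAS ha)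
  apply mem_A_of_pow_eq_one ctx (hβ.hSE h1)
  rw [conj_pow, ctx.hAel.2 a ha]; group

theorem BetaCtx.le_commutator (hG : IsMinSimpleOddOrder G) {E : Subgroup G} {p : ℕ} [Fact p.Prime]
    {A : Subgroup G} {S : Sylow p G} (_hβ : BetaCtx E p A S) :
    (S : Subgroup G) ≤ ⁅normalizer ((S : Subgroup G) : Set G), normalizer ((S : Subgroup G) : Set G)⁆ := by
  have hloc := Cfsg.Agent.Helper30.BGFus.hloc_of_minSimple hG S
  have hperf := Cfsg.Agent.Helper30.BGFus.commutator_eq_top_of_minSimple hG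
  exact (Cfsg.Agent.Helper30.BGFus.sylow_le_commutator_normalizer S hloc hperf).trans
    (Subgroup.commutator_mono Subgroup.le_normalizer le_rfl)

/-- conjugation by `N_G(S)` preserves `C_G(A) ≤ E`. -/
theorem BetaCtx.conj_mem {M E : Subgroup G} {p : ℕ} [Fact p.Prime] {A : Subgroup G}
    {S : Sylow p G} (ctx : Tau2Ctx M E p A) (hβ : BetaCtx E p A S) {g c : G}
    (hg : g ∈ normalizer ((S : Subgroup G) : Set G)) (hc : c ∈ centralizer (A : Set G)) :
    g * c * g⁻¹ ∈ centralizer (A : Set G) :=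
  conj_mem_centralizer (hβ.normalizer_le ctx hg) hc

/-- Rank one: `S` centralizes the elements of order `q` of `E'`. -/
theorem BetaCtx.commute_rank_one (hG : IsMinSimpleOddOrder G) {M E : Subgroup G} (hEM : E ≤ M)
    {p : ℕ} [Fact p.Prime] {A : Subgroup G} {S : Sylow p G} (ctx : Tau2Ctx M E p A)
    (hβ : BetaCtx E p A S) (hE'c : ∀ a ∈ ⁅E, E⁆, ∀ b ∈ ⁅E, E⁆, a * b = b * a)
    {q : ℕ} (hq : q.Prime) (hqp : q ≠ p) (hr1 : PRankLE q 1 ↥M) {w : G} (hw : w ∈ ⁅E, E⁆)
    (hwq : w ^ q = 1) : ∀ s ∈ (S : Subgroup G), s * w = w * s := by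
  intro s hs
  by_cases hw1 : w = 1
  · rw [hw1, mul_one, one_mul]
  have hwE : w ∈ E := commutator_le_self E hw
  have hcop : q.Coprime p := (Nat.coprime_primes hq ctx.hp).mpr hqp
  -- (i) `⟨w⟩` is normal in `E`
  have hi : ∀ g ∈ E, g * w * g⁻¹ ∈ zpowers w := by
    intro g hg
    have h1 : g * w * g⁻¹ ∈ ⁅E, E⁆ := conj_mem_commutator hg hw
    apply mem_zpowers_of_pRankLE_one hq hr1 (hEM hwE) (hEM (commutator_le_self E h1)) hwq hw1
    · rw [conj_pow, hwq]; group
    · exact hE'c _ h1 _ hw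
  -- (ii) `⟨w⟩` contains all elements of order dividing `q` of `E`
  have hii : ∀ x ∈ E, x ^ q = 1 → x ∈ zpowers w := by
    intro x hx hxq
    have h1 : x * w = w * x := commute_of_normalizes_prime hq hwq hxq (hi x hx)
    exact mem_zpowers_of_pRankLE_one hq hr1 (hEM hwE) (hEM hx) hwq hw1 hxq h1
  -- (iii) `w` centralizes `A`
  have hiii : w ∈ centralizer (A : Set G) := by
    rw [mem_centralizer_iff]
    intro a ha
    have haE : a ∈ E := ctx.hAE ha
    have hc1 : a * w * a⁻¹ * w⁻¹ ∈ zpowers w := mul_mem (hi a haE) (inv_mem (mem_zpowers w))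
    have hc2 : a * w * a⁻¹ * w⁻¹ ∈ A := by
      have : a * w * a⁻¹ * w⁻¹ = a * (w * a⁻¹ * w⁻¹) := by group
      rw [this]
      exact A.mul_mem ha (conj_mem_of_le_normalizer ctx.hnorm hwE (A.inv_mem ha))
    have hcq : (a * w * a⁻¹ * w⁻¹) ^ q = 1 := by
      obtain ⟨i, hi'⟩ := mem_zpowers_iff.mp hc1
      rw [← hi', ← zpow_natCast, ← zpow_mul, mul_comm, zpow_mul, zpow_natCast, hwq, one_zpow]
    have hcp : (a * w * a⁻¹ * w⁻¹) ^ p = 1 := ctx.hAel.2 _ hc2
    exact eq_of_commutator_eq_one (eq_one_of_pow_eq_one_of_coprime hcop hcq hcp)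
  -- (iv) `N_G(S)` normalizes `⟨w⟩`
  have hiv : ∀ g ∈ normalizer ((S : Subgroup G) : Set G), g * w * g⁻¹ ∈ zpowers w := by
    intro g hg
    apply hii _ (ctx.hcent (hβ.conj_mem ctx hg hiii))
    rw [conj_pow, hwq]; group
  have hiv' : ∀ g ∈ normalizer ((S : Subgroup G) : Set G), ∀ u ∈ zpowers w,
      g * u * g⁻¹ ∈ zpowers w := by
    intro g hg u hu
    obtain ⟨i, rfl⟩ := mem_zpowers_iff.mp hu
    rw [← conj_zpow]
    exact zpow_mem (hiv g hg) i
  -- (v) commutators of `N_G(S)` centralize `w`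
  have hv : ⁅normalizer ((S : Subgroup G) : Set G), normalizer ((S : Subgroup G) : Set G)⁆ ≤
      centralizer ({w} : Set G) := by
    rw [Subgroup.commutator_le]
    intro g hg h hh
    -- `g h` and `h g` act in the same way on `⟨w⟩`
    obtain ⟨i, hgi⟩ := mem_zpowers_iff.mp (hiv g hg)
    obtain ⟨j, hhj⟩ := mem_zpowers_iff.mp (hiv h hh)
    have hsame : ∀ u ∈ zpowers w, (g * h) * u * (g * h)⁻¹ = (h * g) * u * (h * g)⁻¹ := by
      intro u hu
      obtain ⟨t, rfl⟩ := mem_zpowers_iff.mp hu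
      have e1 : (g * h) * w ^ t * (g * h)⁻¹ = (g * (h * w * h⁻¹) * g⁻¹) ^ t := by
        rw [← conj_zpow]; congr 1; group
      have e2 : (h * g) * w ^ t * (h * g)⁻¹ = (h * (g * w * g⁻¹) * h⁻¹) ^ t := by
        rw [← conj_zpow]; congr 1; group
      rw [e1, e2]
      congr 1
      rw [← hhj, ← hgi, ← conj_zpow, ← conj_zpow, ← hgi, ← hhj, ← zpow_mul, ← zpow_mul, mul_comm]
    -- w' = (h g)⁻¹ w (h g)
    have hhg : (h * g)⁻¹ ∈ normalizer ((S : Subgroup G) : Set G) := inv_mem (mul_mem hh hg)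
    have hw' : (h * g)⁻¹ * w * (h * g) ∈ zpowers w := by
      have := hiv _ hhg
      simpa using this
    have h1 := hsame _ hw'
    have h2 : (h * g) * ((h * g)⁻¹ * w * (h * g)) * (h * g)⁻¹ = w := by group
    rw [h2] at h1
    rw [mem_centralizer_iff]
    intro z hz
    rw [Set.mem_singleton_iff] at hz
    rw [hz]
    have h3 : ⁅g, h⁆ * w * ⁅g, h⁆⁻¹ = w := by
      rw [commutatorElement_def]
      calc g * h * g⁻¹ * h⁻¹ * w * (g * h * g⁻¹ * h⁻¹)⁻¹
          = (g * h) * ((h * g)⁻¹ * w * (h * g)) * (g * h)⁻¹ := by group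
        _ = w := h1
    calc w * ⁅g, h⁆ = (⁅g, h⁆ * w * ⁅g, h⁆⁻¹) * ⁅g, h⁆ := by rw [h3]
      _ = ⁅g, h⁆ * w := by group
  have h6 := hv (hβ.le_commutator hG hs)
  exact ((mem_centralizer_iff.mp h6) w (Set.mem_singleton w)).symm

/-- Rank two: `S` centralizes the elements of order `q` of `E`, for `q ∈ τ₂(M)`, `q ≠ p`. -/
theorem BetaCtx.commute_tau2 (hG : IsMinSimpleOddOrder G) {M E : Subgroup G} (hM : IsCoatom M)
    (hE : IsComplIn E (sigmaCore M) M)
    {p : ℕ} [Fact p.Prime] {A : Subgroup G} {S : Sylow p G} (ctx : Tau2Ctx M E p A)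
    (hβ : BetaCtx E p A S) {q : ℕ} (hqτ : q ∈ tau2 M) (hqp : q ≠ p) {w : G} (hwE : w ∈ E)
    (hwq : w ^ q = 1) : ∀ s ∈ (S : Subgroup G), s * w = w * s := by
  intro s hs
  haveI := isSimple hG
  obtain ⟨Aq, ctxq⟩ := exists_ctx hG hM hE hqτ
  have hq : q.Prime := ctxq.hp
  haveI := Fact.mk hq
  have hcop : p.Coprime q := (Nat.coprime_primes ctx.hp hq).mpr (Ne.symm hqp)
  have hwAq : w ∈ Aq := mem_A_of_pow_eq_one ctxq hwE hwq
  have hEM : E ≤ M := hE.1
  -- (i) `A_q` centralizes `A`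
  have hi : Aq ≤ centralizer (A : Set G) := by
    intro a ha
    rw [mem_centralizer_iff]
    intro b hb
    have haE : a ∈ E := ctxq.hAE ha
    have hbE : b ∈ E := ctx.hAE hb
    have hc1 : a * b * a⁻¹ * b⁻¹ ∈ A :=
      A.mul_mem (conj_mem_of_le_normalizer ctx.hnorm haE hb) (A.inv_mem hb)
    have hc2 : a * b * a⁻¹ * b⁻¹ ∈ Aq := by
      have : a * b * a⁻¹ * b⁻¹ = a * (b * a⁻¹ * b⁻¹) := by group
      rw [this]
      exact Aq.mul_mem ha (conj_mem_of_le_normalizer ctxq.hnorm hbE (Aq.inv_mem ha))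
    have := eq_of_commutator_eq_one
      (eq_one_of_pow_eq_one_of_coprime hcop (ctx.hAel.2 _ hc1) (ctxq.hAel.2 _ hc2))
    exact this.symm
  -- (ii) `N_G(S)` normalizes `A_q`
  have hii : normalizer ((S : Subgroup G) : Set G) ≤ normalizer (Aq : Set G) := by
    apply Cfsg.Agent.H3BG15.le_set_normalizer_of_forall
    intro g hg a ha
    apply mem_A_of_pow_eq_one ctxq (ctx.hcent (hβ.conj_mem ctx hg (hi ha)))
    rw [conj_pow, ctxq.hAel.2 a ha]; group
  -- (iii) a maximal subgroup over `N_G(A_q)`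
  have hAq1 : Aq ≠ ⊥ := by
    intro h
    have h1 := ctxq.hAcard
    rw [h, Subgroup.card_bot] at h1
    have := hq.one_lt
    have : 1 < q ^ 2 := Nat.one_lt_pow (by norm_num) this
    omega
  have hAqt : Aq ≠ ⊤ := by
    intro h
    have h1 : (⊤ : Subgroup G) ≤ M := by rw [← h]; exact ctxq.hAE.trans hEM
    exact hM.1 (top_le_iff.mp h1)
  have hNt : normalizer (Aq : Set G) ≠ ⊤ :=
    Cfsg.Agent.Helper54.normalizer_ne_top_of_isSimpleGroup Aq hAq1 hAqt
  obtain ⟨L, hL, hNL⟩ := exists_coatom_ge hNt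
  have hAqL : Aq ≤ L := le_normalizer.trans hNL
  have hqL : q ∣ Nat.card L := by
    have h1 : q ∣ Nat.card Aq := by rw [ctxq.hAcard]; exact dvd_pow_self q (by norm_num)
    exact h1.trans (Subgroup.card_dvd_of_le hAqL)
  have hqβ : q ∉ beta L := fun h => ctxq.hnotideal h.2
  have hnpc := ((Cfsg.Agent.S1414.result hG L hL).2.2.2.2 q hq hqL hqβ).1
  obtain ⟨N', hN'cop, hN'mem⟩ := exists_of_hasNormalPComplement hnpc
  -- (vi)
  have hWL : normalizer ((S : Subgroup G) : Set G) ≤ L := hii.trans hNL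
  have hsL' : s ∈ ⁅L, L⁆ := Subgroup.commutator_mono hWL hWL (hβ.le_commutator hG hs)
  obtain ⟨k, hk⟩ : ∃ k, s ^ p ^ k = 1 := by
    obtain ⟨k, hk⟩ := S.isPGroup' ⟨s, hs⟩
    exact ⟨k, by simpa using congrArg Subtype.val hk⟩
  have hwL : w ∈ L := hAqL hwAq
  have htL' : w * s⁻¹ * w⁻¹ ∈ ⁅L, L⁆ := conj_mem_commutator hwL (inv_mem hsL')
  have hcopk : (p ^ k).Coprime q := hcop.pow_left k
  have hs'o : (orderOf (⟨s, hsL'⟩ : ↥⁅L, L⁆)).Coprime q := by
    apply Nat.Coprime.coprime_dvd_left _ hcopk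
    apply orderOf_dvd_of_pow_eq_one
    apply Subtype.ext
    simpa using hk
  have ht'o : (orderOf (⟨w * s⁻¹ * w⁻¹, htL'⟩ : ↥⁅L, L⁆)).Coprime q := by
    apply Nat.Coprime.coprime_dvd_left _ hcopk
    apply orderOf_dvd_of_pow_eq_one
    apply Subtype.ext
    simp only [Subgroup.coe_pow, Subgroup.coe_one]
    rw [conj_pow, inv_pow, hk]; group
  have hcN' : (⟨s, hsL'⟩ : ↥⁅L, L⁆) * ⟨w * s⁻¹ * w⁻¹, htL'⟩ ∈ N' :=
    N'.mul_mem (hN'mem _ hs'o) (hN'mem _ ht'o)
  have hcpow : (s * w * s⁻¹ * w⁻¹) ^ Nat.card N' = 1 := by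
    have h1 : (⟨_, hcN'⟩ : N') ^ Nat.card N' = 1 := pow_card_eq_one'
    have h2 := congrArg (fun z : N' => ((z : ↥⁅L, L⁆) : G)) h1
    simp only [Subgroup.coe_pow, Subgroup.coe_mul, Subgroup.coe_one] at h2
    rw [← h2]
    congr 1
    group
  have hcAq : s * w * s⁻¹ * w⁻¹ ∈ Aq :=
    Aq.mul_mem (conj_mem_of_le_normalizer ctxq.hnorm (hβ.hSE hs) hwAq) (Aq.inv_mem hwAq)
  exact eq_of_commutator_eq_one
    (eq_one_of_pow_eq_one_of_coprime hN'cop hcpow (ctxq.hAel.2 _ hcAq))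

/-- **Abelian case**: `S` centralizes `E'`. -/
theorem BetaCtx.commute_commutator (hG : IsMinSimpleOddOrder G) {M E : Subgroup G} (hM : IsCoatom M)
    (hE : IsComplIn E (sigmaCore M) M)
    {p : ℕ} [Fact p.Prime] {A : Subgroup G} {S : Sylow p G} (ctx : Tau2Ctx M E p A)
    (hβ : BetaCtx E p A S) (hE'c : ∀ a ∈ ⁅E, E⁆, ∀ b ∈ ⁅E, E⁆, a * b = b * a) :
    ∀ s ∈ (S : Subgroup G), ∀ z ∈ ⁅E, E⁆, s * z = z * s := by
  intro s hs z hz
  have hEM : E ≤ M := hE.1
  have hσ := (Cfsg.Agent.S1350.result hG M hM).1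
  have h05 := Cfsg.Agent.S1405.result hG M hM
  have hsE : s ∈ E := hβ.hSE hs
  obtain ⟨k, hk⟩ : ∃ k, s ^ p ^ k = 1 := by
    obtain ⟨k, hk⟩ := S.isPGroup' ⟨s, hs⟩
    exact ⟨k, by simpa using congrArg Subtype.val hk⟩
  apply (commute_of_forall_prime_pow (s := s) (orderOf z) z rfl (orderOf_pos z) ?_).eq
  intro q l hq w hw hwl
  have hwE' : w ∈ ⁅E, E⁆ := (zpowers_le.mpr hz) hw
  by_cases hqp : q = p
  · subst hqp
    exact commute_p_elements hEM ctx hE'c hsE hk hwE' hwl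
  · have hcop : (p ^ k).Coprime q :=
      ((Nat.coprime_primes ctx.hp hq).mpr (Ne.symm hqp)).pow_left k
    apply commute_of_commute_omega hE'c (fun b hb => conj_mem_commutator hsE hb) hk hcop ?_ l w
      hwE' hwl
    intro v hv hvq
    by_cases hv1 : v = 1
    · rw [hv1, mul_one, one_mul]
    have hvE : v ∈ E := commutator_le_self E hv
    haveI := Fact.mk hq
    have hqE : q ∣ Nat.card E := by
      have h1 : orderOf v = q := orderOf_eq_prime hvq hv1
      rw [← h1]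
      exact Subgroup.orderOf_dvd_natCard E hvE
    have hqσ : q ∉ sigma M := Cfsg.Agent.Helper38.BG128.not_mem_sigma_of_dvd' hσ hE hq hqE
    by_cases hr1 : PRankLE q 1 ↥M
    · exact hβ.commute_rank_one hG hEM ctx hE'c hq hqp hr1 hv hvq s hs
    · have hr2 : PRankLE q 2 ↥M :=
        Cfsg.Agent.Helper55.BGB.prankLE_two_of_not_mem_sigma hq h05.1 h05.2.2.1 hqσ
      exact hβ.commute_tau2 hG hM hE ctx ⟨hq, hqσ, hr2, hr1⟩ hqp hvE hvq s hs

/-! ### The main statements -/

/-- A `p`-element of `E` (`p ∈ τ₂(M)`) centralizing a nonidentity element of `M_σ` centralizes `E'`. -/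
theorem commute_of_nonregular_p (hG : IsMinSimpleOddOrder G) {M E : Subgroup G} (hM : IsCoatom M)
    (hE : IsComplIn E (sigmaCore M) M) {p : ℕ} (hpτ : p ∈ tau2 M)
    (hE'c : ∀ a ∈ ⁅E, E⁆, ∀ b ∈ ⁅E, E⁆, a * b = b * a)
    {y : G} (hyE : y ∈ E) {k : ℕ} (hyk : y ^ p ^ k = 1) {x : G} (hx : x ∈ sigmaCore M)
    (hx1 : x ≠ 1) (hyx : y * x = x * y) : ∀ z ∈ ⁅E, E⁆, y * z = z * y := by
  haveI : Fact p.Prime := ⟨hpτ.1⟩
  have hEM : E ≤ M := hE.1
  obtain ⟨A, ctx⟩ := exists_ctx hG hM hE hpτ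
  have hYp : IsPGroup p (zpowers y) := Cfsg.Agent.Helper38.BG128.isPGroup_zpowers_of_pow hyk
  have hAp : IsPGroup p A := isElementaryAbelian_isPGroup ctx.hAel
  have hYN : zpowers y ≤ normalizer (A : Set G) := (zpowers_le.mpr hyE).trans ctx.hnorm
  have hS : IsPGroup p (zpowers y ⊔ A : Subgroup G) := hYp.to_sup_of_normal_right' hAp hYN
  have hSM : zpowers y ⊔ A ≤ M := sup_le ((zpowers_le.mpr hyE).trans hEM) (ctx.hAE.trans hEM)
  obtain ⟨T, hT, hST⟩ := exists_isSylIn_ge (p := p) hS hSM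
  have hyT : y ∈ T := hST ((le_sup_left : zpowers y ≤ _) (mem_zpowers y))
  have hAT : A ≤ T := le_sup_right.trans hST
  obtain ⟨S, hTS⟩ := hT.isPGroup.exists_le_sylow
  by_cases hSc : IsMulCommutative (S : Subgroup G)
  · have hSc' : ∀ a ∈ (S : Subgroup G), ∀ b ∈ (S : Subgroup G), a * b = b * a := by
      intro a ha b hb
      have := hSc.is_comm.comm ⟨a, ha⟩ ⟨b, hb⟩
      simpa using congrArg Subtype.val this
    have hβ : BetaCtx E p A S :=
      { hAS := hAT.trans hTS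
        hSE := by
          intro s hs
          apply ctx.hcent
          rw [mem_centralizer_iff]
          intro a ha
          exact hSc' a (hTS (hAT ha)) s hs
        hSc := hSc' }
    exact hβ.commute_commutator hG hM hE ctx hE'c y (hTS hyT)
  · have hyA : y ∈ A := mem_A_of_nonabelian hG hM hEM ctx hT hAT S hTS hSc hyT hx hx1 hyx
    exact commute_of_mem_A hEM ctx hE'c hyA

/-- **Bender–Glauberman 12.12(a)**: if the `τ₁(M) ∪ τ₃(M)`-elements of `E` act freely on `M_σ`, then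
`A₀ = C_E(E')` is an abelian normal subgroup of `E` containing `C_E(x)` for all `x ∈ M_σ − 1`. -/
theorem exists_abelian_normal (hG : IsMinSimpleOddOrder G) (M : Subgroup G) (hM : IsCoatom M)
    (E : Subgroup G) (hE : IsComplIn E (sigmaCore M) M)
    (h : ∀ e ∈ E, e ≠ 1 → (∀ p : ℕ, p.Prime → p ∣ orderOf e → p ∈ tau1 M ∪ tau3 M) →
      sigmaCore M ⊓ centralizer ({e} : Set G) = ⊥) :
    ∃ A₀ : Subgroup G, A₀ ≤ E ∧ E ≤ normalizer (A₀ : Set G) ∧ IsMulCommutative A₀ ∧
      ∀ x ∈ sigmaCore M, x ≠ 1 → E ⊓ centralizer ({x} : Set G) ≤ A₀ := by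
  have hEM : E ≤ M := hE.1
  have hσ := (Cfsg.Agent.S1350.result hG M hM).1
  have h05 := Cfsg.Agent.S1405.result hG M hM
  have h20 := Cfsg.Agent.S1420.result hG M hM E hE
  have hE'c : ∀ a ∈ ⁅E, E⁆, ∀ b ∈ ⁅E, E⁆, a * b = b * a := by
    intro a ha b hb
    have := h20.2.1.is_comm.comm ⟨a, ha⟩ ⟨b, hb⟩
    simpa using congrArg Subtype.val this
  set A₀ : Subgroup G := E ⊓ centralizer ((⁅E, E⁆ : Subgroup G) : Set G) with hA₀
  have hA₀E : A₀ ≤ E := inf_le_left
  have hEN' : E ≤ normalizer ((⁅E, E⁆ : Subgroup G) : Set G) := fun g hg =>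
    Cfsg.Agent.Helper29.normalizer_inf_le_normalizer_commutator E E
      ⟨le_normalizer hg, le_normalizer hg⟩
  refine ⟨A₀, hA₀E, ?_, ?_, ?_⟩
  · -- normality
    apply Cfsg.Agent.H3BG15.le_set_normalizer_of_forall
    intro g hg a ha
    exact Subgroup.mem_inf.mpr
      ⟨E.mul_mem (E.mul_mem hg ha.1) (E.inv_mem hg), conj_mem_centralizer (hEN' hg) ha.2⟩
  · -- commutativity
    apply h20.1 A₀ (hA₀E.trans hEM)
    · -- nilpotency: the quotient by the centre is commutative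
      apply Group.of_quotient_center_nilpotent
      apply Cfsg.Agent.Helper78.BG121.isNilpotent_of_comm
      intro a b
      induction a using QuotientGroup.induction_on with
      | H a =>
      induction b using QuotientGroup.induction_on with
      | H b =>
      rw [← QuotientGroup.mk_mul, ← QuotientGroup.mk_mul, QuotientGroup.eq]
      rw [mem_center_iff]
      intro g
      apply Subtype.ext
      have hc : (((a * b)⁻¹ * (b * a) : ↥A₀) : G) ∈ ⁅E, E⁆ := by
        have h1 : (((a * b)⁻¹ * (b * a) : ↥A₀) : G) = ⁅(b : G)⁻¹, (a : G)⁻¹⁆ := by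
          simp only [Subgroup.coe_mul, Subgroup.coe_inv, commutatorElement_def]
          group
        rw [h1]
        exact Subgroup.commutator_mem_commutator (E.inv_mem (hA₀E b.2)) (E.inv_mem (hA₀E a.2))
      have hg := (mem_centralizer_iff.mp (Subgroup.mem_inf.mp g.2).2) _ hc
      simp only [Subgroup.coe_mul]
      exact hg.symm
    · intro p hp hpd
      exact Cfsg.Agent.Helper38.BG128.not_mem_sigma_of_dvd' hσ hE hp
        (hpd.trans (Subgroup.card_dvd_of_le hA₀E))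
  · -- containment
    intro x hx hx1 e he
    obtain ⟨heE, heC⟩ := Subgroup.mem_inf.mp he
    have hex : e * x = x * e := ((mem_centralizer_iff.mp heC) x (Set.mem_singleton x)).symm
    refine Subgroup.mem_inf.mpr ⟨heE, ?_⟩
    rw [mem_centralizer_iff]
    intro z hz
    apply (commute_of_forall_prime_pow (s := z) (orderOf e) e rfl (orderOf_pos e) ?_).eq
    intro q k hq w hw hwk
    have hwE : w ∈ E := (zpowers_le.mpr heE) hw
    have hwx : w * x = x * w := by
      obtain ⟨i, rfl⟩ := mem_zpowers_iff.mp hw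
      have hc : Commute e x := hex
      exact (hc.zpow_left i).eq
    by_cases hw1 : w = 1
    · rw [hw1]; exact Commute.one_right z
    have hwo : orderOf w ∣ q ^ k := orderOf_dvd_of_pow_eq_one hwk
    have hqw : q ∣ orderOf w := by
      obtain ⟨m, -, hm⟩ := (Nat.dvd_prime_pow hq).mp hwo
      rw [hm]
      apply dvd_pow_self
      rintro rfl
      rw [pow_zero, orderOf_eq_one_iff] at hm
      exact hw1 hm
    have hqE : q ∣ Nat.card E := hqw.trans (Subgroup.orderOf_dvd_natCard E hwE)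
    have hqM : q ∣ Nat.card M := hqE.trans (Subgroup.card_dvd_of_le hEM)
    have hqσ : q ∉ sigma M := Cfsg.Agent.Helper38.BG128.not_mem_sigma_of_dvd' hσ hE hq hqE
    by_cases hr1 : PRankLE q 1 ↥M
    · -- `q ∈ τ₁ ∪ τ₃`: contradiction with the hypothesis
      exfalso
      have hτ : ∀ r : ℕ, r.Prime → r ∣ orderOf w → r ∈ tau1 M ∪ tau3 M := by
        intro r hr hrw
        have hrq : r = q := (Nat.prime_dvd_prime_iff_eq hr hq).mp (hr.dvd_of_dvd_pow (hrw.trans hwo))
        subst hrq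
        by_cases hd : r ∣ Nat.card ↥⁅M, M⁆
        · exact Or.inr ⟨hr, hqσ, hd, hr1⟩
        · exact Or.inl ⟨hr, hqσ, hqM, hd, hr1⟩
      have hbot := h w hwE hw1 hτ
      have hmem : x ∈ sigmaCore M ⊓ centralizer ({w} : Set G) := by
        refine Subgroup.mem_inf.mpr ⟨hx, ?_⟩
        rw [mem_centralizer_iff]
        intro v hv
        rw [Set.mem_singleton_iff] at hv
        rw [hv]; exact hwx
      rw [hbot, mem_bot] at hmem
      exact hx1 hmem
    · have hr2 : PRankLE q 2 ↥M :=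
        Cfsg.Agent.Helper55.BGB.prankLE_two_of_not_mem_sigma hq h05.1 h05.2.2.1 hqσ
      have := commute_of_nonregular_p hG hM hE ⟨hq, hqσ, hr2, hr1⟩ hE'c hwE hwk hx hx1 hwx z hz
      exact this.symm

end Cfsg.Agent.H3BG12
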