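import Mathlib
import Cfsg.Agent.S1350
import Cfsg.Agent.S1430
import Cfsg.Agent.Lib.Helper55.BGDecomp

/-!
# Bender–Glauberman §15: `U` is abelian when `K ≠ 1` (from the rows S1350, S1430 and Hall conjugacy)
-/

set_option autoImplicit false

namespace Cfsg.Agent.H3BG15

open Subgroup

variable {G : Type*} [Group G] [Finite G]

/-- In the standard factorisation `M = K U M_σ` with `K ≠ 1`, the complement `U` is abelian:
S1430 gives some abelian Hall `(κ ∪ σ)'`-subgroup of `M`, and `U` is an `M`-conjugate of it. -/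
theorem isMulCommutative_U_of_K_ne_bot (hG : Cfsg.IsMinSimpleOddOrder G) {M : Subgroup G}
    (hM : IsCoatom M) {K U : Subgroup G} (hKU : Cfsg.IsSigmaDecomposition M K U) (hK : K ≠ ⊥) :
    IsMulCommutative U := by
  have hsol : Group.IsSolvable M := hG.2.2.2 M hM.1
  obtain ⟨hHallσ, -, -⟩ := Cfsg.Agent.S1350.result hG M hM
  obtain ⟨-, ⟨U0, hU0c, hU0H, -, -⟩, -⟩ := Cfsg.Agent.S1430.result hG M hM K hKU.hall hK
  obtain ⟨l, -, hl⟩ := Cfsg.Agent.Helper55.BGB.exists_conj_of_hall hsol hKU hHallσ hU0H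
  refine ⟨⟨?_⟩⟩
  rintro ⟨a, ha⟩ ⟨b, hb⟩
  rw [hl] at ha hb
  obtain ⟨a', ha', rfl⟩ := ha
  obtain ⟨b', hb', rfl⟩ := hb
  have hc : a' * b' = b' * a' := by
    have := hU0c.is_comm.comm ⟨a', ha'⟩ ⟨b', hb'⟩
    exact congrArg Subtype.val this
  apply Subtype.ext
  simp only [MulEquiv.coe_toMonoidHom, MulAut.conj_apply, Subgroup.coe_mul]
  calc l * a' * l⁻¹ * (l * b' * l⁻¹) = l * (a' * b') * l⁻¹ := by group
    _ = l * (b' * a') * l⁻¹ := by rw [hc]
    _ = l * b' * l⁻¹ * (l * a' * l⁻¹) := by group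

end Cfsg.Agent.H3BG15
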