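import Mathlib
import Cfsg.Agent.Lib.Helper3.BG15B
import Cfsg.Agent.S1350
import Cfsg.Agent.Lib.Helper3.BG15F
import Cfsg.Agent.Lib.Helper3.BG12B
import Cfsg.Agent.S1432

/-!
# Bender–Glauberman §15: common steps for the structure of `U` (uses the rows S1350, S1430, S1432 and Lib/Helper3/BG12B = BG 12.12(a))
-/

set_option autoImplicit false
open Pointwise

namespace Cfsg.Agent.H3BG15

open Subgroup Cfsg

variable {G : Type*} [Group G] [Finite G]

theorem isMulCommutative_of_le {A B : Subgroup G} (h : A ≤ B) (hB : IsMulCommutative B) :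
    IsMulCommutative A := by
  refine ⟨⟨fun a b => ?_⟩⟩
  have := hB.is_comm.comm ⟨a.1, h a.2⟩ ⟨b.1, h b.2⟩
  apply Subtype.ext
  have h2 : (a : G) * b = b * a := congrArg Subtype.val this
  exact h2

/-- A nonidentity element of `M`, all of whose prime divisors divide `|U|`, that centralizes a
nonidentity element of `M_σ`, is a `τ₂(M)`-element whose centralizer lies in `M` only. -/
theorem uniq_of_commute (hG : Cfsg.IsMinSimpleOddOrder G) {M : Subgroup G} (hM : IsCoatom M)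
    {K U : Subgroup G} (hKU : Cfsg.IsSigmaDecomposition M K U) {x' y : G} (hx'M : x' ∈ M)
    (hx'1 : x' ≠ 1) (hx'U : ∀ p : ℕ, p.Prime → p ∣ orderOf x' → p ∣ Nat.card U)
    (hy : y ∈ Cfsg.sigmaCore M) (hy1 : y ≠ 1) (hc : x' * y = y * x') :
    (∀ p : ℕ, p.Prime → p ∣ orderOf x' → p ∈ Cfsg.tau2 M) ∧
      (centralizer ({x'} : Set G) ≤ M ∧
        ∀ L : Subgroup G, IsCoatom L → centralizer ({x'} : Set G) ≤ L → L = M) := by
  obtain ⟨hHallσ, -, -⟩ := Cfsg.Agent.S1350.result hG M hM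
  have hmem : x' ∈ M ⊓ centralizer ({y} : Set G) := by
    refine Subgroup.mem_inf.mpr ⟨hx'M, ?_⟩
    rw [mem_centralizer_iff]
    intro h hh
    rw [Set.mem_singleton_iff] at hh
    rw [hh]; exact hc.symm
  have hσ : ∀ p : ℕ, p.Prime → p ∣ orderOf x' → p ∉ Cfsg.sigma M := fun p hp hpd =>
    (Cfsg.Agent.Helper55.BGB.U_prime_not_mem hKU hHallσ hp (hx'U p hp hpd)).2
  rcases Cfsg.Agent.S1432.result hG M hM y hy hy1 x' hmem hx'1 hσ with ⟨hκ, -⟩ | ⟨hτ, -, hu⟩
  · exfalso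
    have ho : orderOf x' ≠ 1 := fun h => hx'1 (orderOf_eq_one_iff.mp h)
    obtain ⟨p, hp, hpd⟩ := Nat.exists_prime_and_dvd ho
    exact (Cfsg.Agent.Helper55.BGB.U_prime_not_mem hKU hHallσ hp (hx'U p hp hpd)).1 (hκ p hp hpd)
  · exact ⟨hτ, hu⟩

/-- When `K = 1`, `κ(M) = ∅` gives the hypothesis of the Frobenius-type criterion S1421. -/
theorem hyp_of_K_eq_bot (hG : Cfsg.IsMinSimpleOddOrder G) {M : Subgroup G}
    {K U : Subgroup G} (hKU : Cfsg.IsSigmaDecomposition M K U) (hK : K = ⊥) :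
    ∀ e ∈ U, e ≠ 1 → (∀ p : ℕ, p.Prime → p ∣ orderOf e → p ∈ Cfsg.tau1 M ∪ Cfsg.tau3 M) →
      Cfsg.sigmaCore M ⊓ centralizer ({e} : Set G) = ⊥ := by
  intro e he he1 hτ
  rw [Subgroup.eq_bot_iff_forall]
  intro z hz
  by_contra hz1
  rw [Subgroup.mem_inf, mem_centralizer_iff] at hz
  have hze : e * z = z * e := hz.2 e (Set.mem_singleton e)
  have ho : orderOf e ≠ 1 := fun h => he1 (orderOf_eq_one_iff.mp h)
  obtain ⟨p, hp, hpd⟩ := Nat.exists_prime_and_dvd ho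
  haveI := Fact.mk hp
  have heM : e ∈ M := hKU.compl.1 he
  have hpos : orderOf e ≠ 0 := (orderOf_pos e).ne'
  have he'o : orderOf (e ^ (orderOf e / p)) = p := orderOf_pow_orderOf_div hpos hpd
  have he'M : e ^ (orderOf e / p) ∈ M := pow_mem heM _
  have hcomm : e ^ (orderOf e / p) * z = z * e ^ (orderOf e / p) := by
    have hc : Commute e z := hze
    exact (hc.pow_left _).eq
  have hpM : p ∣ Nat.card M := by
    rw [← he'o]; exact Subgroup.orderOf_dvd_natCard M he'M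
  have hdata : p ∉ Cfsg.sigma M ∧ PRankLE p 1 M := by
    rcases hτ p hp hpd with h | h
    · exact ⟨h.2.1, h.2.2.2.2⟩
    · exact ⟨h.2.1, h.2.2.2⟩
  have hκ : p ∈ Cfsg.kappa M :=
    mem_kappa_of_commute hp hdata.1 (sylow_cyclic_of_pRankLE_one hG hpM hdata.2) he'M he'o hz.1 hz1 hcomm
  have h1 : ¬ p ∣ K.relIndex M := hKU.hall.2.2 p hp hκ
  rw [hK, Subgroup.relIndex_bot_left] at h1
  exact h1 hpM

/-- Subgroups of `U` centralizing a nonidentity element of `M_σ` are abelian. -/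
theorem abelian_of_centralizes (hG : Cfsg.IsMinSimpleOddOrder G) {M : Subgroup G} (hM : IsCoatom M)
    {K U : Subgroup G} (hKU : Cfsg.IsSigmaDecomposition M K U) :
    ∃ A₀ : Subgroup G, IsMulCommutative A₀ ∧
      ∀ y ∈ Cfsg.sigmaCore M, y ≠ 1 → U ⊓ centralizer ({y} : Set G) ≤ A₀ := by
  by_cases hK : K = ⊥
  · have hE : Cfsg.IsComplIn U (Cfsg.sigmaCore M) M := by
      have := hKU.compl
      rwa [hK, bot_sup_eq] at this
    obtain ⟨A₀, -, -, hA₀c, hA₀⟩ :=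
      Cfsg.Agent.H3BG12.exists_abelian_normal hG M hM U hE (hyp_of_K_eq_bot hG hKU hK)
    exact ⟨A₀, hA₀c, hA₀⟩
  · exact ⟨U, isMulCommutative_U_of_K_ne_bot hG hM hKU hK, fun y _ _ => inf_le_left⟩

end Cfsg.Agent.H3BG15
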