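import Mathlib
import Cfsg.Agent.Lib.Helper3.BG15C
import Cfsg.Agent.Lib.Helper3.BG15E
import Cfsg.Agent.S1405
import Cfsg.Agent.S1417

/-!
# Bender–Glauberman §15: elements of `U` of maximal prime-power order acting regularly on `M_σ`
-/

set_option autoImplicit false
open Pointwise

namespace Cfsg.Agent.H3BG15

open Subgroup Cfsg
open Cfsg.Agent.Helper33 (mem_conj_smul conj_mem_conj_smul)

variable {G : Type*} [Group G] [Finite G]

/-- `U` contains a Sylow `r`-subgroup of `M` for every prime `r` dividing `|U|`. -/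
theorem exists_sylow_le_U {M K U : Subgroup G} (hKU : Cfsg.IsSigmaDecomposition M K U)
    (hHall : Cfsg.IsPiHallOf (Cfsg.sigma M) (Cfsg.sigmaCore M) M) {r : ℕ} [hr : Fact r.Prime]
    (hrU : r ∣ Nat.card U) : ∃ P : Sylow r M, (P : Subgroup M).map M.subtype ≤ U := by
  have hUM : U ≤ M := hKU.compl.1
  obtain ⟨Q⟩ : Nonempty (Sylow r U) := inferInstance
  set Q' : Subgroup G := (Q : Subgroup U).map U.subtype with hQ'
  have hQ'U : Q' ≤ U := map_subtype_le _
  have hcardQ' : Nat.card Q' = r ^ (Nat.card U).factorization r := by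
    rw [hQ', card_map_of_injective (subtype_injective U), Q.card_eq_multiplicity]
  obtain ⟨hκ, hσ⟩ := Cfsg.Agent.Helper55.BGB.U_prime_not_mem hKU hHall hr.out hrU
  have hnd : ¬ r ∣ Nat.card K * Nat.card (Cfsg.sigmaCore M) := by
    intro h
    rcases (Nat.Prime.dvd_mul hr.out).mp h with h | h
    · exact hκ (hKU.hall.2.1 r hr.out h)
    · exact hσ (Cfsg.Agent.Helper55.BGB.isPi_sigmaCore M r hr.out h)
  have hfac : (Nat.card M).factorization r = (Nat.card U).factorization r := by
    rw [Cfsg.Agent.Helper55.BGB.card_decomp hKU,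
      Nat.factorization_mul Nat.card_pos.ne' (Nat.mul_ne_zero Nat.card_pos.ne' Nat.card_pos.ne'),
      Finsupp.add_apply, Nat.factorization_eq_zero_of_not_dvd hnd, add_zero]
  have hc : Nat.card (Q'.subgroupOf M) = r ^ (Nat.card M).factorization r := by
    rw [Cfsg.Agent.Helper34.BG.card_subgroupOf_of_le (hQ'U.trans hUM), hcardQ', hfac]
  refine ⟨Sylow.ofCard (Q'.subgroupOf M) hc, ?_⟩
  rw [Sylow.coe_ofCard, map_subgroupOf_eq_of_le (hQ'U.trans hUM)]
  exact hQ'U

/-- In the abelian group `U`, a Sylow `r`-subgroup of `M` inside `U` contains every `r`-element of `U`. -/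
theorem mem_sylow_of_pow_eq_one {M U : Subgroup G} (hUM : U ≤ M) (hUc : IsMulCommutative U)
    {r : ℕ} [hr : Fact r.Prime] (P : Sylow r M) (hPU : (P : Subgroup M).map M.subtype ≤ U)
    {x : G} (hxU : x ∈ U) {n : ℕ} (hx : x ^ r ^ n = 1) : x ∈ (P : Subgroup M).map M.subtype := by
  set R : Subgroup G := (P : Subgroup M).map M.subtype with hR
  have hcommU : ∀ a ∈ U, ∀ b ∈ U, Commute a b := fun a ha b hb => by
    have := hUc.is_comm.comm ⟨a, ha⟩ ⟨b, hb⟩
    exact congrArg Subtype.val this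
  have hRp : IsPGroup r R := P.isPGroup'.map _
  have hzp : IsPGroup r (zpowers x) := by
    rintro ⟨g, hg⟩
    obtain ⟨k, rfl⟩ := mem_zpowers_iff.mp hg
    refine ⟨n, Subtype.ext ?_⟩
    show (x ^ k) ^ r ^ n = 1
    rw [← zpow_natCast, ← zpow_mul, mul_comm, zpow_mul, zpow_natCast, hx, one_zpow]
  have hzU : zpowers x ≤ U := (zpowers_le).mpr hxU
  have hJp : IsPGroup r (zpowers x ⊔ R : Subgroup G) :=
    IsPGroup.to_sup_of_normal_right' hzp hRp
      (le_normalizer_of_commute (fun a ha b hb => hcommU a (hzU ha) b (hPU hb)))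
  have hJM : zpowers x ⊔ R ≤ M := sup_le (hzU.trans hUM) (hPU.trans hUM)
  have hle : (P : Subgroup M) ≤ (zpowers x ⊔ R).subgroupOf M := by
    intro p hp
    rw [mem_subgroupOf]
    exact (le_sup_right : R ≤ zpowers x ⊔ R) ⟨p, hp, rfl⟩
  have heq := P.is_maximal' (hJp.comap_subtype (K := M)) hle
  have hxJ : (⟨x, hUM hxU⟩ : M) ∈ (zpowers x ⊔ R).subgroupOf M := by
    rw [mem_subgroupOf]
    exact (le_sup_left : zpowers x ≤ zpowers x ⊔ R) (mem_zpowers x)
  rw [← Subgroup.comap_subtype] at hxJ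
  rw [heq] at hxJ
  exact ⟨⟨x, hUM hxU⟩, hxJ, rfl⟩

theorem isElementaryAbelian_conj_smul {p : ℕ} {A : Subgroup G} (hA : IsElementaryAbelian p A)
    (g : G) : IsElementaryAbelian p (MulAut.conj g • A) := by
  constructor
  · refine ⟨⟨fun a b => ?_⟩⟩
    have ha := mem_conj_smul.mp a.2
    have hb := mem_conj_smul.mp b.2
    have h1 := hA.1.is_comm.comm ⟨_, ha⟩ ⟨_, hb⟩
    have h2 : g⁻¹ * (a : G) * g * (g⁻¹ * (b : G) * g) = g⁻¹ * (b : G) * g * (g⁻¹ * (a : G) * g) :=
      congrArg Subtype.val h1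
    apply Subtype.ext
    show (a : G) * b = b * a
    calc (a : G) * b = g * (g⁻¹ * (a : G) * g * (g⁻¹ * (b : G) * g)) * g⁻¹ := by group
      _ = g * (g⁻¹ * (b : G) * g * (g⁻¹ * (a : G) * g)) * g⁻¹ := by rw [h2]
      _ = b * a := by group
  · intro a ha
    have h1 := hA.2 _ (mem_conj_smul.mp ha)
    have hc : a = g * (g⁻¹ * a * g) * g⁻¹ := by group
    rw [hc, conj_pow, h1]; group

/-- A Sylow `r`-subgroup of `M` contains an elementary abelian subgroup of order `r²` when `M` has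
`r`-rank at least two. -/
theorem exists_elemAb_sq_le_sylow {M : Subgroup G} {r : ℕ} [hr : Fact r.Prime]
    (hr1 : ¬ PRankLE r 1 M) (P : Sylow r M) :
    ∃ A : Subgroup G, A ≤ (P : Subgroup M).map M.subtype ∧ IsElementaryAbelian r A ∧
      Nat.card A = r ^ 2 := by
  obtain ⟨A₀, hA₀M, hA₀e, hA₀c⟩ := Cfsg.Agent.Helper34.BG.exists_elemAb_of_not_pRankLE hr1
  obtain ⟨B, hBA, hBe, hBc⟩ := Cfsg.Agent.Helper34.BG.exists_elemAb_card_eq hA₀e hA₀c
  have hBM : B ≤ M := hBA.trans hA₀M
  have hBp : IsPGroup r B := Cfsg.Agent.Helper34.BG.isElementaryAbelian_isPGroup hBe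
  obtain ⟨Q, hQ⟩ := (hBp.comap_subtype (K := M)).exists_le_sylow
  obtain ⟨m, hm⟩ := MulAction.exists_smul_eq M Q P
  refine ⟨MulAut.conj (m : G) • B, ?_, isElementaryAbelian_conj_smul hBe _, ?_⟩
  · intro x hx
    have hx' := mem_conj_smul.mp hx
    have hxM : (m : G)⁻¹ * x * m ∈ M := hBM hx'
    have h1 : (⟨(m : G)⁻¹ * x * m, hxM⟩ : M) ∈ (Q : Subgroup M) := hQ hx'
    have h2 : m * ⟨(m : G)⁻¹ * x * m, hxM⟩ * m⁻¹ ∈ (P : Subgroup M) := by
      rw [← hm, Sylow.coe_subgroup_smul]
      exact conj_mem_conj_smul h1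
    refine ⟨_, h2, ?_⟩
    simp only [Subgroup.subtype_apply, Subgroup.coe_mul, InvMemClass.coe_inv]
    group
  · rw [Cfsg.Agent.Helper33.card_conj_smul, hBc]

open scoped IsMulCommutative in
/-- For every prime `r` dividing the exponent of the abelian group `U` there is an element of `U` of
the largest possible `r`-power order whose subgroup of order `r` acts regularly on `M_σ`. -/
theorem exists_good (hG : IsMinSimpleOddOrder G) {M : Subgroup G} (hM : IsCoatom M)
    {K U : Subgroup G} (hKU : IsSigmaDecomposition M K U) (hUc : IsMulCommutative U) {r : ℕ}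
    (hr : r.Prime) (hrn : r ∣ Monoid.exponent U) :
    ∃ u ∈ U, orderOf u = r ^ (Monoid.exponent U).factorization r ∧
      sigmaCore M ⊓
        centralizer ({u ^ r ^ ((Monoid.exponent U).factorization r - 1)} : Set G) = ⊥ := by
  classical
  haveI := Fact.mk hr
  obtain ⟨hHallσ, -, -⟩ := Cfsg.Agent.S1350.result hG M hM
  obtain ⟨hα, -, hle, -, -⟩ := Cfsg.Agent.S1405.result hG M hM
  have hUM : U ≤ M := hKU.compl.1
  set n := Monoid.exponent U with hn
  have hn0 : n ≠ 0 := Monoid.exponent_ne_zero_of_finite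
  set v := n.factorization r with hv
  have hv1 : 1 ≤ v := hr.factorization_pos_of_dvd hn0 hrn
  obtain ⟨u₁', hu₁'⟩ := hr.exists_orderOf_eq_pow_factorization_exponent U
  have hu₁o : orderOf (u₁' : G) = r ^ v := by rw [Subgroup.orderOf_coe]; exact hu₁'
  have hrU : r ∣ Nat.card U := hrn.trans Group.exponent_dvd_nat_card
  obtain ⟨hκ, hσ⟩ := Cfsg.Agent.Helper55.BGB.U_prime_not_mem hKU hHallσ hr hrU
  have hrM : r ∣ Nat.card M := hrU.trans (Subgroup.card_dvd_of_le hUM)
  set t : G := (u₁' : G) ^ r ^ (v - 1) with ht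
  have hto : orderOf t = r := by
    rw [ht, orderOf_pow_of_dvd (pow_ne_zero _ hr.ne_zero)
      (by rw [hu₁o]; exact pow_dvd_pow r (Nat.sub_le v 1)), hu₁o,
      Nat.pow_div (Nat.sub_le v 1) hr.pos]
    have : v - (v - 1) = 1 := by omega
    rw [this, pow_one]
  have htM : t ∈ M := pow_mem (hUM u₁'.2) _
  have ht1 : t ≠ 1 := by
    intro h
    rw [h, orderOf_one] at hto
    exact hr.one_lt.ne hto
  by_cases hr1 : PRankLE r 1 M
  · exact ⟨u₁', u₁'.2, hu₁o, inf_centralizer_eq_bot_of_not_kappa hr hσ hκ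
      (fun P => sylow_cyclic_of_pRankLE_one hG hrM hr1 P) htM hto⟩
  · have hτ : r ∈ tau2 M :=
      ⟨hr, hσ, Cfsg.Agent.Helper55.BGB.prankLE_two_of_not_mem_sigma hr hα hle hσ, hr1⟩
    obtain ⟨P, hPU⟩ := exists_sylow_le_U hKU hHallσ hrU
    obtain ⟨A, hAP, hAe, hAc⟩ := exists_elemAb_sq_le_sylow hr1 P
    have hAM : A ≤ M := hAP.trans (hPU.trans hUM)
    obtain ⟨-, h2, -, -, -, A₁, hA₁A, hA₁c, hA₁g⟩ :=
      Cfsg.Agent.S1417.result hG M hM r hτ A ⟨hAM, hAe, hAc⟩
    obtain ⟨-, h2b⟩ := h2 P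
    obtain ⟨hΩ, hN⟩ := h2b hAP
    have hker : Nat.card (powMonoidHom r : U →* U).ker = r ^ 2 := by
      rw [← hAc]
      have hmap : ((powMonoidHom r : U →* U).ker).map U.subtype = A := by
        ext x
        constructor
        · rintro ⟨x', hx', rfl⟩
          have h1 : x' ^ r = 1 := by
            have := MonoidHom.mem_ker.mp hx'
            rwa [powMonoidHom_apply] at this
          have hx'r : (x' : G) ^ r = 1 := by
            have := congrArg Subtype.val h1
            simpa using this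
          have hxR : (x' : G) ∈ (P : Subgroup M).map M.subtype :=
            mem_sylow_of_pow_eq_one hUM hUc P hPU x'.2 (n := 1) (by rwa [pow_one])
          exact (hΩ _ hxR).mp hx'r
        · intro hx
          have hxR := hAP hx
          refine ⟨⟨x, hPU hxR⟩, ?_, rfl⟩
          rw [SetLike.mem_coe, MonoidHom.mem_ker, powMonoidHom_apply]
          apply Subtype.ext
          exact (hΩ x hxR).mpr hx
      rw [← hmap, card_map_of_injective (subtype_injective U)]
    rcases abelian_key hr hv1 u₁' hu₁' hker with ha | hb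
    · have hA₁1 : A₁ ≠ ⊥ := by
        intro h
        rw [h, Subgroup.card_bot] at hA₁c
        exact hr.one_lt.ne hA₁c
      obtain ⟨a₁, ha₁1⟩ := (Subgroup.ne_bot_iff_exists_ne_one).mp hA₁1
      have ha₁1' : (a₁ : G) ≠ 1 := fun h => ha₁1 (Subtype.ext h)
      have ha₁A : (a₁ : G) ∈ A := hA₁A a₁.2
      have ha₁r : (a₁ : G) ^ r = 1 := hAe.2 _ ha₁A
      have ha₁U : (a₁ : G) ∈ U := hPU (hAP ha₁A)
      obtain ⟨u, huo, hua⟩ := ha ⟨a₁, ha₁U⟩ (Subtype.ext (by simpa using ha₁r))
        (fun h => ha₁1' (congrArg Subtype.val h))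
      have hua' : (u : G) ^ r ^ (v - 1) = a₁ := by
        have := congrArg Subtype.val hua
        simpa using this
      refine ⟨u, u.2, by rw [Subgroup.orderOf_coe]; exact huo, ?_⟩
      rw [hua']
      have hzA₁ : zpowers (a₁ : G) = A₁ := by
        apply Subgroup.eq_of_le_of_card_ge ((zpowers_le).mpr a₁.2)
        rw [Nat.card_zpowers, orderOf_eq_prime ha₁r ha₁1', hA₁c]
      rw [← centralizer_zpowers, hzA₁]
      exact hA₁g
    · refine ⟨u₁', u₁'.2, hu₁o, ?_⟩
      by_contra hne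
      obtain ⟨y, hy1⟩ := (Subgroup.ne_bot_iff_exists_ne_one).mp hne
      have hyMs : (y : G) ∈ sigmaCore M := (Subgroup.mem_inf.mp y.2).1
      have hyC := (Subgroup.mem_inf.mp y.2).2
      have hy1' : (y : G) ≠ 1 := fun h => hy1 (Subtype.ext h)
      have hty : t * y = y * t := (mem_centralizer_iff.mp hyC) t (Set.mem_singleton t)
      obtain ⟨-, -, hu⟩ := uniq_of_commute hG hM hKU htM ht1
        (by
          intro p hp hpd
          rw [hto] at hpd
          rw [(Nat.prime_dvd_prime_iff_eq hp hr).mp hpd]; exact hrU) hyMs hy1' hty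
      haveI := Cfsg.Agent.Helper34.BG.isSimple hG
      have hNt : normalizer ((zpowers t : Subgroup G) : Set G) ≤ M := by
        apply Cfsg.Agent.Helper55.BGB.normalizer_le_of_unique ((zpowers_ne_bot).mpr ht1)
        · intro h
          have h1 : zpowers t ≤ M := (zpowers_le).mpr htM
          rw [h] at h1
          exact hM.1 (top_le_iff.mp h1)
        · intro L hL hCL
          apply hu L hL
          rwa [centralizer_zpowers] at hCL
      apply hN
      refine le_trans (normalizer_le_normalizer_zpowers ?_) hNt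
      intro g hg
      have hu₁R : (u₁' : G) ∈ (P : Subgroup M).map M.subtype :=
        mem_sylow_of_pow_eq_one hUM hUc P hPU u₁'.2 (n := v)
          (by rw [← hu₁o]; exact pow_orderOf_eq_one _)
      have hgR : g * u₁' * g⁻¹ ∈ (P : Subgroup M).map M.subtype :=
        (mem_normalizer_iff.mp hg _).mp hu₁R
      have hgU := hPU hgR
      have hpow : (⟨g * u₁' * g⁻¹, hgU⟩ : U) ^ r ^ v = 1 := by
        apply Subtype.ext
        show (g * u₁' * g⁻¹) ^ r ^ v = 1
        rw [conj_pow, ← hu₁o, pow_orderOf_eq_one]; group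
      have hmem := hb _ hpow
      obtain ⟨k, hk⟩ := mem_zpowers_iff.mp hmem
      rw [mem_zpowers_iff]
      refine ⟨k, ?_⟩
      have h3 := congrArg Subtype.val hk
      have h4 : ((u₁' : G) ^ r ^ (v - 1)) ^ k = (g * u₁' * g⁻¹) ^ r ^ (v - 1) := by
        simpa using h3
      rw [ht, h4, conj_pow]

end Cfsg.Agent.H3BG15
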