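import Mathlib
import Cfsg.Agent.Lib.Helper62.SLN0

/-!
# SLN server (helper62, S2332): piece S0, the dot-product pairing
-/

set_option autoImplicit false

namespace Cfsg.Agent.Helper3.SLN

open Matrix Module Cfsg.Agent.Helper93.U2 Cfsg.Agent.Helper62.SLN

/-- piece S0 : the dot-product pairing (any non-trivial `ψ`; nondegeneracy: `u = c • single i 1`) -/
theorem exists_pairing (F : Type*) [Field F] [Fintype F] (κ : Type) [Fintype κ] [DecidableEq κ] :
    ∃ (ψ : AddChar F ℂ) (pr : Pairing (κ → F)), ∀ w u, pr.β w u = ψ (w ⬝ᵥ u) := by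
  obtain ⟨ψ, hψ⟩ := (AddChar.exists_apply_ne_zero (α := F) (a := 1)).2 one_ne_zero
  refine ⟨ψ, ⟨fun w u => ψ (w ⬝ᵥ u), ?_, ?_, ?_, ?_⟩, fun w u => rfl⟩
  · intro a
    simp
  · intro a b c
    show ψ (a ⬝ᵥ (b + c)) = ψ (a ⬝ᵥ b) * ψ (a ⬝ᵥ c)
    rw [dotProduct_add, AddChar.map_add_eq_mul]
  · intro a b
    show ψ (a ⬝ᵥ b) = ψ (b ⬝ᵥ a)
    rw [dotProduct_comm]
  · intro a ha
    by_contra hne
    obtain ⟨i, hi⟩ : ∃ i, a i ≠ 0 := by
      by_contra hcon
      simp only [not_exists, not_not] at hcon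
      exact hne (funext hcon)
    apply hψ
    have h1 := ha (Pi.single i (a i)⁻¹)
    have h2 : a ⬝ᵥ (Pi.single i (a i)⁻¹) = 1 := by
      rw [dotProduct_single, mul_inv_cancel₀ hi]
    show ψ 1 = 1
    rw [← h2]
    exact h1

end Cfsg.Agent.Helper3.SLN
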