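import Mathlib
import Cfsg.Agent.Lib.Helper62.SLN0

/-!
# SLN server (helper62, S2332): piece S9, the Levi factor acts on `V_0 = C_V(U)`
-/

set_option autoImplicit false

namespace Cfsg.Agent.Helper3.SLN

open Matrix Module Cfsg.Agent.Helper93.U2 Cfsg.Agent.Helper62.SLN

section GRPaux

variable {F : Type*} [Field F] {κ : Type} [Fintype κ] [DecidableEq κ]

theorem h3_lEl_mul (A B : SpecialLinearGroup κ F) : lEl (A * B) = lEl A * lEl B := by
  apply Subtype.ext
  show (lEl (A * B)).1 = (lEl A).1 * (lEl B).1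
  rw [lEl_val, lEl_val, lEl_val, Matrix.fromBlocks_multiply]
  simp

theorem h3_lEl_one : lEl (1 : SpecialLinearGroup κ F) = 1 := by
  apply Subtype.ext
  rw [lEl_val]
  simp

/-- `uEl b * lEl A = lEl A * uEl (b ᵥ* A)` -/
theorem h3_uEl_mul_lEl (A : SpecialLinearGroup κ F) (b : κ → F) :
    uEl b * lEl A = lEl A * uEl (vecMul b A.1) := by
  apply Subtype.ext
  show (uEl b).1 * (lEl A).1 = (lEl A).1 * (uEl (vecMul b A.1)).1
  rw [uEl_val, uEl_val, lEl_val, Matrix.fromBlocks_multiply, Matrix.fromBlocks_multiply]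
  simp [Matrix.replicateRow_vecMul]

end GRPaux

section SLN

variable {F : Type*} [Field F] [Fintype F] [DecidableEq F] {κ : Type} [Fintype κ] [DecidableEq κ]
  {V : Type*} [AddCommGroup V] [Module ℂ V] [FiniteDimensional ℂ V]
  (ψ : AddChar F ℂ) (pr : Pairing (κ → F)) (hpr : ∀ w u, pr.β w u = ψ (w ⬝ᵥ u))
  (ρ : Representation ℂ (SpecialLinearGroup (Unit ⊕ κ) F) V)

include hpr

omit [Fintype F] [DecidableEq F] [FiniteDimensional ℂ V] in
theorem h3_mem_wt_zero (v : V) : v ∈ wt pr ρ 0 ↔ ∀ b : κ → F, ρ (uEl b) v = v := by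
  rw [mem_wsp]
  have h1 : ∀ b : κ → F, pr.β 0 b = 1 := by
    intro b
    rw [hpr, zero_dotProduct, AddChar.map_zero_eq_one]
  constructor
  · intro h b
    rw [h b, h1 b, one_smul]
  · intro h b
    rw [h b, h1 b, one_smul]

omit [Fintype F] [DecidableEq F] [FiniteDimensional ℂ V] in
theorem h3_lEl_mem_wt_zero (A : SpecialLinearGroup κ F) (v : V) (hv : v ∈ wt pr ρ 0) :
    ρ (lEl A) v ∈ wt pr ρ 0 := by
  rw [h3_mem_wt_zero ψ pr hpr ρ] at hv ⊢
  intro b
  have h1 : ρ (uEl b) (ρ (lEl A) v) = ρ (uEl b * lEl A) v := by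
    rw [map_mul]; rfl
  rw [h1, h3_uEl_mul_lEl, map_mul]
  show ρ (lEl A) (ρ (uEl (vecMul b A.1)) v) = ρ (lEl A) v
  rw [hv]

omit [DecidableEq F] [FiniteDimensional ℂ V] in
/-- piece S9 (S1 + G2) : the Levi factor `SL κ` acts on `V_0 = C_V(U)` -/
theorem exists_levi_rep :
    ∃ τ : Representation ℂ (SpecialLinearGroup κ F) (wt pr ρ 0),
      ∀ (A : SpecialLinearGroup κ F) (v : wt pr ρ 0), ((τ A v : wt pr ρ 0) : V) = ρ (lEl A) v.1 := by
  refine ⟨{ toFun := fun A => (ρ (lEl A)).restrict (h3_lEl_mem_wt_zero ψ pr hpr ρ A)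
            map_one' := ?_
            map_mul' := ?_ }, ?_⟩
  · ext v
    simp only [LinearMap.coe_restrict_apply, h3_lEl_one, map_one]
    rfl
  · intro A B
    ext v
    simp only [LinearMap.coe_restrict_apply, h3_lEl_mul, map_mul]
    rfl
  · intro A v
    rfl

end SLN

end Cfsg.Agent.Helper3.SLN
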