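import Mathlib

/-!
# TU server (helper59, S2279): piece LUC, the Lucas/Kummer offset
-/

set_option autoImplicit false

namespace Cfsg.Agent.Helper3.TU

/-- `choose (p^a (m+1) - 1) (p^a)` is prime to `p` when `p ∤ m` (Lucas, one digit at a time) -/
theorem h3_not_dvd_choose (p : ℕ) [hp : Fact p.Prime] (a m : ℕ) (hm : ¬ p ∣ m) :
    ¬ p ∣ Nat.choose (p ^ a * (m + 1) - 1) (p ^ a) := by
  induction a with
  | zero =>
    simp only [pow_zero, one_mul, Nat.add_sub_cancel, Nat.choose_one_right]
    exact hm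
  | succ a ih =>
    have hppos : 0 < p := hp.out.pos
    have hq : 1 ≤ p ^ a * (m + 1) := Nat.mul_pos (pow_pos hppos a) (Nat.succ_pos m)
    have hn' : p ^ (a + 1) * (m + 1) - 1 = p * (p ^ a * (m + 1) - 1) + (p - 1) := by
      have h1 : p ^ (a + 1) * (m + 1) = p * (p ^ a * (m + 1)) := by ring
      rw [h1]
      obtain ⟨q, hq'⟩ : ∃ q, p ^ a * (m + 1) = q + 1 := ⟨p ^ a * (m + 1) - 1, by omega⟩
      rw [hq']
      have h2 : p * (q + 1) = p * q + p := by ring
      rw [h2, Nat.add_sub_cancel]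
      omega
    have hmod : (p ^ (a + 1) * (m + 1) - 1) % p = p - 1 := by
      rw [hn', Nat.mul_add_mod]
      exact Nat.mod_eq_of_lt (by omega)
    have hdiv : (p ^ (a + 1) * (m + 1) - 1) / p = p ^ a * (m + 1) - 1 := by
      rw [hn', Nat.mul_add_div hppos, Nat.div_eq_of_lt (by omega), add_zero]
    have hkmod : p ^ (a + 1) % p = 0 := by
      rw [pow_succ]; exact Nat.mul_mod_left _ _
    have hkdiv : p ^ (a + 1) / p = p ^ a := by
      rw [pow_succ]; exact Nat.mul_div_cancel _ hppos
    have hluc := Choose.choose_modEq_choose_mod_mul_choose_div_nat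
      (n := p ^ (a + 1) * (m + 1) - 1) (k := p ^ (a + 1)) (p := p)
    rw [hmod, hdiv, hkmod, hkdiv, Nat.choose_zero_right, one_mul] at hluc
    intro hdvd
    apply ih
    have h0 : Nat.choose (p ^ (a + 1) * (m + 1) - 1) (p ^ (a + 1)) % p = 0 :=
      Nat.mod_eq_zero_of_dvd hdvd
    have h1 : Nat.choose (p ^ a * (m + 1) - 1) (p ^ a) % p = 0 := by
      rw [← h0]; exact hluc.symm
    exact Nat.dvd_of_mod_eq_zero h1

/-- piece LUC -/
theorem exists_offset (p n : ℕ) [Fact p.Prime] (hn : 4 ≤ n) :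
    ∃ a : ℕ, n = p ^ a ∨ (p ^ a + 3 ≤ n ∧ ¬ p ∣ Nat.choose (n - 1 + p ^ a) (n - 1)) := by
  have hp : p.Prime := Fact.out
  obtain ⟨a, m, hm, hnm⟩ := Nat.exists_eq_pow_mul_and_not_dvd (n := n) (by omega) p hp.ne_one
  refine ⟨a, ?_⟩
  have hm0 : m ≠ 0 := by
    intro h0
    rw [h0, mul_zero] at hnm
    omega
  by_cases hm1 : m = 1
  · left
    rw [hnm, hm1, mul_one]
  · right
    have hm2 : 2 ≤ m := by omega
    have hpa : 1 ≤ p ^ a := Nat.one_le_pow _ _ hp.pos
    refine ⟨?_, ?_⟩
    · -- `p^a + 3 ≤ p^a * m`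
      rw [hnm]
      rcases Nat.lt_or_ge m 3 with h3 | h3
      · -- `m = 2`, so `p ≠ 2`
        have hm2' : m = 2 := by omega
        subst hm2'
        rcases Nat.eq_zero_or_pos a with ha | ha
        · subst ha
          rw [pow_zero] at hnm ⊢
          omega
        · have hp2 : p ≠ 2 := by
            intro h2
            apply hm
            rw [h2]
          have hp3 : 3 ≤ p := by
            have := hp.two_le
            omega
          have : p ≤ p ^ a := by
            calc p = p ^ 1 := (pow_one p).symm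
              _ ≤ p ^ a := Nat.pow_le_pow_right hp.pos ha
          omega
      · have : p ^ a * 3 ≤ p ^ a * m := Nat.mul_le_mul_left _ h3
        nlinarith
    · have h1 : n - 1 + p ^ a = p ^ a * (m + 1) - 1 := by
        rw [hnm]
        have h2 : p ^ a * (m + 1) = p ^ a * m + p ^ a := by ring
        rw [h2]
        have : 1 ≤ p ^ a * m := Nat.mul_pos hpa (by omega)
        omega
      have h3 : Nat.choose (n - 1 + p ^ a) (n - 1) = Nat.choose (n - 1 + p ^ a) (p ^ a) :=
        Nat.choose_symm_add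
      rw [h3, h1]
      exact h3_not_dvd_choose p a m hm

end Cfsg.Agent.Helper3.TU
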