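import Mathlib
import Cfsg.Prelude.Def_Characters
import Cfsg.Agent.Lib.Helper79.DegreeRatio
import Cfsg.Agent.Lib.Helper74.FSForm
import Cfsg.Agent.Lib.Helper3.CharNilpotent

set_option autoImplicit false
set_option linter.unusedSectionVars false
set_option linter.style.haveILetI false

/-!
# Tools for Berger's theorem (S0889), part A

* induction commutes with inflation along a surjective homomorphism;
* Schur orthogonality for matrix coefficients and the coset sum formula
  `∑_{n ∈ N} |τ (m n)|² = |N|` for `τ` irreducible with irreducible restriction to `N`;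
* tensor factorisation of a character over an invariant irreducible character of a normal
  subgroup, on the central extension `Helper79.extGroup`.
-/

namespace Cfsg.Agent.H3Berger

open Cfsg Cfsg.Agent.Helper81 Cfsg.Agent.Helper79
open scoped ComplexConjugate

section IndComap

universe u v
variable {Γ : Type u} {G : Type v} [Group Γ] [Group G] [Fintype Γ] [Fintype G]

theorem sum_comp_surj (π : Γ →* G) (hπ : Function.Surjective π) (F : G → ℂ) :
    ∑ y : Γ, F (π y) = (Nat.card π.ker : ℂ) * ∑ g : G, F g := by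
  classical
  let e := QuotientGroup.quotientKerEquivOfSurjective π hπ
  haveI : Fintype (Γ ⧸ π.ker) := Fintype.ofFinite _
  have h1 := Cfsg.Agent.Helper3.sum_comp_quotient_mk π.ker (fun q => F (e q))
  have h2 : ∀ y : Γ, e (y : Γ ⧸ π.ker) = π y := fun y => rfl
  simp only [h2] at h1
  rw [h1]
  congr 1
  exact Equiv.sum_comp e.toEquiv F

theorem card_comap_surj (π : Γ →* G) (hπ : Function.Surjective π) (H : Subgroup G) :
    Nat.card (H.comap π) = Nat.card π.ker * Nat.card H := by
  have h1 : (H.comap π).index = H.index := Subgroup.index_comap_of_surjective H hπ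
  have h2 := Subgroup.card_mul_index (H.comap π)
  have h3 := Subgroup.card_mul_index H
  have h4 : Nat.card Γ = Nat.card π.ker * Nat.card G := by
    have h5 := Subgroup.card_mul_index π.ker
    rw [Subgroup.index_ker, MonoidHom.range_eq_top.mpr hπ, Subgroup.card_top] at h5
    exact h5.symm
  have hidx : 0 < H.index := Nat.pos_of_ne_zero Subgroup.index_ne_zero_of_finite
  apply Nat.eq_of_mul_eq_mul_right hidx
  rw [mul_assoc, h3, ← h4, ← h1, h2]

/-- induction commutes with inflation along a surjective homomorphism -/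
theorem indFun_comap_surj (π : Γ →* G) (hπ : Function.Surjective π) (H : Subgroup G)
    (f : H → ℂ) (x : Γ) :
    indFun (H.comap π) (fun h => f ⟨π (h : Γ), Subgroup.mem_comap.mp h.2⟩) x =
      indFun H f (π x) := by
  classical
  have hext : ∀ y : Γ, extendByZero (H.comap π)
      (fun h => f ⟨π (h : Γ), Subgroup.mem_comap.mp h.2⟩) y = extendByZero H f (π y) := by
    intro y
    by_cases hy : y ∈ H.comap π
    · have hy' : π y ∈ H := Subgroup.mem_comap.mp hy
      rw [extendByZero_apply_mem _ _ hy, extendByZero_apply_mem _ _ hy']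
    · have hy' : π y ∉ H := fun h => hy (Subgroup.mem_comap.mpr h)
      rw [extendByZero_apply_not_mem _ _ hy, extendByZero_apply_not_mem _ _ hy']
  rw [indFun_apply, indFun_apply]
  simp only [hext, map_mul, map_inv]
  rw [sum_comp_surj π hπ (fun q => extendByZero H f (q⁻¹ * π x * q))]
  rw [card_comap_surj π hπ H]
  have hK : (Nat.card π.ker : ℂ) ≠ 0 := by
    have : Nat.card π.ker ≠ 0 := Nat.card_pos.ne'
    exact_mod_cast this
  have hHb : (Nat.card H : ℂ) ≠ 0 := by
    have : Nat.card H ≠ 0 := Nat.card_pos.ne'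
    exact_mod_cast this
  push_cast
  field_simp

end IndComap

section MatCoef

open Cfsg.Agent.Helper74.FS Matrix

variable {N : Type*} [Group N] [Fintype N] {d : ℕ} (σ : Representation ℂ N (Fin d → ℂ))

theorem degree_pos_of_irreducible' {N : Type*} [Group N] {d : ℕ}
    (σ : Representation ℂ N (Fin d → ℂ)) [hσ : σ.IsIrreducible] : 0 < d := by
  have hnt := Cfsg.Agent.Helper79.nontrivial_of_irreducible σ
  rcases Nat.eq_zero_or_pos d with h | h
  · subst h
    exact absurd hnt (not_nontrivial_iff_subsingleton.mpr inferInstance)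
  · exact h

/-- Schur: the average of `X` over an irreducible representation is scalar. -/
theorem sum_conj_mat (hσ : σ.IsIrreducible) (X : Matrix (Fin d) (Fin d) ℂ) :
    ∑ n : N, mat σ n * X * mat σ n⁻¹ =
      ((Nat.card N : ℂ) * X.trace / (d : ℂ)) • (1 : Matrix (Fin d) (Fin d) ℂ) := by
  classical
  set Y := ∑ n : N, mat σ n * X * mat σ n⁻¹ with hY
  have hcomm : ∀ g : N, Y * mat σ g = mat σ g * Y := by
    intro g
    rw [hY, Finset.sum_mul, Finset.mul_sum]
    refine (Fintype.sum_equiv (Equiv.mulLeft g) _ _ fun n => ?_).symm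
    simp only [Equiv.coe_mulLeft]
    have h1 : mat σ (g * n)⁻¹ * mat σ g = mat σ n⁻¹ := by
      rw [← mat_mul]
      congr 1
      group
    rw [Matrix.mul_assoc (mat σ (g * n) * X), h1, mat_mul]
    simp only [Matrix.mul_assoc]
  obtain ⟨c, hc⟩ := schur hσ Y hcomm
  have hd : (d : ℂ) ≠ 0 := by
    haveI := hσ
    have : 0 < d := degree_pos_of_irreducible' σ
    exact_mod_cast this.ne'
  have htr : Y.trace = (Nat.card N : ℂ) * X.trace := by
    rw [hY, Matrix.trace_sum]
    have : ∀ n : N, (mat σ n * X * mat σ n⁻¹).trace = X.trace := by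
      intro n
      rw [Matrix.trace_mul_cycle, mat_inv_mul, Matrix.one_mul]
    rw [Finset.sum_congr rfl (fun n _ => this n), Finset.sum_const, Finset.card_univ,
      nsmul_eq_mul, Nat.card_eq_fintype_card]
  rw [hc] at htr ⊢
  rw [Matrix.trace_smul, Matrix.trace_one, Fintype.card_fin, smul_eq_mul] at htr
  congr 1
  field_simp
  rw [← htr]

theorem mul_single_mul_apply (M M' : Matrix (Fin d) (Fin d) ℂ) (j l i k : Fin d) :
    (M * Matrix.single j l (1 : ℂ) * M') i k = M i j * M' l k := by
  classical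
  rw [Matrix.mul_apply]
  rw [Finset.sum_eq_single l]
  · rw [Matrix.mul_single_apply_same, mul_one]
  · intro b _ hb
    rw [Matrix.mul_single_apply_of_ne (1 : ℂ) j l i b hb M, zero_mul]
  · intro h; exact absurd (Finset.mem_univ l) h

/-- Fourier inversion for an irreducible representation. -/
theorem sum_trace_smul_mat (hσ : σ.IsIrreducible) (A : Matrix (Fin d) (Fin d) ℂ) :
    ∑ n : N, (A * mat σ n).trace • mat σ n⁻¹ = ((Nat.card N : ℂ) / (d : ℂ)) • A := by
  classical
  ext l k
  rw [Matrix.sum_apply]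
  simp only [Matrix.smul_apply, smul_eq_mul, Matrix.trace, Matrix.diag_apply, Matrix.mul_apply]
  have h1 : ∀ n : N, (∑ x, ∑ x_1, A x x_1 * mat σ n x_1 x) * mat σ n⁻¹ l k =
      ∑ x, ∑ x_1, A x x_1 * (mat σ n * Matrix.single x l (1 : ℂ) * mat σ n⁻¹) x_1 k := by
    intro n
    rw [Finset.sum_mul]
    apply Finset.sum_congr rfl
    intro x _
    rw [Finset.sum_mul]
    apply Finset.sum_congr rfl
    intro y _
    rw [mul_single_mul_apply, mul_assoc]
  rw [Finset.sum_congr rfl (fun n _ => h1 n), Finset.sum_comm]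
  have h2 : ∀ x : Fin d, ∑ n : N, ∑ x_1, A x x_1 *
      (mat σ n * Matrix.single x l (1 : ℂ) * mat σ n⁻¹) x_1 k =
      if x = l then (Nat.card N : ℂ) / (d : ℂ) * A l k else 0 := by
    intro x
    rw [Finset.sum_comm]
    have h3 : ∀ y : Fin d, ∑ n : N, A x y *
        (mat σ n * Matrix.single x l (1 : ℂ) * mat σ n⁻¹) y k =
        A x y * (((Nat.card N : ℂ) * (Matrix.single x l (1 : ℂ)).trace / (d : ℂ)) •
          (1 : Matrix (Fin d) (Fin d) ℂ)) y k := by
      intro y
      rw [← Finset.mul_sum, ← sum_conj_mat σ hσ, Matrix.sum_apply]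
    rw [Finset.sum_congr rfl (fun y _ => h3 y)]
    by_cases hxl : x = l
    · subst hxl
      rw [if_pos rfl]
      have : (Matrix.single x x (1 : ℂ)).trace = 1 := by
        rw [Matrix.trace, Matrix.diag_single_same]
        simp
      simp only [this, Matrix.smul_apply, Matrix.one_apply, smul_eq_mul, mul_one]
      rw [Finset.sum_eq_single k]
      · rw [if_pos rfl]; ring
      · intro b _ hb
        rw [if_neg hb]; ring
      · intro h; exact absurd (Finset.mem_univ k) h
    · rw [if_neg hxl]
      have : (Matrix.single x l (1 : ℂ)).trace = 0 := by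
        rw [Matrix.trace, Matrix.diag_single_of_ne x l (1 : ℂ) hxl]
        simp
      simp only [this, mul_zero, zero_div, zero_smul, Matrix.zero_apply, Finset.sum_const_zero]
  rw [Finset.sum_congr rfl (fun x _ => h2 x), Finset.sum_ite_eq' Finset.univ l]
  simp

theorem sum_trace_mul_trace (hσ : σ.IsIrreducible) (A B : Matrix (Fin d) (Fin d) ℂ) :
    ∑ n : N, (A * mat σ n).trace * (B * mat σ n⁻¹).trace =
      (Nat.card N : ℂ) / (d : ℂ) * (B * A).trace := by
  have h := congrArg (fun Y => (B * Y).trace) (sum_trace_smul_mat σ hσ A)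
  simp only [Finset.mul_sum, Matrix.trace_sum, Matrix.mul_smul, Matrix.trace_smul,
    smul_eq_mul] at h
  exact h

end MatCoef

section CosetSum

open Cfsg.Agent.Helper74.FS Matrix

variable {Γ : Type*} [Group Γ] [Fintype Γ] {d : ℕ} (ρ : Representation ℂ Γ (Fin d → ℂ))

/-- If the restriction of the irreducible character `τ` to the subgroup `Ñ` is irreducible then
`∑_{n ∈ Ñ} |τ (m n)|² = |Ñ|` for every `m`. -/
theorem coset_sum_char (Ñ : Subgroup Γ) [Fintype Ñ]
    (hirr : Representation.IsIrreducible (ρ.comp Ñ.subtype : Representation ℂ Ñ (Fin d → ℂ))) (m : Γ) :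
    ∑ n : Ñ, ρ.character (m * n) * conj (ρ.character (m * n)) = (Nat.card Ñ : ℂ) := by
  classical
  have hd : (d : ℂ) ≠ 0 := by
    haveI := hirr
    have : 0 < d := degree_pos_of_irreducible' (ρ.comp Ñ.subtype : Representation ℂ Ñ (Fin d → ℂ))
    exact_mod_cast this.ne'
  have h := sum_trace_mul_trace (ρ.comp Ñ.subtype : Representation ℂ Ñ (Fin d → ℂ)) hirr (mat ρ m) (mat ρ m⁻¹)
  rw [mat_inv_mul, Matrix.trace_one, Fintype.card_fin, div_mul_cancel₀ _ hd] at h
  rw [← h]
  apply Finset.sum_congr rfl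
  intro n _
  rw [← Cfsg.Agent.Helper81.char_inv ρ (m * n), character_eq_trace, character_eq_trace,
    mat_mul, _root_.mul_inv_rev, mat_mul, Matrix.trace_mul_comm (mat ρ (n : Γ)⁻¹)]
  rfl

/-- Gallagher-type averaging: on a subgroup `M ⊇ Ñ`, multiplying a right-`Ñ`-invariant function
by `|τ|²` does not change its sum. -/
theorem sum_mul_normSq_eq (Ñ M : Subgroup Γ) [Fintype Ñ] [Fintype M] (hÑM : Ñ ≤ M)
    (hirr : Representation.IsIrreducible (ρ.comp Ñ.subtype : Representation ℂ Ñ (Fin d → ℂ))) (F : M → ℂ)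
    (hF : ∀ (x : M) (n : Ñ), F (x * ⟨(n : Γ), hÑM n.2⟩) = F x) :
    ∑ x : M, F x * (ρ.character x * conj (ρ.character x)) = ∑ x : M, F x := by
  classical
  have hN0 : (Nat.card Ñ : ℂ) ≠ 0 := by
    have : Nat.card Ñ ≠ 0 := Nat.card_pos.ne'
    exact_mod_cast this
  have h1 : ∀ n : Ñ, ∑ x : M, F x * (ρ.character x * conj (ρ.character x)) =
      ∑ x : M, F x * (ρ.character ((x : Γ) * n) * conj (ρ.character ((x : Γ) * n))) := by
    intro n
    rw [← Fintype.sum_equiv (Equiv.mulRight (⟨(n : Γ), hÑM n.2⟩ : M))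
      (fun x => F (x * ⟨(n : Γ), hÑM n.2⟩) *
        (ρ.character ((x * ⟨(n : Γ), hÑM n.2⟩ : M) : Γ) *
          conj (ρ.character ((x * ⟨(n : Γ), hÑM n.2⟩ : M) : Γ))))
      (fun x => F x * (ρ.character x * conj (ρ.character x))) (fun x => rfl)]
    apply Finset.sum_congr rfl
    intro x _
    rw [hF]
    rfl
  have h2 : (Nat.card Ñ : ℂ) * ∑ x : M, F x * (ρ.character x * conj (ρ.character x)) =
      (Nat.card Ñ : ℂ) * ∑ x : M, F x := by
    calc (Nat.card Ñ : ℂ) * ∑ x : M, F x * (ρ.character x * conj (ρ.character x))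
        = ∑ n : Ñ, ∑ x : M, F x * (ρ.character x * conj (ρ.character x)) := by
          rw [Finset.sum_const, Finset.card_univ, nsmul_eq_mul, Nat.card_eq_fintype_card]
      _ = ∑ n : Ñ, ∑ x : M, F x *
            (ρ.character ((x : Γ) * n) * conj (ρ.character ((x : Γ) * n))) :=
          Finset.sum_congr rfl (fun n _ => h1 n)
      _ = ∑ x : M, F x * ∑ n : Ñ,
            (ρ.character ((x : Γ) * n) * conj (ρ.character ((x : Γ) * n))) := by
          rw [Finset.sum_comm]
          apply Finset.sum_congr rfl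
          intro x _
          rw [Finset.mul_sum]
      _ = ∑ x : M, F x * (Nat.card Ñ : ℂ) := by
          apply Finset.sum_congr rfl
          intro x _
          rw [coset_sum_char ρ Ñ hirr]
      _ = (Nat.card Ñ : ℂ) * ∑ x : M, F x := by
          rw [Finset.mul_sum]
          apply Finset.sum_congr rfl
          intro x _
          ring
  exact mul_left_cancel₀ hN0 h2

end CosetSum

section TensorFactor

open Module

universe u

variable {G : Type u} [Group G] [Fintype G]

/-- Tensor factorisation: if `χ ∈ Irr(G)` lies over the `G`-invariant irreducible character of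
the representation `ρ` of `N ⊴ G`, then on the central extension `Γ = extGroup N ρ` the inflation
of `χ` is the product of the canonical extension `τ` of `ρ.character` and an irreducible
character `β` with the copy of `N` in its kernel. -/
theorem exists_tensor_factor (N : Subgroup G) [hN : N.Normal] [Fintype N]
    {χ : G → ℂ} (hχ : IsIrrCharacter G χ) {d : ℕ} (ρ : Representation ℂ N (Fin d → ℂ))
    [hρ : ρ.IsIrreducible]
    (hne : classInner (fun n : N => χ n) ρ.character ≠ 0)
    (hinv : ∀ g : G, conjFun N hN ρ.character g = ρ.character) :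
    ∃ (k : ℕ) (ρβ : Representation ℂ (extGroup N ρ) (Fin k → ℂ)), ρβ.IsIrreducible ∧
      (∀ x, ρβ.character x * (extRep N ρ).character x = χ (extProj N ρ x)) ∧
      (∀ n : N, ρβ (extIncl N ρ n) = 1) := by
  classical
  have hϑ : IsIrrCharacter N ρ.character := ⟨d, ρ, hρ, rfl⟩
  have hres := restrict_eq_smul_of_invariant N hN hχ hϑ hne hinv
  obtain ⟨e₀, he₀⟩ := exists_nat_classInner
    (isCharacter_restrict N (IsIrrCharacter.isCharacter hχ)) hϑ
  rw [he₀] at hres
  have he₀0 : e₀ ≠ 0 := by
    intro h0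
    rw [h0] at he₀
    exact hne (by simpa using he₀)
  have hinv' : ∀ (g : G) (n : N),
      ρ.character ⟨g * n * g⁻¹, hN.conj_mem n n.2 g⟩ = ρ.character n :=
    fun g n => congrFun (hinv g) n
  haveI : Finite (extGroup N ρ) := finite_extGroup N ρ
  haveI : Fintype (extGroup N ρ) := Fintype.ofFinite _
  have hπ := extProj_surjective N ρ hinv'
  have hÑ : (extIncl N ρ).range.Normal := extIncl_range_normal N ρ
  haveI : Fintype (extIncl N ρ).range := Fintype.ofFinite _
  haveI := extRep_isIrreducible N ρ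
  have hτ : IsIrrCharacter (extGroup N ρ) (extRep N ρ).character :=
    ⟨d, extRep N ρ, inferInstance, rfl⟩
  have hχ' : IsIrrCharacter (extGroup N ρ) (fun x => χ (extProj N ρ x)) := by
    obtain ⟨c, ρχ, hρχ, rfl⟩ := hχ
    haveI := hρχ
    exact ⟨c, ρχ.comp (extProj N ρ), isIrreducible_comp_of_surjective ρχ (extProj N ρ) hπ, rfl⟩
  set Γ := extGroup N ρ with hΓ
  set Ñ := (extIncl N ρ).range with hÑdef
  let ιe : N ≃* Ñ := MonoidHom.ofInjective (extIncl_injective N ρ)
  have hιe : ∀ n : N, ((ιe n : Ñ) : Γ) = extIncl N ρ n := fun n => rfl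
  set τ := (extRep N ρ).character with hτdef
  let τÑ : Ñ → ℂ := fun y => τ y
  have hτÑeq : τÑ = fun y => ρ.character (ιe.symm y) := by
    funext y
    obtain ⟨n, rfl⟩ := ιe.surjective y
    rw [MulEquiv.symm_apply_apply]
    rfl
  have hτÑ : IsIrrCharacter Ñ τÑ := by
    rw [hτÑeq]; exact isIrrCharacter_comp_equiv ιe.symm ⟨d, ρ, hρ, rfl⟩
  have hone : IsIrrCharacter Ñ (fun _ => (1 : ℂ)) := isIrrCharacter_one
  have hmul : (fun _ : Ñ => (1 : ℂ)) * τÑ = τÑ := by funext y; simp
  have hτc := isClassFunction_of_isCharacter (IsIrrCharacter.isCharacter hτ)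
  have hprodinv : ∀ g : Γ, conjFun Ñ hÑ ((fun _ : Ñ => (1 : ℂ)) * τÑ) g =
      (fun _ : Ñ => (1 : ℂ)) * τÑ := by
    intro g; rw [hmul]; funext y; rw [conjFun_apply]; exact hτc y g
  haveI : Fintype (IrrCharacter Γ) := @Fintype.ofFinite _ Cfsg.Agent.Helper81.irr_finite
  obtain ⟨m, hm⟩ := exists_nat_decomp (isCharacter_indFun Ñ (IsIrrCharacter.isCharacter hone))
  obtain ⟨h1, -, h3⟩ := gallagher_core Ñ hÑ hone (fun g => rfl) (by rw [hmul]; exact hτÑ)
    hprodinv hτ rfl m hm
  have hχ'c := isClassFunction_of_isCharacter (IsIrrCharacter.isCharacter hχ')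
  have hfr : classInner (indFun Ñ ((fun _ : Ñ => (1 : ℂ)) * τÑ))
      (fun x => χ (extProj N ρ x)) = (e₀ : ℂ) := by
    rw [frobenius_reciprocity Ñ _ hχ'c, hmul]
    have h5 : (fun y : Ñ => χ (extProj N ρ (y : Γ))) = (e₀ : ℂ) • τÑ := by
      funext y
      obtain ⟨n, rfl⟩ := ιe.surjective y
      have h6 := congrFun hres n
      simp only [Pi.smul_apply, smul_eq_mul] at h6 ⊢
      rw [hιe]
      exact h6
    rw [h5, classInner_smul_right, Cfsg.Agent.Helper81.irr_orthonormal hτÑ hτÑ, if_pos rfl]
    simp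
  rw [h3, classInner_sum_left] at hfr
  have hex : ∃ β : IrrCharacter Γ, m β ≠ 0 ∧
      classInner ((β : Γ → ℂ) * τ) (fun x => χ (extProj N ρ x)) ≠ 0 := by
    by_contra hcon
    push Not at hcon
    have h0 : ∑ β : IrrCharacter Γ, classInner ((m β : ℂ) • ((β : Γ → ℂ) * τ))
        (fun x => χ (extProj N ρ x)) = 0 := by
      apply Finset.sum_eq_zero
      intro β _
      rw [classInner_smul_left]
      by_cases h0 : m β = 0
      · simp [h0]
      · rw [hcon β h0, mul_zero]
    rw [h0] at hfr
    exact he₀0 (by exact_mod_cast hfr.symm)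
  obtain ⟨β, hmβ, hβne⟩ := hex
  have hβτ : (β : Γ → ℂ) * τ = fun x => χ (extProj N ρ x) :=
    eq_of_classInner_ne_zero (h1 β hmβ) hχ' hβne
  obtain ⟨k, ρβ, hρβ, hβ⟩ := β.2
  haveI := hρβ
  have hβc := isClassFunction_of_isCharacter (IsIrrCharacter.isCharacter β.2)
  -- the copy of `N` acts trivially
  have hmβ' : classInner (indFun Ñ (fun _ : Ñ => (1 : ℂ))) (β : Γ → ℂ) = (m β : ℂ) := by
    rw [hm]; exact classInner_nat_decomp (fun γ => (m γ : ℂ)) β
  rw [frobenius_reciprocity Ñ _ hβc] at hmβ'
  have hne1 : classInner (fun y : Ñ => (β : Γ → ℂ) y) (fun _ : Ñ => (1 : ℂ)) ≠ 0 := by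
    rw [classInner_conj_symm, hmβ']
    simpa using hmβ
  have hresβ := restrict_eq_smul_of_invariant Ñ hÑ β.2 hone hne1 (fun g => rfl)
  have hker : ∀ n : N, ρβ (extIncl N ρ n) = 1 := by
    intro n
    have e1 := congrFun hresβ ⟨extIncl N ρ n, n, rfl⟩
    have e2 := congrFun hresβ 1
    simp only [Pi.smul_apply, smul_eq_mul, mul_one, Subgroup.coe_one] at e1 e2
    have e3 : ρβ.character (extIncl N ρ n) = (finrank ℂ (Fin k → ℂ) : ℂ) := by
      rw [hβ, e1, ← e2, ← hβ, Representation.char_one]
    exact (Cfsg.Agent.Helper3.char_eq_finrank_iff ρβ _).mp e3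
  refine ⟨k, ρβ, hρβ, ?_, hker⟩
  intro x
  have := congrFun hβτ x
  simp only [Pi.mul_apply] at this
  rw [hβ]
  exact this

end TensorFactor

end Cfsg.Agent.H3Berger
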