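import Mathlib
import Cfsg.Prelude.Def_Characters
import Cfsg.Agent.Lib.Helper3.BergerA

set_option autoImplicit false
set_option linter.unusedSectionVars false
set_option linter.style.haveILetI false

/-!
# Tools for Berger's theorem (S0889), part B

Quasi-primitivity passes to the tensor factor `β` of `χ̂ = β τ`.
-/

namespace Cfsg.Agent.H3Berger

open Cfsg Cfsg.Agent.Helper81 Cfsg.Agent.Helper79
open Module
open scoped ComplexConjugate

section Kernel

universe u
variable {M : Type u} [Group M] [Fintype M]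

/-- A character value `α n = α 1` forces every irreducible constituent to be invariant under
translation by `n`. -/
theorem constituent_mul_eq {α ψ : M → ℂ} (hα : IsCharacter M α) (hψ : IsIrrCharacter M ψ)
    (hne : classInner α ψ ≠ 0) (n : M) (hn : α n = α 1) : ∀ x, ψ (x * n) = ψ x := by
  obtain ⟨α', hα', hsplit⟩ := exists_add_of_classInner_ne_zero hα hψ hne
  obtain ⟨a, ρψ, -, rfl⟩ := hψ
  obtain ⟨b, ρα, rfl⟩ := hα'
  have h1 : ρψ.character n + ρα.character n = ρψ.character 1 + ρα.character 1 := by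
    have e1 := congrFun hsplit n
    have e2 := congrFun hsplit 1
    simp only [Pi.add_apply] at e1 e2
    rw [← e1, ← e2, hn]
  rw [Representation.char_one, Representation.char_one] at h1
  have hA := Cfsg.Agent.Helper79.norm_char_le ρψ n
  have hB := Cfsg.Agent.Helper79.norm_char_le ρα n
  have hreA : (ρψ.character n).re ≤ ‖ρψ.character n‖ := Complex.re_le_norm _
  have hreB : (ρα.character n).re ≤ ‖ρα.character n‖ := Complex.re_le_norm _
  have hre := congrArg Complex.re h1
  simp only [Complex.add_re, Complex.natCast_re] at hre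
  have hre1 : (ρψ.character n).re = (finrank ℂ (Fin a → ℂ) : ℝ) := by linarith
  have him : (ρψ.character n).im = 0 := by
    have h2 : ‖ρψ.character n‖ ^ 2 = (ρψ.character n).re ^ 2 + (ρψ.character n).im ^ 2 := by
      rw [← Complex.normSq_eq_norm_sq, Complex.normSq_apply]; ring
    have h3 : ‖ρψ.character n‖ ^ 2 ≤ (finrank ℂ (Fin a → ℂ) : ℝ) ^ 2 :=
      pow_le_pow_left₀ (norm_nonneg _) hA 2
    rw [h2, hre1] at h3
    have h4 : (ρψ.character n).im ^ 2 ≤ 0 := by linarith
    have h5 : (ρψ.character n).im ^ 2 = 0 := le_antisymm h4 (sq_nonneg _)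
    exact pow_eq_zero_iff (two_ne_zero) |>.mp h5
  have hval : ρψ.character n = (finrank ℂ (Fin a → ℂ) : ℂ) := by
    apply Complex.ext
    · rw [hre1]; simp
    · rw [him]; simp
  have hone : ρψ n = 1 := (Cfsg.Agent.Helper79.char_eq_finrank_iff ρψ n).mp hval
  intro x
  simp only [Representation.character, map_mul, hone, mul_one]

end Kernel

section Factor

universe u
variable {Γ : Type u} [Group Γ] [Fintype Γ]

/-- inner products on `M ⊇ Ñ` of right-`Ñ`-invariant functions are unchanged by multiplying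
both with `τ`, if `τ` restricts irreducibly to `Ñ`. -/
theorem classInner_mul_tau (Ñ M : Subgroup Γ) [Fintype Ñ] [Fintype M] (hÑM : Ñ ≤ M) {d : ℕ}
    (ρτ : Representation ℂ Γ (Fin d → ℂ))
    (hτirr : Representation.IsIrreducible (ρτ.comp Ñ.subtype : Representation ℂ Ñ (Fin d → ℂ)))
    (a b : M → ℂ)
    (ha : ∀ (x : M) (n : Ñ), a (x * ⟨(n : Γ), hÑM n.2⟩) = a x)
    (hb : ∀ (x : M) (n : Ñ), b (x * ⟨(n : Γ), hÑM n.2⟩) = b x) :
    classInner (a * fun x : M => ρτ.character x) (b * fun x : M => ρτ.character x) =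
      classInner a b := by
  unfold classInner
  congr 1
  rw [← sum_mul_normSq_eq ρτ Ñ M hÑM hτirr (fun x => a x * conj (b x))
    (fun x n => by simp only [ha, hb])]
  apply Finset.sum_congr rfl
  intro x _
  simp only [Pi.mul_apply, map_mul]
  ring

/-- **Quasi-primitivity passes to the tensor factor.**  If `β τ` restricted to `M ⊴ Γ` is a
multiple of an irreducible character, where `τ` restricts irreducibly to `Ñ ≤ M` and `Ñ` acts
trivially in `β`, then `β` restricted to `M` is a multiple of an irreducible character. -/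
theorem homogeneous_factor (Ñ : Subgroup Γ) {d k : ℕ}
    (ρτ : Representation ℂ Γ (Fin d → ℂ))
    (hτirr : Representation.IsIrreducible (ρτ.comp Ñ.subtype : Representation ℂ Ñ (Fin d → ℂ)))
    (ρβ : Representation ℂ Γ (Fin k → ℂ)) [hβirr : ρβ.IsIrreducible]
    (hker : ∀ n ∈ Ñ, ρβ n = 1)
    (M : Subgroup Γ) (hM : M.Normal) (hÑM : Ñ ≤ M)
    (ψh : M → ℂ) (e' : ℕ) (hψh : IsIrrCharacter M ψh)
    (hhom : (fun m : M => ρβ.character m * ρτ.character m) = (e' : ℂ) • ψh) :
    ∃ (ψ : M → ℂ) (e : ℕ), IsIrrCharacter M ψ ∧ (fun m : M => ρβ.character m) = (e : ℂ) • ψ := by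
  classical
  haveI : Fintype M := Fintype.ofFinite _
  haveI : Fintype Ñ := Fintype.ofFinite _
  have hβ : IsIrrCharacter Γ ρβ.character := ⟨k, ρβ, hβirr, rfl⟩
  have hβc : IsCharacter Γ ρβ.character := IsIrrCharacter.isCharacter hβ
  have hβcf := isClassFunction_of_isCharacter hβc
  set βM : M → ℂ := fun m : M => ρβ.character m with hβMdef
  set τM : M → ℂ := fun m : M => ρτ.character m with hτMdef
  have hβM : IsCharacter M βM := isCharacter_restrict M hβc
  have hτMc : IsCharacter M τM := isCharacter_restrict M ⟨d, ρτ, rfl⟩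
  have hprod : βM * τM = (e' : ℂ) • ψh := hhom
  have hk0 : 0 < k := degree_pos_of_irreducible' ρβ
  have hβM0 : βM ≠ 0 := by
    intro h0
    have := congrFun h0 1
    simp only [hβMdef, Subgroup.coe_one, Representation.char_one, Pi.zero_apply,
      Module.finrank_fin_fun] at this
    have : (k : ℂ) ≠ 0 := by exact_mod_cast hk0.ne'
    contradiction
  -- right invariance
  have hβinv : ∀ (x : M) (n : Ñ), βM (x * ⟨(n : Γ), hÑM n.2⟩) = βM x := by
    intro x n
    simp only [hβMdef, Subgroup.coe_mul, Representation.character, map_mul, hker _ n.2, mul_one]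
  have hβn : ∀ n : Ñ, βM ⟨(n : Γ), hÑM n.2⟩ = βM 1 := by
    intro n
    have := hβinv 1 n
    rwa [one_mul] at this
  have hcinv : ∀ ψ' : M → ℂ, IsIrrCharacter M ψ' → classInner βM ψ' ≠ 0 →
      ∀ (x : M) (n : Ñ), ψ' (x * ⟨(n : Γ), hÑM n.2⟩) = ψ' x := by
    intro ψ' hψ' hne x n
    exact constituent_mul_eq hβM hψ' hne _ (hβn n) x
  -- key: every constituent times τ is ψh
  have hkey : ∀ ψ' : M → ℂ, IsIrrCharacter M ψ' → classInner βM ψ' ≠ 0 → ψ' * τM = ψh := by
    intro ψ' hψ' hne
    have hinv' := hcinv ψ' hψ' hne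
    have h1 : classInner (ψ' * τM) (ψ' * τM) = 1 := by
      rw [classInner_mul_tau Ñ M hÑM ρτ hτirr ψ' ψ' hinv' hinv', irr_orthonormal hψ' hψ',
        if_pos rfl]
    have hirr : IsIrrCharacter M (ψ' * τM) :=
      isIrrCharacter_of_classInner_self_eq_one
        (isCharacter_mul (IsIrrCharacter.isCharacter hψ') hτMc) h1
    have h2 : classInner (βM * τM) (ψ' * τM) = classInner βM ψ' :=
      classInner_mul_tau Ñ M hÑM ρτ hτirr βM ψ' hβinv hinv'
    rw [hprod, classInner_smul_left] at h2
    have h3 : classInner ψh (ψ' * τM) ≠ 0 := by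
      intro h0
      rw [h0, mul_zero] at h2
      exact hne h2.symm
    exact (eq_of_classInner_ne_zero hψh hirr h3).symm
  obtain ⟨ψ, hψ, hne⟩ := exists_irr_constituent hβM hβM0
  have hinvψ : ∀ g : Γ, conjFun M hM ψ g = ψ := by
    intro g
    have hψg : IsIrrCharacter M (conjFun M hM ψ g) := conjFun_isIrrCharacter M hM hψ g
    have hneg : classInner βM (conjFun M hM ψ g) ≠ 0 := by
      rw [hβMdef, classInner_restrict_conjFun M hM hβcf ψ g]
      exact hne
    have e1 := hkey ψ hψ hne
    have e2 := hkey _ hψg hneg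
    have h1 : classInner (conjFun M hM ψ g) ψ = 1 := by
      rw [← classInner_mul_tau Ñ M hÑM ρτ hτirr _ _ (hcinv _ hψg hneg) (hcinv ψ hψ hne), e1, e2,
        irr_orthonormal hψh hψh, if_pos rfl]
    rw [irr_orthonormal hψg hψ] at h1
    by_contra hcon
    rw [if_neg hcon] at h1
    exact zero_ne_one h1
  have hres := restrict_eq_smul_of_invariant M hM hβ hψ hne hinvψ
  obtain ⟨e, he⟩ := exists_nat_classInner hβM hψ
  refine ⟨ψ, e, hψ, ?_⟩
  rw [← he]
  exact hres

end Factor

end Cfsg.Agent.H3Berger
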