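import Mathlib
import Cfsg.Prelude.Def_Characters
import Cfsg.Agent.Lib.Helper3.BergerB
import Cfsg.Agent.Lib.Helper81.CharAbel
import Cfsg.Agent.Lib.Helper81.CharSylInd

set_option autoImplicit false
set_option linter.unusedSectionVars false
set_option linter.style.haveILetI false

/-!
# Tools for Berger's theorem (S0889), part C

Quasi-primitive characters: transfer along surjections and to tensor factors.
-/

namespace Cfsg.Agent.H3Berger

open Cfsg Cfsg.Agent.Helper81 Cfsg.Agent.Helper79
open Module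
open scoped ComplexConjugate

universe u

/-- quasi-primitive: homogeneous restriction to every normal subgroup -/
def QP (G : Type u) [Group G] (χ : G → ℂ) : Prop :=
  ∀ N : Subgroup G, N.Normal → ∃ (ϑ : N → ℂ) (e : ℕ), IsIrrCharacter N ϑ ∧
    (fun n : N => χ n) = (e : ℂ) • ϑ

section RepLevel

variable {G K : Type*} [Group G] [Group K] {V : Type*} [AddCommGroup V] [Module ℂ V]

/-- Composition of an irreducible representation with a homomorphism which is surjective
modulo the kernel of the representation is irreducible. -/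
theorem isIrreducible_comp_of_surj_mod (ρ : Representation ℂ G V) [hρ : ρ.IsIrreducible]
    (φ : K →* G) (hφ : ∀ g : G, ∃ k : K, ρ (φ k) = ρ g) :
    Representation.IsIrreducible (ρ.comp φ : Representation ℂ K V) := by
  have key : ∀ U : Subrepresentation (ρ.comp φ : Representation ℂ K V), ∃ U' : Subrepresentation ρ,
      U'.toSubmodule = U.toSubmodule := by
    intro U
    refine ⟨⟨U.toSubmodule, ?_⟩, rfl⟩
    intro g v hv
    obtain ⟨k, hk⟩ := hφ g
    rw [← hk]
    exact U.apply_mem_toSubmodule k hv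
  refine { exists_pair_ne := ⟨⊥, ⊤, ?_⟩, eq_bot_or_eq_top := ?_ }
  · intro h
    have h1 : (⊥ : Subrepresentation ρ) ≠ ⊤ := bot_ne_top
    apply h1
    apply Subrepresentation.toSubmodule_injective
    have h2 := congrArg Subrepresentation.toSubmodule h
    exact h2
  · intro U
    obtain ⟨U', hU'⟩ := key U
    rcases hρ.eq_bot_or_eq_top U' with h | h
    · left
      apply Subrepresentation.toSubmodule_injective
      rw [← hU', h]; rfl
    · right
      apply Subrepresentation.toSubmodule_injective
      rw [← hU', h]; rfl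

end RepLevel

section Transfer

variable {Γ G : Type u} [Group Γ] [Group G]

/-- quasi-primitivity is inherited by inflations along surjections -/
theorem qp_comp_surj (π : Γ →* G) (hπ : Function.Surjective π) {χ : G → ℂ} (h : QP G χ) :
    QP Γ (fun x => χ (π x)) := by
  intro M hM
  have hMn : (M.map π).Normal := hM.map π hπ
  obtain ⟨ψ, e, hψ, hres⟩ := h (M.map π) hMn
  let πM : M →* (M.map π) := π.subgroupMap M
  have hπM : Function.Surjective πM := π.subgroupMap_surjective M
  refine ⟨fun m => ψ (πM m), e, ?_, ?_⟩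
  · obtain ⟨k, ρ, hρ, rfl⟩ := hψ
    haveI := hρ
    exact ⟨k, ρ.comp πM, isIrreducible_comp_of_surjective ρ πM hπM, rfl⟩
  · funext m
    have := congrFun hres (πM m)
    simp only [Pi.smul_apply, smul_eq_mul] at this ⊢
    rw [← this]
    rfl

end Transfer

section QPFactor

variable {Γ : Type u} [Group Γ] [Fintype Γ]

/-- the tensor factor of a quasi-primitive character is quasi-primitive -/
theorem qp_factor (Ñ : Subgroup Γ) (hÑ : Ñ.Normal) {d k : ℕ}
    (ρτ : Representation ℂ Γ (Fin d → ℂ))
    (hτirr : Representation.IsIrreducible (ρτ.comp Ñ.subtype : Representation ℂ Ñ (Fin d → ℂ)))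
    (ρβ : Representation ℂ Γ (Fin k → ℂ)) [hβirr : ρβ.IsIrreducible]
    (hker : ∀ n ∈ Ñ, ρβ n = 1)
    (hqp : QP Γ (fun x => ρβ.character x * ρτ.character x)) : QP Γ ρβ.character := by
  classical
  intro M hM
  have hM'n : (M ⊔ Ñ).Normal := Subgroup.sup_normal M Ñ
  obtain ⟨ψh, e', hψh, hhom⟩ := hqp (M ⊔ Ñ) hM'n
  obtain ⟨ψ', e, hψ', hres'⟩ := homogeneous_factor Ñ ρτ hτirr ρβ hker (M ⊔ Ñ) hM'n le_sup_right
    ψh e' hψh hhom
  have hk0 : 0 < k := degree_pos_of_irreducible' ρβ
  have hkC : (k : ℂ) ≠ 0 := by exact_mod_cast hk0.ne'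
  obtain ⟨a, ρψ, hρψ, rfl⟩ := hψ'
  haveI := hρψ
  have h1 := congrFun hres' 1
  simp only [Subgroup.coe_one, Representation.char_one, Pi.smul_apply, smul_eq_mul,
    Module.finrank_fin_fun] at h1
  have heC : (e : ℂ) ≠ 0 := by
    intro h0
    rw [h0, zero_mul] at h1
    exact hkC h1
  let ι : M →* (M ⊔ Ñ : Subgroup Γ) := Subgroup.inclusion le_sup_left
  have hone : ∀ (n : Γ) (hn : n ∈ Ñ), ρψ ⟨n, (le_sup_right : Ñ ≤ M ⊔ Ñ) hn⟩ = 1 := by
    intro n hn
    have h2 := congrFun hres' ⟨n, (le_sup_right : Ñ ≤ M ⊔ Ñ) hn⟩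
    simp only [Pi.smul_apply, smul_eq_mul] at h2
    have h3 : ρβ.character n = (k : ℂ) := by
      simp only [Representation.character, hker n hn]
      simp
    rw [h3, h1] at h2
    have h4 := mul_left_cancel₀ heC h2
    apply (Cfsg.Agent.Helper79.char_eq_finrank_iff ρψ _).mp
    rw [Module.finrank_fin_fun, ← h4]
  refine ⟨fun m => ρψ.character (ι m), e, ?_, ?_⟩
  · refine ⟨a, ρψ.comp ι, isIrreducible_comp_of_surj_mod ρψ ι ?_, rfl⟩
    rintro ⟨g, hg⟩
    obtain ⟨m, hm, n, hn, rfl⟩ := Subgroup.mem_sup_of_normal_right.mp hg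
    refine ⟨⟨m, hm⟩, ?_⟩
    have : (⟨m * n, hg⟩ : (M ⊔ Ñ : Subgroup Γ)) =
        ι ⟨m, hm⟩ * ⟨n, (le_sup_right : Ñ ≤ M ⊔ Ñ) hn⟩ := rfl
    rw [this, map_mul, hone n hn, mul_one]
  · funext m
    have := congrFun hres' (ι m)
    simp only [Pi.smul_apply, smul_eq_mul] at this ⊢
    rw [← this]
    rfl

end QPFactor

section Misc

variable {G : Type u} [Group G] [Fintype G]

/-- moving a factor to the other side of the inner product -/
theorem classInner_mul_left_conj (a t b : G → ℂ) :
    classInner (a * t) b = classInner a ((fun x => conj (t x)) * b) := by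
  unfold classInner
  congr 1
  apply Finset.sum_congr rfl
  intro x _
  simp only [Pi.mul_apply, map_mul, Complex.conj_conj]
  ring

theorem isCharacter_eq_zero_of_one_eq_zero {α : G → ℂ} (hα : IsCharacter G α) (h : α 1 = 0) :
    α = 0 := by
  obtain ⟨n, ρ, rfl⟩ := hα
  rw [Representation.char_one, Module.finrank_fin_fun] at h
  have hn : n = 0 := by exact_mod_cast h
  subst hn
  funext g
  exact character_eq_zero_of_finrank_eq_zero ρ (by simp) g

/-- an irreducible character is not the sum of two non-zero characters -/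
theorem eq_zero_of_irr_add {α β : G → ℂ} (hα : IsCharacter G α) (hβ : IsCharacter G β)
    (h : IsIrrCharacter G (α + β)) (hα0 : α ≠ 0) : β = 0 := by
  by_contra hβ0
  obtain ⟨ξ, hξ, hξne⟩ := exists_irr_constituent hα hα0
  obtain ⟨ζ, hζ, hζne⟩ := exists_irr_constituent hβ hβ0
  obtain ⟨a, ha⟩ := exists_nat_classInner hα hξ
  obtain ⟨b, hb⟩ := exists_nat_classInner hβ hξ
  obtain ⟨a', ha'⟩ := exists_nat_classInner hα hζ
  obtain ⟨b', hb'⟩ := exists_nat_classInner hβ hζ
  have ha0 : a ≠ 0 := by
    intro h0; rw [h0] at ha; exact hξne (by simpa using ha)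
  have hb'0 : b' ≠ 0 := by
    intro h0; rw [h0] at hb'; exact hζne (by simpa using hb')
  have h1 : classInner (α + β) ξ ≠ 0 := by
    rw [classInner_add_left, ha, hb]
    have : a + b ≠ 0 := by omega
    exact_mod_cast this
  have h2 : classInner (α + β) ζ ≠ 0 := by
    rw [classInner_add_left, ha', hb']
    have : a' + b' ≠ 0 := by omega
    exact_mod_cast this
  have e1 := eq_of_classInner_ne_zero h hξ h1
  have e2 := eq_of_classInner_ne_zero h hζ h2
  -- so α + β = ξ = ζ, with [α, ξ] = a ≥ 1 and [β, ξ] = b' ≥ 1 : [ξ, ξ] = a + b' ≥ 2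
  have e3 : ζ = ξ := by rw [← e1, ← e2]
  rw [e3] at hb'
  have h3 : classInner (α + β) ξ = 1 := by
    rw [e1, irr_orthonormal hξ hξ, if_pos rfl]
  rw [classInner_add_left, ha, hb'] at h3
  have : a + b' = 1 := by exact_mod_cast h3
  omega

/-- if the induced character is irreducible then so is the original character -/
theorem irr_of_indFun_irr (H : Subgroup G) {ϑ : H → ℂ} (hϑ : IsCharacter H ϑ)
    (hind : IsIrrCharacter G (indFun H ϑ)) : IsIrrCharacter H ϑ := by
  classical
  haveI : Fintype H := Fintype.ofFinite _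
  have hϑ0 : ϑ ≠ 0 := by
    intro h0
    rw [h0, indFun_zero] at hind
    obtain ⟨n, ρ, hρ, hρ0⟩ := hind
    haveI := hρ
    have h1 := congrFun hρ0 1
    rw [Representation.char_one, Module.finrank_fin_fun] at h1
    have : 0 < n := degree_pos_of_irreducible' ρ
    have : (n : ℂ) ≠ 0 := by exact_mod_cast this.ne'
    exact this h1
  obtain ⟨ϑ₁, hϑ₁, hne⟩ := exists_irr_constituent hϑ hϑ0
  obtain ⟨α', hα', hsplit⟩ := exists_add_of_classInner_ne_zero hϑ hϑ₁ hne
  rw [hsplit, indFun_add] at hind
  have hA : IsCharacter G (indFun H ϑ₁) := isCharacter_indFun H (IsIrrCharacter.isCharacter hϑ₁)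
  have hB : IsCharacter G (indFun H α') := isCharacter_indFun H hα'
  have hA0 : indFun H ϑ₁ ≠ 0 := by
    intro h0
    have h1 := congrFun h0 1
    rw [Cfsg.Agent.Helper81.indFun_one] at h1
    simp only [Pi.zero_apply, mul_eq_zero] at h1
    rcases h1 with h1 | h1
    · have : H.index ≠ 0 := Subgroup.index_ne_zero_of_finite
      exact this (by exact_mod_cast h1)
    · obtain ⟨n, ρ, hρ, rfl⟩ := hϑ₁
      haveI := hρ
      rw [Representation.char_one, Module.finrank_fin_fun] at h1
      have : 0 < n := degree_pos_of_irreducible' ρ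
      have : (n : ℂ) ≠ 0 := by exact_mod_cast this.ne'
      exact this h1
  have hB0 := eq_zero_of_irr_add hA hB hind hA0
  have hα'0 : α' = 0 := by
    apply isCharacter_eq_zero_of_one_eq_zero hα'
    have h1 := congrFun hB0 1
    rw [Cfsg.Agent.Helper81.indFun_one] at h1
    simp only [Pi.zero_apply, mul_eq_zero] at h1
    rcases h1 with h1 | h1
    · have : H.index ≠ 0 := Subgroup.index_ne_zero_of_finite
      exact absurd (by exact_mod_cast h1) this
    · exact h1
  rw [hsplit, hα'0, add_zero]
  exact hϑ₁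

end Misc

section ExtPackage

variable {G : Type u} [Group G] [Fintype G]

/-- the central extension of a solvable group is solvable -/
theorem isSolvable_extGroup [Group.IsSolvable G] (N : Subgroup G) [hN : N.Normal] {d : ℕ}
    (ρ : Representation ℂ N (Fin d → ℂ)) [hρ : ρ.IsIrreducible] :
    Group.IsSolvable (extGroup N ρ) := by
  have hab : ∀ a b : (extProj N ρ).ker, a * b = b * a := by
    intro a b
    obtain ⟨la, -, hla⟩ := ker_scalar N ρ a.1.1 a.1.2 a.2
    apply Subtype.ext
    apply Subtype.ext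
    apply Prod.ext
    · have ha : (a.1.1).1 = 1 := a.2
      have hb : (b.1.1).1 = 1 := b.2
      simp [ha, hb]
    · simp only [Subgroup.coe_mul, Prod.snd_mul]
      rw [hla, scU_comm]
  haveI : Group.IsSolvable (extProj N ρ).ker :=
    Group.isSolvable_of_comm hab
  exact Group.isSolvable_of_ker_le_range (extProj N ρ).ker.subtype (extProj N ρ)
    (by rw [Subgroup.range_subtype])

/-- the restriction of the canonical extension to the copy of `N` is irreducible -/
theorem extRep_range_irreducible (N : Subgroup G) [hN : N.Normal] {d : ℕ}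
    (ρ : Representation ℂ N (Fin d → ℂ)) [hρ : ρ.IsIrreducible] :
    Representation.IsIrreducible ((extRep N ρ).comp (extIncl N ρ).range.subtype :
      Representation ℂ (extIncl N ρ).range (Fin d → ℂ)) := by
  apply isIrreducible_of_comp _ (extIncl N ρ).rangeRestrict
  have : ((extRep N ρ).comp (extIncl N ρ).range.subtype).comp (extIncl N ρ).rangeRestrict = ρ := by
    ext n : 1
    rfl
  rw [this]
  exact hρ

/-- the package: tensor factor `β` of a quasi-primitive character is quasi-primitive -/
theorem ext_factor_qp (N : Subgroup G) [hN : N.Normal] [Fintype N]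
    {χ : G → ℂ} (hχ : IsIrrCharacter G χ) (hqp : QP G χ) {d : ℕ}
    (ρ : Representation ℂ N (Fin d → ℂ)) [hρ : ρ.IsIrreducible]
    (hne : classInner (fun n : N => χ n) ρ.character ≠ 0)
    (hinv : ∀ g : G, conjFun N hN ρ.character g = ρ.character) :
    ∃ (k : ℕ) (ρβ : Representation ℂ (extGroup N ρ) (Fin k → ℂ)), ρβ.IsIrreducible ∧
      (∀ x, ρβ.character x * (extRep N ρ).character x = χ (extProj N ρ x)) ∧
      (∀ n : N, ρβ (extIncl N ρ n) = 1) ∧ QP (extGroup N ρ) ρβ.character := by
  classical
  obtain ⟨k, ρβ, hρβ, hprod, hker⟩ := exists_tensor_factor N hχ ρ hne hinv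
  haveI := hρβ
  refine ⟨k, ρβ, hρβ, hprod, hker, ?_⟩
  haveI : Finite (extGroup N ρ) := finite_extGroup N ρ
  haveI : Fintype (extGroup N ρ) := Fintype.ofFinite _
  have hinv' : ∀ (g : G) (n : N),
      ρ.character ⟨g * n * g⁻¹, hN.conj_mem n n.2 g⟩ = ρ.character n :=
    fun g n => congrFun (hinv g) n
  have hπ := extProj_surjective N ρ hinv'
  apply qp_factor (extIncl N ρ).range (extIncl_range_normal N ρ) (extRep N ρ)
    (extRep_range_irreducible N ρ) ρβ
  · rintro _ ⟨n, rfl⟩
    exact hker n
  · have h1 : (fun x => ρβ.character x * (extRep N ρ).character x) =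
        fun x => χ (extProj N ρ x) := funext hprod
    rw [h1]
    exact qp_comp_surj (extProj N ρ) hπ hqp

end ExtPackage

end Cfsg.Agent.H3Berger
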