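import Mathlib
import Cfsg.Prelude.Def_Characters
import Cfsg.Agent.Lib.Helper3.BergerC

set_option autoImplicit false
set_option linter.unusedSectionVars false
set_option linter.style.haveILetI false

/-!
# Tools for Berger's theorem (S0889), part D : the induction statement and case A
-/

namespace Cfsg.Agent.H3Berger

open Cfsg Cfsg.Agent.Helper81 Cfsg.Agent.Helper79
open Module
open scoped ComplexConjugate

universe u

/-- Berger's theorem for characters of degree `k` (in universe `u`). -/
def BergerP (k : ℕ) : Prop :=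
  ∀ (G : Type u) [Group G] [Fintype G] [Group.IsSolvable G] (χ : G → ℂ),
    IsIrrCharacter G χ → χ 1 = (k : ℂ) → QP G χ →
    ∀ (K : Subgroup G), K ≠ ⊤ → ∀ ψ : K → ℂ, IsCharacter K ψ → indFun K ψ ≠ χ

section CaseA

variable {G : Type u} [Group G] [Fintype G]

/-- invariance of the homogeneous constituent -/
theorem conjFun_eq_of_restrict_eq_smul (C : Subgroup G) (hC : C.Normal) {χ : G → ℂ}
    (hχ : IsClassFunction G χ) {φ : C → ℂ} {e : ℂ} (he : e ≠ 0)
    (hres : (fun c : C => χ c) = e • φ) (g : G) : conjFun C hC φ g = φ := by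
  funext c
  rw [conjFun_apply]
  have h1 := congrFun hres ⟨g * c * g⁻¹, hC.conj_mem c c.2 g⟩
  have h2 := congrFun hres c
  simp only [Pi.smul_apply, smul_eq_mul] at h1 h2
  have h3 : χ (g * c * g⁻¹) = χ c := hχ c g
  rw [h1, h2] at h3
  exact mul_left_cancel₀ he h3

theorem comap_ne_top {Γ : Type*} [Group Γ] (π : Γ →* G) (hπ : Function.Surjective π)
    (H : Subgroup G) (hH : H ≠ ⊤) : H.comap π ≠ ⊤ := by
  intro h
  apply hH
  rw [eq_top_iff]
  intro g _
  obtain ⟨x, rfl⟩ := hπ g
  have : x ∈ H.comap π := by rw [h]; trivial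
  exact this

/-- Case A: the homogeneous constituent of `χ` on the core is not linear. -/
theorem caseA [Group.IsSolvable G] (n : ℕ) (IH : ∀ k < n, BergerP.{u} k)
    {χ : G → ℂ} (hχ : IsIrrCharacter G χ) (hχ1 : χ 1 = (n : ℂ)) (hqp : QP G χ)
    (H : Subgroup G) (hH : H ≠ ⊤) (ϑ : H → ℂ) (hϑ : IsIrrCharacter H ϑ)
    (hind : indFun H ϑ = χ)
    (C : Subgroup G) [hC : C.Normal] (hCH : C ≤ H) {d : ℕ}
    (ρ : Representation ℂ C (Fin d → ℂ)) [hρ : ρ.IsIrreducible] (hd : 2 ≤ d)
    (e : ℕ) (hres : (fun c : C => χ c) = (e : ℂ) • ρ.character) : False := by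
  classical
  haveI : Fintype C := Fintype.ofFinite _
  haveI : Fintype H := Fintype.ofFinite _
  have hχc : IsCharacter G χ := IsIrrCharacter.isCharacter hχ
  have hχcf := isClassFunction_of_isCharacter hχc
  have hn0 : n ≠ 0 := by
    intro h0
    obtain ⟨m, σ, hσ, rfl⟩ := hχ
    haveI := hσ
    rw [Representation.char_one, Module.finrank_fin_fun, h0] at hχ1
    have : 0 < m := degree_pos_of_irreducible' σ
    have : (m : ℂ) ≠ 0 := by exact_mod_cast this.ne'
    exact this (by simpa using hχ1)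
  have he0 : (e : ℂ) ≠ 0 := by
    intro h0
    have h1 := congrFun hres 1
    simp only [Subgroup.coe_one, Pi.smul_apply, smul_eq_mul, h0, zero_mul] at h1
    rw [hχ1] at h1
    exact hn0 (by exact_mod_cast h1)
  have hϑC : IsIrrCharacter C ρ.character := ⟨d, ρ, hρ, rfl⟩
  have hne : classInner (fun c : C => χ c) ρ.character ≠ 0 := by
    rw [hres, classInner_smul_left, irr_orthonormal hϑC hϑC, if_pos rfl, mul_one]
    exact he0
  have hinv : ∀ g : G, conjFun C hC ρ.character g = ρ.character :=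
    fun g => conjFun_eq_of_restrict_eq_smul C hC hχcf he0 hres g
  obtain ⟨k, ρβ, hρβ, hprod, hker, hqpβ⟩ := ext_factor_qp C hχ hqp ρ hne hinv
  haveI := hρβ
  haveI : Finite (extGroup C ρ) := finite_extGroup C ρ
  haveI : Fintype (extGroup C ρ) := Fintype.ofFinite _
  haveI : Group.IsSolvable (extGroup C ρ) := isSolvable_extGroup C ρ
  have hinv' : ∀ (g : G) (c : C),
      ρ.character ⟨g * c * g⁻¹, hC.conj_mem c c.2 g⟩ = ρ.character c :=
    fun g c => congrFun (hinv g) c
  have hπ := extProj_surjective C ρ hinv'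
  set π := extProj C ρ with hπdef
  set τ := (extRep C ρ).character with hτdef
  set β := ρβ.character with hβdef
  have hβirr : IsIrrCharacter (extGroup C ρ) β := ⟨k, ρβ, hρβ, rfl⟩
  have hβc : IsCharacter (extGroup C ρ) β := IsIrrCharacter.isCharacter hβirr
  have hβcf := isClassFunction_of_isCharacter hβc
  -- degrees
  have hkd : k * d = n := by
    have h1 := hprod 1
    rw [map_one, hχ1, hβdef, hτdef, Representation.char_one, Representation.char_one,
      Module.finrank_fin_fun, Module.finrank_fin_fun] at h1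
    exact_mod_cast h1
  have hk0 : 0 < k := degree_pos_of_irreducible' ρβ
  have hkn : k < n := by
    rw [← hkd]
    nlinarith
  have hβ1 : β 1 = (k : ℂ) := by
    rw [hβdef, Representation.char_one, Module.finrank_fin_fun]
  have hprim := IH k hkn (extGroup C ρ) β hβirr hβ1 hqpβ
  -- the preimage of `H`
  set Hh : Subgroup (extGroup C ρ) := H.comap π with hHh
  haveI : Fintype Hh := Fintype.ofFinite _
  have hHhtop : Hh ≠ ⊤ := comap_ne_top π hπ H hH
  let πH : Hh →* H := π.subgroupComap H
  have hπH : Function.Surjective πH := π.subgroupComap_surjective_of_surjective H hπ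
  set ϑh : Hh → ℂ := fun h => ϑ (πH h) with hϑh
  have hϑhirr : IsIrrCharacter Hh ϑh := by
    obtain ⟨a, σ, hσ, rfl⟩ := hϑ
    haveI := hσ
    exact ⟨a, σ.comp πH, isIrreducible_comp_of_surjective σ πH hπH, rfl⟩
  set χh : (extGroup C ρ) → ℂ := fun x => χ (π x) with hχh
  have hχhirr : IsIrrCharacter (extGroup C ρ) χh := by
    obtain ⟨c, ρχ, hρχ, rfl⟩ := hχ
    haveI := hρχ
    exact ⟨c, ρχ.comp π, isIrreducible_comp_of_surjective ρχ π hπ, rfl⟩
  have hχhcf := isClassFunction_of_isCharacter (IsIrrCharacter.isCharacter hχhirr)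
  have hindh : indFun Hh ϑh = χh := by
    funext x
    have := indFun_comap_surj π hπ H ϑ x
    rw [hind] at this
    exact this
  -- restrictions to `Hh`
  set βH : Hh → ℂ := fun h => β h with hβH
  set τH : Hh → ℂ := fun h => τ h with hτH
  have hβHc : IsCharacter Hh βH := isCharacter_restrict Hh hβc
  set Θ : Hh → ℂ := (fun x => conj (τH x)) * ϑh with hΘ
  have hinner : classInner βH Θ = 1 := by
    rw [hΘ, ← classInner_mul_left_conj]
    have h1 : βH * τH = fun h : Hh => χh h := by
      funext h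
      exact hprod h
    rw [h1, classInner_conj_symm, ← frobenius_reciprocity Hh ϑh hχhcf, hindh,
      irr_orthonormal hχhirr hχhirr, if_pos rfl, map_one]
  haveI : Fintype (IrrCharacter Hh) := @Fintype.ofFinite _ Cfsg.Agent.Helper81.irr_finite
  obtain ⟨m, hm⟩ := exists_nat_decomp hβHc
  have hex : ∃ β' : IrrCharacter Hh, m β' ≠ 0 ∧ classInner (β' : Hh → ℂ) Θ ≠ 0 := by
    by_contra hcon
    push Not at hcon
    rw [hm, classInner_sum_left] at hinner
    have h0 : ∑ β' : IrrCharacter Hh, classInner ((m β' : ℂ) • (β' : Hh → ℂ)) Θ = 0 := by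
      apply Finset.sum_eq_zero
      intro β' _
      rw [classInner_smul_left]
      by_cases h0 : m β' = 0
      · simp [h0]
      · rw [hcon β' h0, mul_zero]
    rw [h0] at hinner
    exact zero_ne_one hinner
  obtain ⟨β', hmβ', hβ'Θ⟩ := hex
  have hβ'ne : classInner βH (β' : Hh → ℂ) ≠ 0 := by
    rw [hm, classInner_nat_decomp (fun γ => (m γ : ℂ)) β']
    exact_mod_cast hmβ'
  -- the copy of `C`
  set Ñ := (extIncl C ρ).range with hÑdef
  haveI : Fintype Ñ := Fintype.ofFinite _
  have hÑH : Ñ ≤ Hh := by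
    rintro _ ⟨c, rfl⟩
    show π (extIncl C ρ c) ∈ H
    exact hCH c.2
  have hβ'inv : ∀ (x : Hh) (n : Ñ), (β' : Hh → ℂ) (x * ⟨(n : (extGroup C ρ)), hÑH n.2⟩) = (β' : Hh → ℂ) x := by
    intro x n
    apply constituent_mul_eq hβHc β'.2 hβ'ne
    obtain ⟨c, hc⟩ := n.2
    show β ((n : (extGroup C ρ))) = β ((1 : Hh) : (extGroup C ρ))
    rw [← hc, Subgroup.coe_one, hβdef]
    simp only [Representation.character, hker c, map_one]
  have hτirr := extRep_range_irreducible C ρ
  have hτHc : IsCharacter Hh τH := isCharacter_restrict Hh ⟨d, extRep C ρ, rfl⟩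
  have hirr2 : IsIrrCharacter Hh ((β' : Hh → ℂ) * τH) := by
    apply isIrrCharacter_of_classInner_self_eq_one
      (isCharacter_mul (IsIrrCharacter.isCharacter β'.2) hτHc)
    rw [classInner_mul_tau Ñ Hh hÑH (extRep C ρ) hτirr _ _ hβ'inv hβ'inv,
      irr_orthonormal β'.2 β'.2, if_pos rfl]
  have heq : (β' : Hh → ℂ) * τH = ϑh := by
    apply eq_of_classInner_ne_zero hirr2 hϑhirr
    rw [classInner_mul_left_conj]
    exact hβ'Θ
  -- degrees
  obtain ⟨b, σ', hσ', hβ'σ⟩ := β'.2
  have hβ'1 : (β' : Hh → ℂ) 1 = (b : ℂ) := by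
    rw [← hβ'σ, Representation.char_one, Module.finrank_fin_fun]
  have hϑ1 : ϑ 1 = (b : ℂ) * (d : ℂ) := by
    have h1 := congrFun heq 1
    simp only [Pi.mul_apply, hϑh, hτH, map_one, Subgroup.coe_one] at h1
    rw [hβ'1, hτdef, Representation.char_one, Module.finrank_fin_fun] at h1
    exact h1.symm
  have hχ1' : χ 1 = (H.index : ℂ) * ϑ 1 := by rw [← hind]; exact indFun_one H ϑ
  have hk : k = H.index * b := by
    have h1 : (n : ℂ) = (H.index : ℂ) * ((b : ℂ) * (d : ℂ)) := by rw [← hχ1, hχ1', hϑ1]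
    have h2 : n = H.index * (b * d) := by exact_mod_cast h1
    have hd0 : 0 < d := by omega
    apply Nat.eq_of_mul_eq_mul_right hd0
    rw [hkd, h2]; ring
  have hidx : Hh.index = H.index := Subgroup.index_comap_of_surjective H hπ
  have hindβ' : indFun Hh (β' : Hh → ℂ) = β := by
    apply eq_of_constituent_of_degree_le (isCharacter_indFun Hh (IsIrrCharacter.isCharacter β'.2))
      hβirr ?_ (H.index * b) k ?_ hβ1 (le_of_eq hk.symm)
    · rw [frobenius_reciprocity Hh _ hβcf, classInner_conj_symm]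
      intro h0
      apply hβ'ne
      have := congrArg (starRingEnd ℂ) h0
      simpa using this
    · rw [indFun_one, hidx, hβ'1]
      push_cast; ring
  exact hprim Hh hHhtop (β' : Hh → ℂ) (IsIrrCharacter.isCharacter β'.2) hindβ'

end CaseA

end Cfsg.Agent.H3Berger
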