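import Mathlib
import Cfsg.Agent.Lib.Helper9.PrimitiveSolvable
import Cfsg.Agent.Lib.Helper2.Nilpotent

set_option autoImplicit false
set_option linter.unusedSectionVars false

/-!
# Group theory around a core-free maximal subgroup and chief factors

Used for Isaacs 11.32 (S0890).
-/

namespace Cfsg.Agent.Helper3

open Subgroup

section GT

variable {G : Type*} [Group G]

/-- a subgroup normalised by `K` and by `H` with `K ⊔ H = ⊤` is normal -/
theorem qp_normal_of_sup (K H R : Subgroup G) (hsup : K ⊔ H = ⊤)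
    (hK : ∀ k ∈ K, ∀ r ∈ R, k * r * k⁻¹ ∈ R) (hH : ∀ h ∈ H, ∀ r ∈ R, h * r * h⁻¹ ∈ R) :
    R.Normal := by
  have key : ∀ (X : Subgroup G), (∀ k ∈ X, ∀ r ∈ R, k * r * k⁻¹ ∈ R) →
      X ≤ Subgroup.normalizer (R : Set G) := by
    intro X hX k hk
    rw [Subgroup.mem_normalizer_iff]
    intro r
    constructor
    · exact hX k hk r
    · intro h
      have := hX k⁻¹ (X.inv_mem hk) _ h
      simpa [mul_assoc] using this
  have h3 : Subgroup.normalizer (R : Set G) = ⊤ :=
    top_unique (hsup ▸ sup_le (key K hK) (key H hH))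
  exact Subgroup.normalizer_eq_top_iff.mp h3

/-- for a maximal subgroup `H` and a normal `K ≰ H` abelian over the core of `H`:
`K H = G` and `K ∩ H` is the core -/
theorem qp_inf_eq_core (H K : Subgroup G) [hK : K.Normal] (hKH : ¬ K ≤ H) (hmax : IsCoatom H)
    (hab : ⁅K, K⁆ ≤ H.normalCore) (hCK : H.normalCore ≤ K) :
    K ⊔ H = ⊤ ∧ K ⊓ H = H.normalCore := by
  have hsup : K ⊔ H = ⊤ := by
    apply hmax.2
    refine lt_of_le_of_ne le_sup_right ?_
    intro h
    apply hKH
    rw [h]
    exact le_sup_left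
  refine ⟨hsup, le_antisymm ?_ (le_inf hCK (Subgroup.normalCore_le H))⟩
  have : (K ⊓ H).Normal := by
    apply qp_normal_of_sup K H (K ⊓ H) hsup
    · intro k hk r hr
      refine ⟨K.mul_mem (K.mul_mem hk hr.1) (K.inv_mem hk), ?_⟩
      have h1 : k * r * k⁻¹ * r⁻¹ ∈ H :=
        Subgroup.normalCore_le H (hab (Subgroup.commutator_mem_commutator hk hr.1))
      have h2 : k * r * k⁻¹ = (k * r * k⁻¹ * r⁻¹) * r := by group
      rw [h2]
      exact H.mul_mem h1 hr.2
    · intro h hh r hr
      exact ⟨hK.conj_mem r hr.1 h, H.mul_mem (H.mul_mem hh hr.2) (H.inv_mem hh)⟩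
  exact Subgroup.normal_le_normalCore.mpr inf_le_right

/-- an abelian chief factor of a finite group with solvable quotient has prime power order -/
theorem qp_chief_relIndex [Finite G] (A B : Subgroup G) [hA : A.Normal] [hB : B.Normal]
    (hAB : A < B) (hsolv : Group.IsSolvable (G ⧸ A))
    (hchief : ∀ M : Subgroup G, M.Normal → A ≤ M → M ≤ B → M = A ∨ M = B) :
    ∃ p d : ℕ, p.Prime ∧ 0 < d ∧ A.relIndex B = p ^ d := by
  have := hsolv
  set π : G →* G ⧸ A := QuotientGroup.mk' A with hπ
  have hsurj : Function.Surjective π := QuotientGroup.mk'_surjective A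
  have hker : π.ker = A := QuotientGroup.ker_mk' A
  have hBn : (B.map π).Normal := Subgroup.Normal.map hB π hsurj
  have hne : B.map π ≠ ⊥ := by
    intro h
    rw [Subgroup.map_eq_bot_iff, hker] at h
    exact absurd (le_antisymm h hAB.le) hAB.ne'
  have hmin : ∀ M : Subgroup (G ⧸ A), M.Normal → M ≤ B.map π → M = ⊥ ∨ M = B.map π := by
    intro M hM hMB
    have h1 : (M.comap π).Normal := Subgroup.Normal.comap hM π
    have h2 : A ≤ M.comap π := (le_of_eq hker.symm).trans (Subgroup.ker_le_comap π M)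
    have h3 : M.comap π ≤ B := by
      have := Subgroup.comap_mono (f := π) hMB
      rw [Subgroup.comap_map_eq, hker, sup_eq_left.mpr hAB.le] at this
      exact this
    rcases hchief _ h1 h2 h3 with h | h
    · left
      rw [← Subgroup.map_comap_eq_self_of_surjective hsurj M, h, Subgroup.map_eq_bot_iff, hker]
    · right
      rw [← Subgroup.map_comap_eq_self_of_surjective hsurj M, h]
  obtain ⟨p, d, hp, hd, hcard⟩ := Helper9.minNormal_card (B.map π) hne hmin
  refine ⟨p, d, hp, hd, ?_⟩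
  have h := Subgroup.relIndex_ker π (K := B)
  rw [hker] at h
  rw [h, hcard]

/-- if `N / C` is a `p`-group and `K / C` is a chief factor of `G` below `N`, then `K / C` is
central in `N / C` -/
theorem qp_comm_mem_of_pgroup [Finite G] (C K N : Subgroup G) [hC : C.Normal] [hK : K.Normal]
    [hN : N.Normal] (hCK : C < K) (hKN : K ≤ N) (p : ℕ) [hp : Fact p.Prime] (e : ℕ)
    (hcard : C.relIndex N = p ^ e)
    (hchief : ∀ M : Subgroup G, M.Normal → C ≤ M → M ≤ K → M = C ∨ M = K) :
    ∀ k ∈ K, ∀ n ∈ N, k * n * k⁻¹ * n⁻¹ ∈ C := by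
  set π : G →* G ⧸ C := QuotientGroup.mk' C with hπ
  have hsurj : Function.Surjective π := QuotientGroup.mk'_surjective C
  have hker : π.ker = C := QuotientGroup.ker_mk' C
  have hNn : (N.map π).Normal := Subgroup.Normal.map hN π hsurj
  have hKn : (K.map π).Normal := Subgroup.Normal.map hK π hsurj
  have hcardN : Nat.card (N.map π) = p ^ e := by
    have h := Subgroup.relIndex_ker π (K := N)
    rw [hker] at h
    rw [← h, hcard]
  have hpN : IsPGroup p (N.map π) := IsPGroup.of_card hcardN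
  have : Group.IsNilpotent (N.map π) := hpN.isNilpotent
  have : ((K.map π).subgroupOf (N.map π)).Normal := hKn.subgroupOf _
  have hKbar : K.map π ≤ N.map π := Subgroup.map_mono hKN
  have hne : (K.map π).subgroupOf (N.map π) ≠ ⊥ := by
    intro h
    rw [Subgroup.subgroupOf_eq_bot, disjoint_iff, inf_eq_left.mpr hKbar,
      Subgroup.map_eq_bot_iff, hker] at h
    exact absurd (le_antisymm h hCK.le) hCK.ne'
  have hz := Helper2.normal_inf_center_ne_bot ((K.map π).subgroupOf (N.map π)) hne
  obtain ⟨⟨z, hz1⟩, hz2'⟩ := (Subgroup.ne_bot_iff_exists_ne_one).mp hz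
  have hz2 : z ≠ 1 := by
    intro h
    apply hz2'
    apply Subtype.ext
    exact h
  -- the normal subgroup of elements of `K` central modulo `C` in `N`
  let Z₁ : Subgroup G := K ⊓ (Subgroup.centralizer ((N.map π : Subgroup (G ⧸ C)) : Set (G ⧸ C))).comap π
  have hZ₁n : Z₁.Normal := by
    have : (Subgroup.centralizer ((N.map π : Subgroup (G ⧸ C)) : Set (G ⧸ C))).Normal :=
      Subgroup.normal_centralizer
    have : ((Subgroup.centralizer ((N.map π : Subgroup (G ⧸ C)) : Set (G ⧸ C))).comap π).Normal :=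
      Subgroup.Normal.comap inferInstance π
    exact Subgroup.normal_inf_normal _ _
  have hCZ : C ≤ Z₁ := by
    intro c hc
    refine ⟨hCK.le hc, ?_⟩
    show π c ∈ Subgroup.centralizer ((N.map π : Subgroup (G ⧸ C)) : Set (G ⧸ C))
    have : π c = 1 := by
      rw [← MonoidHom.mem_ker, hker]; exact hc
    rw [this]
    exact Subgroup.one_mem _
  have hZK : Z₁ ≤ K := inf_le_left
  have hZne : Z₁ ≠ C := by
    have hzK : (z : G ⧸ C) ∈ K.map π := Subgroup.mem_subgroupOf.mp hz1.1
    have hzc : z ∈ Subgroup.center (N.map π) := hz1.2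
    obtain ⟨k₀, hk₀K, hk₀⟩ := Subgroup.mem_map.mp hzK
    have hk₀Z : k₀ ∈ Z₁ := by
      refine ⟨hk₀K, ?_⟩
      show π k₀ ∈ Subgroup.centralizer ((N.map π : Subgroup (G ⧸ C)) : Set (G ⧸ C))
      rw [hk₀, Subgroup.mem_centralizer_iff]
      intro y hy
      have := (Subgroup.mem_center_iff.mp hzc) ⟨y, hy⟩
      have h2 := congrArg (Subtype.val) this
      simpa using h2
    have hk₀C : k₀ ∉ C := by
      intro hc
      apply hz2
      apply Subtype.ext
      show (z : G ⧸ C) = 1
      rw [← hk₀, ← MonoidHom.mem_ker, hker]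
      exact hc
    intro h
    exact hk₀C (h ▸ hk₀Z)
  have hZeq : Z₁ = K := by
    rcases hchief Z₁ hZ₁n hCZ hZK with h | h
    · exact absurd h hZne
    · exact h
  intro k hk n hn
  have hkZ : k ∈ Z₁ := hZeq ▸ hk
  have h1 : π k ∈ Subgroup.centralizer ((N.map π : Subgroup (G ⧸ C)) : Set (G ⧸ C)) := hkZ.2
  rw [Subgroup.mem_centralizer_iff] at h1
  have h2 := h1 (π n) (Subgroup.mem_map_of_mem π hn)
  rw [← hker, MonoidHom.mem_ker]
  simp only [map_mul, map_inv]
  rw [← h2]
  group

/-- the final group-theoretic contradiction: with `C` the core of the maximal subgroup `H`,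
`K / C` abelian normal, `K < N` normal: `K` cannot centralise `N ∩ H` modulo `C`. -/
theorem qp_not_comm (H K N : Subgroup G) [hK : K.Normal] [hN : N.Normal]
    (hsup : K ⊔ H = ⊤) (hCK : H.normalCore ≤ K) (hKN : K < N)
    (hcomm : ∀ k ∈ K, ∀ r ∈ N ⊓ H, k * r * k⁻¹ * r⁻¹ ∈ H.normalCore) : False := by
  have hCR : H.normalCore ≤ N ⊓ H := le_inf (hCK.trans hKN.le) (Subgroup.normalCore_le H)
  have : (N ⊓ H).Normal := by
    apply qp_normal_of_sup K H (N ⊓ H) hsup
    · intro k hk r hr
      have h2 : k * r * k⁻¹ = (k * r * k⁻¹ * r⁻¹) * r := by group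
      rw [h2]
      exact (N ⊓ H).mul_mem (hCR (hcomm k hk r hr)) hr
    · intro h hh r hr
      exact ⟨hN.conj_mem r hr.1 h, H.mul_mem (H.mul_mem hh hr.2) (H.inv_mem hh)⟩
  have hRC : N ⊓ H ≤ H.normalCore := Subgroup.normal_le_normalCore.mpr inf_le_right
  apply hKN.not_ge
  intro n hn
  have hn' : n ∈ K ⊔ H := by rw [hsup]; exact Subgroup.mem_top n
  rw [Subgroup.mem_sup_of_normal_left] at hn'
  obtain ⟨k, hk, h, hh, rfl⟩ := hn'
  have hhN : h ∈ N := by
    have : h = k⁻¹ * (k * h) := by group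
    rw [this]
    exact N.mul_mem (N.inv_mem (hKN.le hk)) hn
  exact K.mul_mem hk (hCK (hRC ⟨hhN, hh⟩))

theorem qp_isSolvable_quotient_of_le (N M : Subgroup G) [hN : N.Normal]
    [hM : M.Normal] (hNM : N ≤ M) (hsolv : Group.IsSolvable (G ⧸ N)) :
    Group.IsSolvable (G ⧸ M) := by
  have := hsolv
  let f : G ⧸ N →* G ⧸ M := QuotientGroup.map N M (MonoidHom.id G) hNM
  have hf : Function.Surjective f := by
    intro x
    induction x using QuotientGroup.induction_on with | _ g => ?_
    exact ⟨(g : G ⧸ N), rfl⟩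
  exact Group.isSolvable_of_surjective hf

end GT

end Cfsg.Agent.Helper3
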