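import Mathlib
import Cfsg.Prelude.Def_Characters
import Cfsg.Agent.Lib.Helper3.BergerD
import Cfsg.Agent.Lib.Helper3.CharDecomp
import Cfsg.Agent.Lib.Helper3.ChiefGT
import Cfsg.Agent.Lib.Helper79.Restrict
import Cfsg.Agent.Lib.Helper78.CharLinear
import Cfsg.Agent.Lib.Helper80.ConjIrr

set_option autoImplicit false
set_option linter.unusedSectionVars false
set_option linter.style.haveILetI false

/-!
# Tools for Berger's theorem (S0889), part E : general lemmas for case B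
-/

namespace Cfsg.Agent.H3Berger

open Cfsg Cfsg.Agent.Helper81 Cfsg.Agent.Helper79
open Module
open scoped ComplexConjugate

universe u

section SupKer

variable {Γ : Type u} [Group Γ] [Finite Γ]

/-- If `β` restricted to `A ⊔ B` is homogeneous, `B` is normal and acts trivially, then `β`
restricted to `A` is homogeneous. -/
theorem restrict_homogeneous_of_sup_ker (A B : Subgroup Γ) [hB : B.Normal] {k : ℕ}
    (ρβ : Representation ℂ Γ (Fin k → ℂ)) (hk0 : 0 < k) (hker : ∀ n ∈ B, ρβ n = 1)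
    (ψ' : (A ⊔ B : Subgroup Γ) → ℂ) (e : ℕ) (hψ' : IsIrrCharacter (A ⊔ B : Subgroup Γ) ψ')
    (hres' : (fun m : (A ⊔ B : Subgroup Γ) => ρβ.character m) = (e : ℂ) • ψ') :
    ∃ (ψ : A → ℂ), IsIrrCharacter A ψ ∧ (fun m : A => ρβ.character m) = (e : ℂ) • ψ := by
  classical
  have hkC : (k : ℂ) ≠ 0 := by exact_mod_cast hk0.ne'
  obtain ⟨a, ρψ, hρψ, rfl⟩ := hψ'
  haveI := hρψ
  have h1 := congrFun hres' 1
  simp only [Subgroup.coe_one, Representation.char_one, Pi.smul_apply, smul_eq_mul,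
    Module.finrank_fin_fun] at h1
  have heC : (e : ℂ) ≠ 0 := by
    intro h0
    rw [h0, zero_mul] at h1
    exact hkC h1
  let ι : A →* (A ⊔ B : Subgroup Γ) := Subgroup.inclusion le_sup_left
  have hone : ∀ (n : Γ) (hn : n ∈ B), ρψ ⟨n, (le_sup_right : B ≤ A ⊔ B) hn⟩ = 1 := by
    intro n hn
    have h2 := congrFun hres' ⟨n, (le_sup_right : B ≤ A ⊔ B) hn⟩
    simp only [Pi.smul_apply, smul_eq_mul] at h2
    have h3 : ρβ.character n = (k : ℂ) := by
      simp only [Representation.character, hker n hn]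
      simp
    rw [h3, h1] at h2
    have h4 := mul_left_cancel₀ heC h2
    apply (Cfsg.Agent.Helper79.char_eq_finrank_iff ρψ _).mp
    rw [Module.finrank_fin_fun, ← h4]
  refine ⟨fun m => ρψ.character (ι m), ?_, ?_⟩
  · refine ⟨a, ρψ.comp ι, isIrreducible_comp_of_surj_mod ρψ ι ?_, rfl⟩
    rintro ⟨g, hg⟩
    obtain ⟨m, hm, n, hn, rfl⟩ := Subgroup.mem_sup_of_normal_right.mp hg
    refine ⟨⟨m, hm⟩, ?_⟩
    have : (⟨m * n, hg⟩ : (A ⊔ B : Subgroup Γ)) =
        ι ⟨m, hm⟩ * ⟨n, (le_sup_right : B ≤ A ⊔ B) hn⟩ := rfl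
    rw [this, map_mul, hone n hn, mul_one]
  · funext m
    have := congrFun hres' (ι m)
    simp only [Pi.smul_apply, smul_eq_mul] at this ⊢
    rw [← this]
    rfl

/-- quasi-primitivity passes to a supplement of a normal subgroup in the kernel -/
theorem qp_restrict_of_sup (Hh K₀ : Subgroup Γ) [hK₀ : K₀.Normal] (hsup : K₀ ⊔ Hh = ⊤) {k : ℕ}
    (ρβ : Representation ℂ Γ (Fin k → ℂ)) (hk0 : 0 < k) (hker : ∀ n ∈ K₀, ρβ n = 1)
    (hqp : QP Γ ρβ.character) : QP Hh (fun h : Hh => ρβ.character h) := by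
  classical
  intro M' hM'
  set M₁ : Subgroup Γ := M'.map Hh.subtype with hM₁
  have hM₁H : M₁ ≤ Hh := by
    rintro _ ⟨x, -, rfl⟩
    exact x.2
  have hMn : (M₁ ⊔ K₀).Normal := by
    apply Cfsg.Agent.Helper3.qp_normal_of_sup K₀ Hh (M₁ ⊔ K₀) hsup
    · intro k hk r hr
      have hk' : k ∈ M₁ ⊔ K₀ := (le_sup_right : K₀ ≤ M₁ ⊔ K₀) hk
      exact (M₁ ⊔ K₀).mul_mem ((M₁ ⊔ K₀).mul_mem hk' hr) ((M₁ ⊔ K₀).inv_mem hk')
    · intro h hh r hr
      obtain ⟨m, hm, n, hn, rfl⟩ := Subgroup.mem_sup_of_normal_right.mp hr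
      have e1 : h * (m * n) * h⁻¹ = (h * m * h⁻¹) * (h * n * h⁻¹) := by group
      rw [e1]
      apply (M₁ ⊔ K₀).mul_mem
      · apply (le_sup_left : M₁ ≤ M₁ ⊔ K₀)
        obtain ⟨x, hx, rfl⟩ := hm
        refine ⟨⟨h, hh⟩ * x * ⟨h, hh⟩⁻¹, hM'.conj_mem x hx ⟨h, hh⟩, ?_⟩
        simp
      · exact (le_sup_right : K₀ ≤ M₁ ⊔ K₀) (hK₀.conj_mem n hn h)
  obtain ⟨ψ', e, hψ', hres'⟩ := hqp (M₁ ⊔ K₀) hMn
  obtain ⟨ψ, hψ, hres⟩ := restrict_homogeneous_of_sup_ker M₁ K₀ ρβ hk0 hker ψ' e hψ' hres'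
  -- transport from `M₁` to `M'`
  let j : M' ≃* M₁ := (Subgroup.equivMapOfInjective M' Hh.subtype Hh.subtype_injective)
  refine ⟨fun m => ψ (j m), e, isIrrCharacter_comp_equiv j hψ, ?_⟩
  funext m
  have := congrFun hres (j m)
  simp only [Pi.smul_apply, smul_eq_mul] at this ⊢
  rw [← this]
  rfl

end SupKer

section MulIrr

variable {G : Type u} [Group G] [Fintype G]

theorem isCharacter_one_ne_zero {α : G → ℂ} (hα : IsCharacter G α) (h0 : α ≠ 0) : α 1 ≠ 0 :=
  fun h => h0 (isCharacter_eq_zero_of_one_eq_zero hα h)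

/-- if a product of two characters is irreducible then so is the first factor -/
theorem irr_of_mul_irr {α γ : G → ℂ} (hα : IsCharacter G α) (hγ : IsCharacter G γ)
    (h : IsIrrCharacter G (α * γ)) : IsIrrCharacter G α := by
  have hprod1 : (α * γ) 1 ≠ 0 := by
    obtain ⟨n, ρ, hρ, hρ0⟩ := h
    haveI := hρ
    rw [← hρ0, Representation.char_one, Module.finrank_fin_fun]
    have : 0 < n := degree_pos_of_irreducible' ρ
    exact_mod_cast this.ne'
  have hα1 : α 1 ≠ 0 := fun h0 => hprod1 (by simp [h0])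
  have hγ1 : γ 1 ≠ 0 := fun h0 => hprod1 (by simp [h0])
  have hα0 : α ≠ 0 := fun h0 => hα1 (by rw [h0]; rfl)
  obtain ⟨ξ, hξ, hne⟩ := exists_irr_constituent hα hα0
  obtain ⟨α', hα', hsplit⟩ := exists_add_of_classInner_ne_zero hα hξ hne
  have hξ1 : ξ 1 ≠ 0 := by
    obtain ⟨n, ρ, hρ, rfl⟩ := hξ
    haveI := hρ
    rw [Representation.char_one, Module.finrank_fin_fun]
    have : 0 < n := degree_pos_of_irreducible' ρ
    exact_mod_cast this.ne'
  have h2 : α * γ = ξ * γ + α' * γ := by rw [hsplit, add_mul]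
  rw [h2] at h
  have hA : IsCharacter G (ξ * γ) := isCharacter_mul (IsIrrCharacter.isCharacter hξ) hγ
  have hB : IsCharacter G (α' * γ) := isCharacter_mul hα' hγ
  have hA0 : ξ * γ ≠ 0 := by
    intro h0
    have := congrFun h0 1
    simp only [Pi.mul_apply, Pi.zero_apply, mul_eq_zero] at this
    rcases this with h3 | h3
    · exact hξ1 h3
    · exact hγ1 h3
  have hB0 := eq_zero_of_irr_add hA hB h hA0
  have hα'0 : α' = 0 := by
    apply isCharacter_eq_zero_of_one_eq_zero hα'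
    have := congrFun hB0 1
    simp only [Pi.mul_apply, Pi.zero_apply, mul_eq_zero] at this
    rcases this with h3 | h3
    · exact h3
    · exact absurd h3 hγ1
  rw [hsplit, hα'0, add_zero]
  exact hξ

/-- induction commutes with complex conjugation -/
theorem indFun_conj (T : Subgroup G) (ζ : T → ℂ) :
    indFun T (fun t => conj (ζ t)) = fun g => conj (indFun T ζ g) := by
  classical
  funext g
  rw [indFun_apply, indFun_apply, map_mul, map_inv₀, Complex.conj_natCast, map_sum]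
  congr 1
  apply Finset.sum_congr rfl
  intro x _
  by_cases hx : x⁻¹ * g * x ∈ T
  · rw [extendByZero_apply_mem _ _ hx, extendByZero_apply_mem _ _ hx]
  · rw [extendByZero_apply_not_mem _ _ hx, extendByZero_apply_not_mem _ _ hx, map_zero]

/-- the norm-square sum of an irreducible character over a subgroup -/
theorem card_mul_sq_le_of_normSq {η : G → ℂ} (hη : IsIrrCharacter G η) (S : Subgroup G) (b : ℕ)
    (hS : ∀ s ∈ S, Complex.normSq (η s) = (b : ℝ) ^ 2) :
    Nat.card S * b ^ 2 ≤ Nat.card G ∧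
      (Nat.card S * b ^ 2 = Nat.card G → ∀ y, y ∉ S → η y = 0) := by
  classical
  have hsum := Cfsg.Agent.Helper79.irr_sum_normSq (⟨η, hη⟩ : IrrCharacter G)
  simp only at hsum
  have hsplit : ∑ g : G, Complex.normSq (η g) =
      ∑ g ∈ Finset.univ.filter (· ∈ S), Complex.normSq (η g) +
      ∑ g ∈ Finset.univ.filter (fun g => ¬ g ∈ S), Complex.normSq (η g) :=
    (Finset.sum_filter_add_sum_filter_not Finset.univ (· ∈ S) _).symm
  have h1 : ∑ g ∈ Finset.univ.filter (· ∈ S), Complex.normSq (η g) =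
      (Nat.card S : ℝ) * (b : ℝ) ^ 2 := by
    rw [Finset.sum_congr rfl (fun g hg => hS g (Finset.mem_filter.mp hg).2), Finset.sum_const,
      nsmul_eq_mul]
    congr 2
    rw [Nat.card_eq_fintype_card, Fintype.card_subtype]
  have h2 : 0 ≤ ∑ g ∈ Finset.univ.filter (fun g => ¬ g ∈ S), Complex.normSq (η g) :=
    Finset.sum_nonneg (fun g _ => Complex.normSq_nonneg _)
  rw [hsplit, h1] at hsum
  constructor
  · have : (Nat.card S : ℝ) * (b : ℝ) ^ 2 ≤ (Nat.card G : ℝ) := by linarith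
    exact_mod_cast this
  · intro heq y hy
    have heq' : (Nat.card S : ℝ) * (b : ℝ) ^ 2 = (Nat.card G : ℝ) := by exact_mod_cast heq
    have h3 : ∑ g ∈ Finset.univ.filter (fun g => ¬ g ∈ S), Complex.normSq (η g) = 0 := by
      linarith
    have h4 := (Finset.sum_eq_zero_iff_of_nonneg (fun g _ => Complex.normSq_nonneg _)).mp h3 y
      (Finset.mem_filter.mpr ⟨Finset.mem_univ _, hy⟩)
    exact Complex.normSq_eq_zero.mp h4

end MulIrr

end Cfsg.Agent.H3Berger
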