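import Mathlib
import Cfsg.Prelude.Def_Characters
import Cfsg.Agent.Lib.Helper3.CharInd
import Cfsg.Agent.Lib.Helper3.ChiefGT
import Cfsg.Agent.Lib.Helper3.CharExceptional

set_option autoImplicit false
set_option linter.unusedSectionVars false

/-!
# Commutants of restrictions of a representation, and restriction of induced characters

Tools for Isaacs 11.32 (S0890).
-/

namespace Cfsg.Agent.Helper3

open Module Representation

open scoped ComplexConjugate

section Comm

universe u
variable {G : Type u} [Group G] {V : Type*} [AddCommGroup V] [Module ℂ V]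

/-- the commutant of `ρ (f X)` in `End V` -/
def commSub (ρ : Representation ℂ G V) {X : Type*} [Group X] (f : X →* G) :
    Submodule ℂ (V →ₗ[ℂ] V) where
  carrier := {T | ∀ x : X, ρ (f x) * T = T * ρ (f x)}
  zero_mem' := by intro x; simp
  add_mem' := by
    intro a b ha hb x
    rw [mul_add, add_mul, ha x, hb x]
  smul_mem' := by
    intro c a ha x
    rw [mul_smul_comm, smul_mul_assoc, ha x]

theorem mem_commSub (ρ : Representation ℂ G V) {X : Type*} [Group X] (f : X →* G)
    (T : V →ₗ[ℂ] V) : T ∈ commSub ρ f ↔ ∀ x : X, ρ (f x) * T = T * ρ (f x) := Iff.rfl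

theorem rho_inv_mul (ρ : Representation ℂ G V) (g : G) : ρ g⁻¹ * ρ g = 1 := by
  rw [← map_mul, inv_mul_cancel, map_one]

theorem rho_mul_inv (ρ : Representation ℂ G V) (g : G) : ρ g * ρ g⁻¹ = 1 := by
  rw [← map_mul, mul_inv_cancel, map_one]

theorem commSub_eq_invariants (ρ : Representation ℂ G V) {X : Type*} [Group X] (f : X →* G) :
    commSub ρ f = (Representation.linHom (ρ.comp f) (ρ.comp f)).invariants := by
  ext T
  rw [mem_commSub, Representation.mem_invariants]
  constructor
  · intro h x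
    rw [Representation.linHom_apply]
    show ρ (f x) * (T * ρ (f x⁻¹)) = T
    rw [← mul_assoc, h x, mul_assoc, map_inv f x, rho_mul_inv, mul_one]
  · intro h x
    have h1 := h x
    rw [Representation.linHom_apply] at h1
    have h2 : ρ (f x) * (T * ρ (f x⁻¹)) = T := h1
    calc ρ (f x) * T = ρ (f x) * (T * (ρ ((f x)⁻¹) * ρ (f x))) := by
          rw [rho_inv_mul, mul_one]
      _ = (ρ (f x) * (T * ρ (f x⁻¹))) * ρ (f x) := by
          rw [map_inv f x]; simp only [mul_assoc]
      _ = T * ρ (f x) := by rw [h2]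

theorem commSub_mono_comp (ρ : Representation ℂ G V) {X Y : Type*} [Group X] [Group Y]
    (f : X →* G) (j : Y →* X) : commSub ρ f ≤ commSub ρ (f.comp j) := by
  intro T hT y
  exact hT (j y)

theorem commSub_subtype_anti (ρ : Representation ℂ G V) {M M' : Subgroup G} (h : M ≤ M') :
    commSub ρ M'.subtype ≤ commSub ρ M.subtype := by
  intro T hT x
  exact hT ⟨x, h x.2⟩

theorem finrank_commSub [FiniteDimensional ℂ V] (ρ : Representation ℂ G V) {X : Type u}
    [Group X] [Fintype X] (f : X →* G) :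
    (finrank ℂ (commSub ρ f) : ℂ) =
      Cfsg.classInner (fun x : X => ρ.character (f x)) (fun x : X => ρ.character (f x)) := by
  have hinv : Invertible (Nat.card X : ℂ) := invertibleOfNonzero card_ne_zero_complex
  rw [commSub_eq_invariants]
  rw [← Representation.card_inv_mul_sum_char_eq_finrank]
  unfold Cfsg.classInner
  congr 1
  apply Finset.sum_congr rfl
  intro x _
  rw [Representation.char_linHom, char_inv (ρ.comp f) x, mul_comm]
  rfl

/-- the elements of `G` commuting with the whole commutant of `ρ C` -/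
def commStab (ρ : Representation ℂ G V) (C : Subgroup G) : Subgroup G where
  carrier := {g | ∀ T ∈ commSub ρ C.subtype, ρ g * T = T * ρ g}
  one_mem' := by intro T _; simp
  mul_mem' := by
    intro a b ha hb T hT
    rw [map_mul, mul_assoc, hb T hT, ← mul_assoc, ha T hT, mul_assoc]
  inv_mem' := by
    intro a ha T hT
    have h := ha T hT
    calc ρ a⁻¹ * T = ρ a⁻¹ * (T * ρ a) * ρ a⁻¹ := by
          rw [mul_assoc, mul_assoc, rho_mul_inv, mul_one]
      _ = ρ a⁻¹ * (ρ a * T) * ρ a⁻¹ := by rw [h]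
      _ = T * ρ a⁻¹ := by rw [← mul_assoc, rho_inv_mul, one_mul]

theorem mem_commStab (ρ : Representation ℂ G V) (C : Subgroup G) (g : G) :
    g ∈ commStab ρ C ↔ ∀ T ∈ commSub ρ C.subtype, ρ g * T = T * ρ g := Iff.rfl

theorem commStab_normal (ρ : Representation ℂ G V) (C : Subgroup G) [hC : C.Normal] :
    (commStab ρ C).Normal := by
  constructor
  intro g hg x T hT
  -- T' = ρ x⁻¹ T ρ x commutes with ρ C
  have hT' : ρ x⁻¹ * T * ρ x ∈ commSub ρ C.subtype := by
    intro c
    have hc : x * (c : G) * x⁻¹ ∈ C := hC.conj_mem c c.2 x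
    have h1 := hT ⟨x * (c : G) * x⁻¹, hc⟩
    simp only [Subgroup.coe_subtype] at h1 ⊢
    have h2 : ρ (c : G) * ρ x⁻¹ = ρ x⁻¹ * ρ (x * (c : G) * x⁻¹) := by
      rw [← map_mul, ← map_mul]; congr 1; group
    have h3 : ρ (x * (c : G) * x⁻¹) * ρ x = ρ x * ρ (c : G) := by
      rw [← map_mul, ← map_mul]; congr 1; group
    calc ρ (c : G) * (ρ x⁻¹ * T * ρ x) = (ρ (c : G) * ρ x⁻¹) * T * ρ x := by
          simp only [mul_assoc]
      _ = ρ x⁻¹ * (ρ (x * (c : G) * x⁻¹) * T) * ρ x := by rw [h2]; simp only [mul_assoc]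
      _ = ρ x⁻¹ * (T * ρ (x * (c : G) * x⁻¹)) * ρ x := by rw [h1]
      _ = ρ x⁻¹ * T * (ρ (x * (c : G) * x⁻¹) * ρ x) := by simp only [mul_assoc]
      _ = ρ x⁻¹ * T * ρ x * ρ (c : G) := by rw [h3]; simp only [mul_assoc]
  have h4 := hg _ hT'
  have h5 : ρ (x * g * x⁻¹) = ρ x * ρ g * ρ x⁻¹ := by rw [map_mul, map_mul]
  rw [h5]
  calc ρ x * ρ g * ρ x⁻¹ * T = ρ x * ρ g * (ρ x⁻¹ * T * ρ x) * ρ x⁻¹ := by
        simp only [mul_assoc]; rw [rho_mul_inv, mul_one]
    _ = ρ x * (ρ g * (ρ x⁻¹ * T * ρ x)) * ρ x⁻¹ := by simp only [mul_assoc]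
    _ = ρ x * ((ρ x⁻¹ * T * ρ x) * ρ g) * ρ x⁻¹ := by rw [h4]
    _ = (ρ x * ρ x⁻¹) * T * (ρ x * ρ g * ρ x⁻¹) := by simp only [mul_assoc]
    _ = T * (ρ x * ρ g * ρ x⁻¹) := by rw [rho_mul_inv, one_mul]

theorem le_commStab_of_commSub_le (ρ : Representation ℂ G V) (C M : Subgroup G)
    (h : commSub ρ C.subtype ≤ commSub ρ M.subtype) : M ≤ commStab ρ C := by
  intro m hm T hT
  exact h hT ⟨m, hm⟩

theorem commSub_le_of_le_commStab (ρ : Representation ℂ G V) (C M : Subgroup G)
    (h : M ≤ commStab ρ C) : commSub ρ C.subtype ≤ commSub ρ M.subtype := by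
  intro T hT m
  exact h m.2 T hT

end Comm

section Star

universe u
variable {G : Type u} [Group G] [Fintype G]

theorem sum_ite_mem_subgroup (M : Subgroup G) [DecidablePred (· ∈ M)] [Fintype M] (a : G → ℂ) :
    ∑ g : G, (if g ∈ M then a g else 0) = ∑ m : M, a m := by
  rw [← Finset.sum_filter]
  exact Finset.sum_subtype (Finset.univ.filter (· ∈ M)) (by simp) a

theorem card_mul_card_inf_of_sup_eq_top (H M : Subgroup G) [hM : M.Normal] (hsup : M ⊔ H = ⊤) :
    Nat.card G * Nat.card (M ⊓ H : Subgroup G) = Nat.card M * Nat.card H := by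
  have h1 : (M ⊓ H).relIndex H = M.index := by
    rw [Subgroup.inf_relIndex_right, ← Subgroup.relIndex_sup_left, hsup,
      Subgroup.relIndex_top_right]
  have h2 : Nat.card (M ⊓ H : Subgroup G) * (M ⊓ H).relIndex H = Nat.card H := by
    have := Subgroup.relIndex_mul_relIndex (H := (⊥ : Subgroup G)) (K := M ⊓ H) (L := H)
      bot_le inf_le_right
    rwa [Subgroup.relIndex_bot_left, Subgroup.relIndex_bot_left] at this
  have h3 : Nat.card M * M.index = Nat.card G := Subgroup.card_mul_index M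
  rw [← h3, ← h2, h1]
  ring

/-- for `M` normal with `M H = G`: the norm of the restriction of `Ind_H^G ϑ` to `M` is the
inner product of `ϑ` and `Ind_H^G ϑ` on `M ∩ H`. -/
theorem classInner_restrict_indFun_eq (H M D : Subgroup G) [hM : M.Normal] [Fintype H]
    [Fintype M] [Fintype D] (hsup : M ⊔ H = ⊤) (hD : D = M ⊓ H) (hDH : D ≤ H) (ϑ : H → ℂ) :
    Cfsg.classInner (fun m : M => Cfsg.indFun H ϑ m) (fun m : M => Cfsg.indFun H ϑ m) =
      Cfsg.classInner (fun x : D => ϑ ⟨x, hDH x.2⟩) (fun x : D => Cfsg.indFun H ϑ x) := by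
  classical
  subst hD
  set χ := Cfsg.indFun H ϑ with hχdef
  have hχ : Cfsg.IsClassFunction G χ := isClassFunction_indFun H ϑ
  let F : G → ℂ := fun g => if g ∈ M then χ g else 0
  have hF : Cfsg.IsClassFunction G F := by
    intro g h
    show (if h * g * h⁻¹ ∈ M then χ (h * g * h⁻¹) else 0) = if g ∈ M then χ g else 0
    have hiff : h * g * h⁻¹ ∈ M ↔ g ∈ M := by
      constructor
      · intro hm
        have := hM.conj_mem _ hm h⁻¹
        simpa [mul_assoc] using this
      · intro hm; exact hM.conj_mem g hm h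
    rw [hχ g h]
    simp only [hiff]
  have frob := frobenius_reciprocity H ϑ F hF
  have hL : Cfsg.classInner χ F = (Nat.card G : ℂ)⁻¹ * ((Nat.card M : ℂ) *
      Cfsg.classInner (fun m : M => χ m) (fun m : M => χ m)) := by
    unfold Cfsg.classInner
    rw [← mul_assoc (Nat.card M : ℂ), mul_inv_cancel₀ card_ne_zero_complex, one_mul]
    congr 1
    rw [← sum_ite_mem_subgroup M (fun g => χ g * conj (χ g))]
    apply Finset.sum_congr rfl
    intro g _
    show χ g * conj (if g ∈ M then χ g else 0) = _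
    split_ifs <;> simp
  have hR : Cfsg.classInner ϑ (fun h : H => F h) = (Nat.card H : ℂ)⁻¹ *
      ((Nat.card (M ⊓ H : Subgroup G) : ℂ) *
        Cfsg.classInner (fun x : (M ⊓ H : Subgroup G) => ϑ ⟨x, hDH x.2⟩)
          (fun x : (M ⊓ H : Subgroup G) => χ x)) := by
    unfold Cfsg.classInner
    rw [← mul_assoc (Nat.card (M ⊓ H : Subgroup G) : ℂ), mul_inv_cancel₀ card_ne_zero_complex,
      one_mul]
    congr 1
    calc ∑ h : H, ϑ h * conj (F h)
        = ∑ g : G, Cfsg.extendByZero H ϑ g * conj (F g) :=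
          (sum_extendByZero_mul H ϑ (fun g => conj (F g))).symm
      _ = ∑ g : G, (if g ∈ M ⊓ H then Cfsg.extendByZero H ϑ g * conj (χ g) else 0) := by
          apply Finset.sum_congr rfl
          intro g _
          show Cfsg.extendByZero H ϑ g * conj (if g ∈ M then χ g else 0) = _
          by_cases hgM : g ∈ M
          · by_cases hgH : g ∈ H
            · rw [if_pos hgM, if_pos ⟨hgM, hgH⟩]
            · rw [extendByZero_not_mem H ϑ hgH, if_neg (fun h => hgH (Subgroup.mem_inf.mp h).2)]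
              simp
          · rw [if_neg hgM, if_neg (fun h => hgM (Subgroup.mem_inf.mp h).1)]; simp
      _ = ∑ x : (M ⊓ H : Subgroup G), Cfsg.extendByZero H ϑ x * conj (χ x) :=
          sum_ite_mem_subgroup (M ⊓ H) (fun g => Cfsg.extendByZero H ϑ g * conj (χ g))
      _ = _ := by
          apply Finset.sum_congr rfl
          intro x _
          rw [extendByZero_of_mem H ϑ (hDH x.2)]
  rw [hL, hR] at frob
  have hcard := card_mul_card_inf_of_sup_eq_top H M hsup
  have hcardC : (Nat.card G : ℂ) * (Nat.card (M ⊓ H : Subgroup G) : ℂ) =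
      (Nat.card M : ℂ) * (Nat.card H : ℂ) := by exact_mod_cast hcard
  have hG0 : (Nat.card G : ℂ) ≠ 0 := card_ne_zero_complex
  have hH0 : (Nat.card H : ℂ) ≠ 0 := card_ne_zero_complex
  have hM0 : (Nat.card M : ℂ) ≠ 0 := card_ne_zero_complex
  have hD0 : (Nat.card (M ⊓ H : Subgroup G) : ℂ) ≠ 0 := card_ne_zero_complex
  field_simp at frob
  have h4 : (Nat.card M : ℂ) * (Nat.card H : ℂ) ≠ 0 := mul_ne_zero hM0 hH0
  apply mul_left_cancel₀ h4
  linear_combination frob + (Cfsg.classInner (fun x : (M ⊓ H : Subgroup G) => ϑ ⟨x, hDH x.2⟩)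
          (fun x : (M ⊓ H : Subgroup G) => χ x)) * hcardC

end Star

section Restrict

universe u

/-- if the restriction of a character along `f ∘ j` is irreducible, so is the restriction along
`f` -/
theorem isIrrCharacter_comp_of_comp {H X Y : Type u} [Group H] [Group X] [Fintype X] [Group Y]
    [Fintype Y] (f : X →* H) (j : Y →* X) {ϑ : H → ℂ} (hϑ : Cfsg.IsCharacter H ϑ)
    (hY : Cfsg.IsIrrCharacter Y (fun y => ϑ (f (j y)))) :
    Cfsg.IsIrrCharacter X (fun x => ϑ (f x)) := by
  obtain ⟨n, ρ, rfl⟩ := hϑ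
  have hX : Cfsg.IsCharacter X (fun x => ρ.character (f x)) := ⟨n, ρ.comp f, rfl⟩
  apply isIrrCharacter_of_classInner_self_eq_one hX
  have h1 := finrank_commSub ρ f
  have h2 := finrank_commSub ρ (f.comp j)
  have h3 : Cfsg.classInner (fun y : Y => ρ.character ((f.comp j) y))
      (fun y : Y => ρ.character ((f.comp j) y)) = 1 := classInner_irr_self hY
  rw [h3] at h2
  have h4 : finrank ℂ (commSub ρ (f.comp j)) = 1 := by exact_mod_cast h2
  have h5 : finrank ℂ (commSub ρ f) ≤ 1 := by
    rw [← h4]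
    exact Submodule.finrank_mono (commSub_mono_comp ρ f j)
  have h6 : finrank ℂ (commSub ρ f) ≠ 0 := by
    intro h0
    have hbot : commSub ρ f = ⊥ := Submodule.finrank_eq_zero.mp h0
    have hone : (1 : (Fin n → ℂ) →ₗ[ℂ] (Fin n → ℂ)) ∈ commSub ρ f := by
      intro x; rw [mul_one, one_mul]
    rw [hbot, Submodule.mem_bot] at hone
    have hall : commSub ρ (f.comp j) = ⊥ := by
      rw [Submodule.eq_bot_iff]
      intro T _
      calc T = T * 1 := (mul_one T).symm
        _ = 0 := by rw [hone, mul_zero]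
    rw [hall, finrank_bot] at h4
    exact absurd h4 (by norm_num)
  have h7 : finrank ℂ (commSub ρ f) = 1 := by omega
  rw [← h1, h7]
  simp

variable {X : Type u} [Group X] [Fintype X]

/-- a character containing the irreducible `β` with multiplicity `m` and of degree `m β(1)`
is `m β` -/
theorem eq_nsmul_of_classInner_eq {α β : X → ℂ} (hα : Cfsg.IsCharacter X α)
    (hβ : Cfsg.IsIrrCharacter X β) (m : ℕ) (hinner : Cfsg.classInner α β = (m : ℂ))
    (hdeg : α 1 = (m : ℂ) * β 1) : α = (m : ℂ) • β := by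
  classical
  let β' : Cfsg.IrrCharacter X := ⟨β, hβ⟩
  have hmβ : irrMult α β' = m := by
    have := irrMult_spec hα β'
    rw [show ((β' : Cfsg.IrrCharacter X) : X → ℂ) = β from rfl, hinner] at this
    exact_mod_cast this.symm
  choose d hd0 hd using fun ψ : Cfsg.IrrCharacter X => irr_one_pos ψ
  have hsum := isCharacter_eq_sum_irrMult hα
  have h1 : α 1 = ((∑ ψ : Cfsg.IrrCharacter X, irrMult α ψ * d ψ : ℕ) : ℂ) := by
    conv_lhs => rw [hsum]
    rw [Finset.sum_apply]
    push_cast
    apply Finset.sum_congr rfl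
    intro ψ _
    rw [Pi.smul_apply, smul_eq_mul, hd ψ]
  have h2 : α 1 = ((m * d β' : ℕ) : ℂ) := by
    have hb : β 1 = (d β' : ℂ) := hd β'
    rw [hdeg, hb]; push_cast; rfl
  have h3 : ∑ ψ : Cfsg.IrrCharacter X, irrMult α ψ * d ψ = m * d β' := by
    rw [h1] at h2; exact_mod_cast h2
  have hsplit := Finset.add_sum_erase Finset.univ
    (fun ψ : Cfsg.IrrCharacter X => irrMult α ψ * d ψ) (Finset.mem_univ β')
  rw [h3, hmβ] at hsplit
  have hrest : ∑ ψ ∈ Finset.univ.erase β', irrMult α ψ * d ψ = 0 := by omega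
  have hothers : ∀ ψ, ψ ≠ β' → irrMult α ψ = 0 := by
    intro ψ hψ
    have := (Finset.sum_eq_zero_iff.mp hrest) ψ (Finset.mem_erase.mpr ⟨hψ, Finset.mem_univ _⟩)
    rcases Nat.mul_eq_zero.mp this with h | h
    · exact h
    · exact absurd h (hd0 ψ).ne'
  conv_lhs => rw [hsum]
  rw [Finset.sum_eq_single β']
  · rw [hmβ]
  · intro b _ hb; rw [hothers b hb]; simp
  · intro h; exact absurd (Finset.mem_univ _) h

end Restrict

end Cfsg.Agent.Helper3
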