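import Mathlib
import Cfsg.Prelude.Def_Characters
import Cfsg.Agent.Lib.Helper3.BergerE
import Cfsg.Agent.Lib.Helper3.Spectral
import Cfsg.Agent.S0890

set_option autoImplicit false
set_option linter.unusedSectionVars false
set_option linter.style.haveILetI false

/-!
# Tools for Berger's theorem (S0889), part F : case B
-/

namespace Cfsg.Agent.H3Berger

open Cfsg Cfsg.Agent.Helper81 Cfsg.Agent.Helper79
open Module
open scoped ComplexConjugate

universe u

section Common

variable {G : Type u} [Group G] [Fintype G]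

/-- the basic inner product: `[β_Ĥ, conj(τ_Ĥ) ϑ̂] = 1` -/
theorem inner_beta_theta (N : Subgroup G) [hN : N.Normal] {d : ℕ}
    (ρ : Representation ℂ N (Fin d → ℂ)) [hρ : ρ.IsIrreducible]
    (hπ : Function.Surjective (extProj N ρ))
    {χ : G → ℂ} (hχ : IsIrrCharacter G χ) (H : Subgroup G) (ϑ : H → ℂ)
    (hind : indFun H ϑ = χ) {k : ℕ} (ρβ : Representation ℂ (extGroup N ρ) (Fin k → ℂ))
    (hprod : ∀ x, ρβ.character x * (extRep N ρ).character x = χ (extProj N ρ x))
    [Fintype (extGroup N ρ)] [Fintype (H.comap (extProj N ρ))] :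
    classInner (fun h : H.comap (extProj N ρ) => ρβ.character h)
      ((fun h : H.comap (extProj N ρ) => conj ((extRep N ρ).character h)) *
        (fun h : H.comap (extProj N ρ) => ϑ ((extProj N ρ).subgroupComap H h))) = 1 := by
  classical
  have hχhirr : IsIrrCharacter (extGroup N ρ) (fun x => χ (extProj N ρ x)) := by
    obtain ⟨c, ρχ, hρχ, rfl⟩ := hχ
    haveI := hρχ
    exact ⟨c, ρχ.comp (extProj N ρ), isIrreducible_comp_of_surjective ρχ (extProj N ρ) hπ, rfl⟩
  have hχhcf := isClassFunction_of_isCharacter (IsIrrCharacter.isCharacter hχhirr)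
  have hindh : indFun (H.comap (extProj N ρ))
      (fun h : H.comap (extProj N ρ) => ϑ ((extProj N ρ).subgroupComap H h)) =
      fun x => χ (extProj N ρ x) := by
    funext x
    have := indFun_comap_surj (extProj N ρ) hπ H ϑ x
    rw [hind] at this
    exact this
  rw [← classInner_mul_left_conj]
  have h1 : ((fun h : H.comap (extProj N ρ) => ρβ.character h) *
      fun h : H.comap (extProj N ρ) => (extRep N ρ).character h) =
      fun h : H.comap (extProj N ρ) => (fun x => χ (extProj N ρ x)) h := by
    funext h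
    exact hprod h
  rw [h1, classInner_conj_symm, ← frobenius_reciprocity (H.comap (extProj N ρ)) _ hχhcf, hindh,
    irr_orthonormal hχhirr hχhirr, if_pos rfl, map_one]

/-- a scalar operator of a representation of a finite group has character of full norm -/
theorem norm_char_of_scalar {Γ : Type*} [Group Γ] [Finite Γ] {d : ℕ}
    (ρ : Representation ℂ Γ (Fin d → ℂ)) (x : Γ) (μ : ℂ)
    (h : ρ x = μ • (1 : Module.End ℂ (Fin d → ℂ))) : ‖ρ.character x‖ = (d : ℝ) := by
  have := (Cfsg.Agent.Helper3.norm_char_eq_iff ρ x).mpr ⟨μ, h⟩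
  rw [this, Module.finrank_fin_fun]

theorem scalar_of_norm_char {Γ : Type*} [Group Γ] [Finite Γ] {d : ℕ}
    (ρ : Representation ℂ Γ (Fin d → ℂ)) (x : Γ) (h : ‖ρ.character x‖ = (d : ℝ)) :
    ∃ μ : ℂ, ρ x = μ • (1 : Module.End ℂ (Fin d → ℂ)) := by
  have := (Cfsg.Agent.Helper3.norm_char_eq_iff ρ x).mp (by rw [h, Module.finrank_fin_fun])
  exact this

end Common

section CaseB

set_option maxHeartbeats 3200000 in
/-- Case B: the homogeneous constituent of `χ` on the core is linear. -/
theorem caseB {G : Type u} [Group G] [Fintype G] [Group.IsSolvable G] (n : ℕ)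
    (IH : ∀ k < n, BergerP.{u} k)
    {χ : G → ℂ} (hχ : IsIrrCharacter G χ) (hχ1 : χ 1 = (n : ℂ)) (hqp : QP G χ)
    (H : Subgroup G) (hmax : IsCoatom H) (ϑ : H → ℂ) (hϑ : IsIrrCharacter H ϑ)
    (hind : indFun H ϑ = χ)
    (K : Subgroup G) [hK : K.Normal] (hCK : H.normalCore < K)
    (hsup : K ⊔ H = ⊤) (hinf : K ⊓ H = H.normalCore)
    (hchiefK : ∀ M : Subgroup G, M.Normal → H.normalCore ≤ M → M ≤ K →
      M = H.normalCore ∨ M = K)
    (φ : H.normalCore → ℂ) (hφ : IsIrrCharacter H.normalCore φ) (hφ1 : φ 1 = 1)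
    (eC : ℕ) (hresC : (fun c : H.normalCore => χ c) = (eC : ℂ) • φ) : False := by
  classical
  haveI : Fintype H := Fintype.ofFinite _
  haveI : Fintype K := Fintype.ofFinite _
  haveI : Fintype H.normalCore := Fintype.ofFinite _
  have hCH : H.normalCore ≤ H := Subgroup.normalCore_le H
  have hχc : IsCharacter G χ := IsIrrCharacter.isCharacter hχ
  have hχcf := isClassFunction_of_isCharacter hχc
  have hn0 : n ≠ 0 := by
    intro h0
    obtain ⟨m, σ, hσ, rfl⟩ := hχ
    haveI := hσ
    rw [Representation.char_one, Module.finrank_fin_fun, h0] at hχ1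
    have : 0 < m := degree_pos_of_irreducible' σ
    have : (m : ℂ) ≠ 0 := by exact_mod_cast this.ne'
    exact this (by simpa using hχ1)
  -- quasi-primitivity at `K`
  obtain ⟨η, eK, hη, hresK⟩ := hqp K hK
  obtain ⟨b, ρη, hρη, rfl⟩ := hη
  haveI := hρη
  have hb0 : 0 < b := degree_pos_of_irreducible' ρη
  have heKb : eK * b = n := by
    have h1 := congrFun hresK 1
    simp only [Subgroup.coe_one, Pi.smul_apply, smul_eq_mul, Representation.char_one,
      Module.finrank_fin_fun] at h1
    rw [hχ1] at h1
    exact_mod_cast h1.symm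
  have heC : eC = n := by
    have h1 := congrFun hresC 1
    simp only [Subgroup.coe_one, Pi.smul_apply, smul_eq_mul, hφ1, mul_one] at h1
    rw [hχ1] at h1
    exact_mod_cast h1.symm
  have heK0 : (eK : ℂ) ≠ 0 := by
    intro h0
    have : eK = 0 := by exact_mod_cast h0
    rw [this, zero_mul] at heKb
    exact hn0 heKb.symm
  have hφnorm : ∀ c, φ c * conj (φ c) = 1 :=
    fun c => Cfsg.Agent.Helper78.linear_char_mul_conj hφ hφ1 c
  -- `η` on the core
  have hηC : ∀ c : H.normalCore, ρη.character ⟨(c : G), hCK.le c.2⟩ = (b : ℂ) * φ c := by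
    intro c
    have h1 := congrFun hresK ⟨(c : G), hCK.le c.2⟩
    have h2 := congrFun hresC c
    simp only [Pi.smul_apply, smul_eq_mul] at h1 h2
    rw [h2, heC, ← heKb] at h1
    push_cast at h1
    rw [mul_assoc] at h1
    exact (mul_left_cancel₀ heK0 h1).symm
  have hηCnorm : ∀ s ∈ (H.normalCore).subgroupOf K,
      Complex.normSq (ρη.character s) = (b : ℝ) ^ 2 := by
    intro s hs
    have h1 := hηC ⟨(s : G), hs⟩
    have h2 : (⟨((⟨(s : G), hs⟩ : H.normalCore) : G), hCK.le hs⟩ : K) = s := rfl
    rw [h2] at h1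
    rw [h1, Complex.normSq_mul, Complex.normSq_natCast]
    have h3 : Complex.normSq (φ ⟨(s : G), hs⟩) = 1 := by
      have := hφnorm ⟨(s : G), hs⟩
      rw [Complex.mul_conj] at this
      exact_mod_cast this
    rw [h3, mul_one]; ring
  have hηirr : IsIrrCharacter K ρη.character := ⟨b, ρη, hρη, rfl⟩
  obtain ⟨hle, hvan⟩ := card_mul_sq_le_of_normSq hηirr ((H.normalCore).subgroupOf K) b hηCnorm
  -- indices
  set m := H.index with hmdef
  have hmrel : m = (H.normalCore).relIndex K := by
    rw [hmdef, Cfsg.Agent.S0890.index_eq_relIndex_of_sup H K hsup, hinf]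
  have hcardK : Nat.card ((H.normalCore).subgroupOf K) * m = Nat.card K := by
    rw [hmrel]
    exact Subgroup.card_mul_index ((H.normalCore).subgroupOf K)
  have hS0 : 0 < Nat.card ((H.normalCore).subgroupOf K) := Nat.card_pos
  have hb2m : b ^ 2 ≤ m := by
    rw [← hcardK] at hle
    exact Nat.le_of_mul_le_mul_left hle hS0
  have hidx0 : m ≠ 0 := Subgroup.index_ne_zero_of_finite
  have hidx1 : m ≠ 1 := fun h => hmax.1 (Subgroup.index_eq_one.mp h)
  obtain ⟨a, ρϑ, hρϑ, rfl⟩ := hϑ
  haveI := hρϑ
  have ha0 : 0 < a := degree_pos_of_irreducible' ρϑ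
  have hnma : n = m * a := by
    have h1 : χ 1 = (H.index : ℂ) * ρϑ.character 1 := by rw [← hind]; exact indFun_one H _
    rw [hχ1, Representation.char_one, Module.finrank_fin_fun] at h1
    exact_mod_cast h1
  -- the extension
  have hne : classInner (fun x : K => χ x) ρη.character ≠ 0 := by
    rw [hresK, classInner_smul_left, irr_orthonormal hηirr hηirr, if_pos rfl, mul_one]
    exact heK0
  have hinv : ∀ g : G, conjFun K hK ρη.character g = ρη.character :=
    fun g => conjFun_eq_of_restrict_eq_smul K hK hχcf heK0 hresK g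
  obtain ⟨k, ρβ, hρβ, hprod, hker, hqpβ⟩ := ext_factor_qp K hχ hqp ρη hne hinv
  haveI := hρβ
  haveI : Finite (extGroup K ρη) := finite_extGroup K ρη
  haveI : Fintype (extGroup K ρη) := Fintype.ofFinite _
  haveI : Group.IsSolvable (extGroup K ρη) := isSolvable_extGroup K ρη
  have hinv' : ∀ (g : G) (c : K),
      ρη.character ⟨g * c * g⁻¹, hK.conj_mem c c.2 g⟩ = ρη.character c :=
    fun g c => congrFun (hinv g) c
  have hπ := extProj_surjective K ρη hinv'
  have hk0 : 0 < k := degree_pos_of_irreducible' ρβ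
  have hkb : k * b = n := by
    have h1 := hprod 1
    rw [map_one, hχ1, Representation.char_one, Representation.char_one,
      Module.finrank_fin_fun, Module.finrank_fin_fun] at h1
    exact_mod_cast h1
  haveI : Fintype (H.comap (extProj K ρη)) := Fintype.ofFinite _
  have hinner := inner_beta_theta K ρη hπ hχ H ρϑ.character hind ρβ hprod
  have hdecomp : ∀ x : extGroup K ρη, ∃ (k' : K) (y : extGroup K ρη),
      y ∈ H.comap (extProj K ρη) ∧ x = extIncl K ρη k' * y := by
    intro x
    have hx : extProj K ρη x ∈ K ⊔ H := by rw [hsup]; trivial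
    obtain ⟨k', hk', h', hh', hxeq⟩ := Subgroup.mem_sup_of_normal_left.mp hx
    refine ⟨⟨k', hk'⟩, (extIncl K ρη ⟨k', hk'⟩)⁻¹ * x, ?_, by group⟩
    show extProj K ρη ((extIncl K ρη ⟨k', hk'⟩)⁻¹ * x) ∈ H
    rw [map_mul, map_inv, ← hxeq]
    have : extProj K ρη (extIncl K ρη ⟨k', hk'⟩) = k' := rfl
    rw [this, inv_mul_cancel_left]
    exact hh'
  have hβHirr : IsIrrCharacter (H.comap (extProj K ρη))
      (fun h : H.comap (extProj K ρη) => ρβ.character h) := by
    refine ⟨k, ρβ.comp (H.comap (extProj K ρη)).subtype,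
      isIrreducible_comp_of_surj_mod ρβ _ ?_, rfl⟩
    intro x
    obtain ⟨k', y, hy, rfl⟩ := hdecomp x
    refine ⟨⟨y, hy⟩, ?_⟩
    rw [map_mul, hker, one_mul]
    rfl
  set βH : (H.comap (extProj K ρη)) → ℂ := fun h => ρβ.character h with hβH
  set τH : (H.comap (extProj K ρη)) → ℂ := fun h => (extRep K ρη).character h with hτH
  set ϑh : (H.comap (extProj K ρη)) → ℂ :=
    fun h => ρϑ.character ((extProj K ρη).subgroupComap H h) with hϑh
  set Θ : (H.comap (extProj K ρη)) → ℂ := (fun h => conj (τH h)) * ϑh with hΘ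
  have hτHc : IsCharacter (H.comap (extProj K ρη)) τH :=
    isCharacter_restrict _ ⟨b, extRep K ρη, rfl⟩
  have hϑhc : IsCharacter (H.comap (extProj K ρη)) ϑh :=
    isCharacter_comp_hom ((extProj K ρη).subgroupComap H) ⟨a, ρϑ, rfl⟩
  have hΘc : IsCharacter (H.comap (extProj K ρη)) Θ :=
    isCharacter_mul (Cfsg.Agent.Helper3.isCharacter_conj hτHc) hϑhc
  have hΘne : classInner Θ βH ≠ 0 := by
    rw [classInner_conj_symm, hinner]; simp
  obtain ⟨Θ', hΘ', hsplit⟩ := exists_add_of_classInner_ne_zero hΘc hβHirr hΘne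
  obtain ⟨t, ρΘ', hρΘ'⟩ := hΘ'
  have hdeg : b * a = k + t := by
    have h1 := congrFun hsplit 1
    simp only [hΘ, hτH, hϑh, hβH, Pi.mul_apply, Pi.add_apply, Subgroup.coe_one, map_one,
      Representation.char_one, Module.finrank_fin_fun, ← hρΘ', Complex.conj_natCast] at h1
    exact_mod_cast h1
  have ht0 : t = 0 := by
    have h1 : b * b * a ≤ m * a := Nat.mul_le_mul_right a (by rw [← sq]; exact hb2m)
    have h2 : (k + t) * b = b * b * a := by rw [← hdeg]; ring
    have h3 : k * b = m * a := by rw [hkb, hnma]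
    have h4 : t * b ≤ 0 := by nlinarith
    have h5 : t * b = 0 := Nat.le_zero.mp h4
    rcases Nat.mul_eq_zero.mp h5 with h | h
    · exact h
    · omega
  have hkba : k = b * a := by rw [hdeg, ht0, add_zero]
  have hmb : m = b ^ 2 := by
    have h3 : k * b = m * a := by rw [hkb, hnma]
    rw [hkba] at h3
    have h4 : b ^ 2 * a = m * a := by rw [← h3]; ring
    exact (Nat.eq_of_mul_eq_mul_right ha0 h4).symm
  have hΘ'0 : Θ' = 0 := by
    apply isCharacter_eq_zero_of_one_eq_zero ⟨t, ρΘ', hρΘ'⟩
    rw [← hρΘ', Representation.char_one, Module.finrank_fin_fun, ht0]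
    simp
  have hΘeq : Θ = βH := by rw [hsplit, hΘ'0, add_zero]
  have hb2 : 2 ≤ b := by
    by_contra h
    have : b = 1 := by omega
    rw [this] at hmb
    exact hidx1 (by simpa using hmb)
  have hkn : k < n := by
    rw [← hkb]
    nlinarith
  -- the induction hypothesis on the preimage of `H`
  haveI hK₀n : (extIncl K ρη).range.Normal := extIncl_range_normal K ρη
  have hsup' : (extIncl K ρη).range ⊔ H.comap (extProj K ρη) = ⊤ := by
    rw [eq_top_iff]
    intro x _
    obtain ⟨k', y, hy, rfl⟩ := hdecomp x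
    exact Subgroup.mul_mem _ (Subgroup.mem_sup_left ⟨k', rfl⟩) (Subgroup.mem_sup_right hy)
  have hqpH := qp_restrict_of_sup (H.comap (extProj K ρη)) (extIncl K ρη).range hsup' ρβ hk0
    (by rintro _ ⟨k', rfl⟩; exact hker k') hqpβ
  have hβH1 : βH 1 = (k : ℂ) := by
    simp only [hβH, Subgroup.coe_one, Representation.char_one, Module.finrank_fin_fun]
  have hprimH := IH k hkn (H.comap (extProj K ρη)) βH hβHirr hβH1 hqpH
  have hcardeq : Nat.card ((H.normalCore).subgroupOf K) * b ^ 2 = Nat.card K := by
    rw [← hmb]; exact hcardK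
  have hvan' := hvan hcardeq
  -- `K` is proper
  have hKtop : K ≠ ⊤ := by
    intro h
    have h1 : H.normalCore = H := by rw [← hinf, h, top_inf_eq]
    -- then `H` is normal of index `b ^ 2` with abelian chief quotient: use degrees instead
    have hnn : classInner (fun x : K => χ x) (fun x : K => χ x) = ((eK ^ 2 : ℕ) : ℂ) :=
      Cfsg.Agent.S0890.nn_of_smul eK hηirr hresK
    have htop : classInner (fun x : K => χ x) (fun x : K => χ x) = classInner χ χ := by
      unfold classInner
      have hc : Nat.card K = Nat.card G := by rw [h, Subgroup.card_top]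
      rw [hc]
      congr 1
      have hmem : ∀ g : G, g ∈ K := fun g => by rw [h]; trivial
      exact Fintype.sum_equiv (Equiv.mk (fun x : K => (x : G)) (fun g => (⟨g, hmem g⟩ : K))
        (fun x => rfl) (fun g => rfl)) _ _ (fun x => rfl)
    rw [htop, irr_orthonormal hχ hχ, if_pos rfl] at hnn
    have heK1 : eK ^ 2 = 1 := by exact_mod_cast hnn.symm
    have heK1' : eK = 1 := by
      rcases Nat.eq_zero_or_pos eK with h0 | h0
      · rw [h0] at heK1; simp at heK1
      · nlinarith
    rw [heK1', one_mul] at heKb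
    -- b = n, k * b = n so k = 1, k = b * a
    rw [← heKb] at hkb
    have hk1 : k = 1 := by
      have : k * b = 1 * b := by rw [hkb, one_mul]
      exact Nat.eq_of_mul_eq_mul_right hb0 this
    rw [hk1] at hkba
    have : b ∣ 1 := ⟨a, hkba⟩
    have : b = 1 := Nat.dvd_one.mp this
    omega
  have hsolvC : Group.IsSolvable (G ⧸ H.normalCore) := inferInstance
  have hsolvK : Group.IsSolvable (G ⧸ K) := inferInstance
  obtain ⟨N, hNn, hKN, habN, hchiefN⟩ := Cfsg.Agent.S0858.exists_chief K hKtop hsolvK
  haveI := hNn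
  obtain ⟨p, a', hp, ha', hpa⟩ :=
    Cfsg.Agent.Helper3.qp_chief_relIndex H.normalCore K hCK hsolvC hchiefK
  obtain ⟨r, c, hr, hc, hrc⟩ := Cfsg.Agent.Helper3.qp_chief_relIndex K N hKN hsolvK hchiefN
  by_cases hrp : r = p
  · -- the `p`-group case
    subst hrp
    haveI : Fact r.Prime := ⟨hr⟩
    have hcard : (H.normalCore).relIndex N = r ^ (a' + c) := by
      have h := Subgroup.relIndex_mul_relIndex H.normalCore K N hCK.le hKN.le
      rw [hpa, hrc] at h
      rw [← h, pow_add]
    have hcomm := Cfsg.Agent.Helper3.qp_comm_mem_of_pgroup H.normalCore K N hCK hKN.le r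
      (a' + c) hcard hchiefK
    exact Cfsg.Agent.Helper3.qp_not_comm H K N hsup hCK.le hKN
      (fun k hk r hr => hcomm k hk r hr.1)
  · -- the coprime case
    set R' : Subgroup (H.comap (extProj K ρη)) :=
      (N.comap (extProj K ρη)).subgroupOf (H.comap (extProj K ρη)) with hR'
    have hR'n : R'.Normal := (hNn.comap (extProj K ρη)).subgroupOf _
    haveI : Fintype R' := Fintype.ofFinite _
    have hτHirr : IsIrrCharacter (H.comap (extProj K ρη)) τH := by
      have h1 : IsIrrCharacter (H.comap (extProj K ρη)) ((fun h => conj (τH h)) * ϑh) := by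
        rw [← hΘ, hΘeq]; exact hβHirr
      have h2 := irr_of_mul_irr (Cfsg.Agent.Helper3.isCharacter_conj hτHc) hϑhc h1
      have h3 := Cfsg.Agent.Helper80.isIrrCharacter_cconj h2
      have h4 : (fun g => conj ((fun h => conj (τH h)) g)) = τH := by funext g; simp
      rw [h4] at h3
      exact h3
    have hτR'c : IsCharacter R' (fun x : R' => τH x) := isCharacter_restrict R' hτHc
    have hbC : (b : ℂ) ≠ 0 := by exact_mod_cast hb0.ne'
    have hτR'0 : (fun x : R' => τH x) ≠ 0 := by
      intro h0
      have h1 := congrFun h0 1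
      simp only [hτH, Subgroup.coe_one, Representation.char_one, Module.finrank_fin_fun,
        Pi.zero_apply] at h1
      exact hbC h1
    obtain ⟨ν, hν, hνne⟩ := exists_irr_constituent hτR'c hτR'0
    by_cases hinvν : ∀ g, conjFun R' hR'n ν g = ν
    · -- homogeneous restriction
      have hresν := restrict_eq_smul_of_invariant R' hR'n hτHirr hν hνne hinvν
      obtain ⟨s, hs⟩ := exists_nat_classInner hτR'c hν
      rw [hs] at hresν
      obtain ⟨v, ρν, hρν, rfl⟩ := hν
      haveI := hρν
      have hv0 : 0 < v := degree_pos_of_irreducible' ρν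
      have hsv : s * v = b := by
        have h1 := congrFun hresν 1
        simp only [hτH, Subgroup.coe_one, Representation.char_one, Module.finrank_fin_fun,
          Pi.smul_apply, smul_eq_mul] at h1
        exact_mod_cast h1.symm
      have hs0 : (s : ℂ) ≠ 0 := by
        intro h0
        have : s = 0 := by exact_mod_cast h0
        rw [this, zero_mul] at hsv
        omega
      let f : R' →* G :=
        (extProj K ρη).comp ((H.comap (extProj K ρη)).subtype.comp R'.subtype)
      have hfrange : f.range = N ⊓ H := by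
        ext g
        constructor
        · rintro ⟨z, rfl⟩
          exact ⟨z.2, z.1.2⟩
        · rintro ⟨hgN, hgH⟩
          obtain ⟨x, rfl⟩ := hπ g
          exact ⟨⟨⟨x, hgH⟩, hgN⟩, rfl⟩
      -- scalar action over the core
      have hscalτ : ∀ x : extGroup K ρη, extProj K ρη x ∈ H.normalCore →
          ∃ μ : ℂ, extRep K ρη x = μ • (1 : Module.End ℂ (Fin b → ℂ)) := by
        intro x hx
        set c₀ : K := ⟨extProj K ρη x, hCK.le hx⟩ with hc₀
        have hc₀mem : c₀ ∈ (H.normalCore).subgroupOf K := hx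
        have h1 := hηCnorm c₀ hc₀mem
        have h2 : ‖ρη.character c₀‖ = (b : ℝ) := by
          rw [Complex.normSq_eq_norm_sq] at h1
          have hb' : (0 : ℝ) ≤ (b : ℝ) := Nat.cast_nonneg b
          exact (pow_left_inj₀ (norm_nonneg _) hb' (two_ne_zero)).mp h1
        obtain ⟨ω, hω⟩ := scalar_of_norm_char ρη c₀ h2
        set y := (extIncl K ρη c₀)⁻¹ * x with hy
        have hy1 : y.1.1 = 1 := by
          have : extProj K ρη y = 1 := by
            rw [hy, map_mul, map_inv]
            have : extProj K ρη (extIncl K ρη c₀) = extProj K ρη x := rfl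
            rw [this, inv_mul_cancel]
          exact this
        obtain ⟨l, -, hl⟩ := ker_scalar K ρη y.1 y.2 hy1
        have hyrep : extRep K ρη y = (l : ℂ) • (1 : Module.End ℂ (Fin b → ℂ)) := by
          rw [extRep_apply, hl, scU_coe]
        have hx' : x = extIncl K ρη c₀ * y := by rw [hy]; group
        refine ⟨ω * (l : ℂ), ?_⟩
        rw [hx', map_mul, extRep_incl, hω, hyrep, smul_mul_smul_comm, mul_one]
      have hscalν : ∀ z ∈ (H.normalCore).comap f,
          ∃ l : ℂ, ρν z = l • (1 : Module.End ℂ (Fin v → ℂ)) := by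
        intro z hz
        obtain ⟨μ, hμ⟩ := hscalτ ((z : H.comap (extProj K ρη)) : extGroup K ρη) hz
        have h1 : ‖(extRep K ρη).character ((z : H.comap (extProj K ρη)) : extGroup K ρη)‖ =
            (b : ℝ) := norm_char_of_scalar _ _ μ hμ
        have h2 := congrFun hresν z
        simp only [hτH, Pi.smul_apply, smul_eq_mul] at h2
        apply scalar_of_norm_char ρν z
        rw [h2, norm_mul, Complex.norm_natCast] at h1
        have hs0' : (0 : ℝ) < (s : ℝ) := by
          have : s ≠ 0 := by intro h0; rw [h0] at hs0; simp at hs0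
          exact_mod_cast Nat.pos_of_ne_zero this
        have h3 : (s : ℝ) * ‖ρν.character z‖ = (s : ℝ) * (v : ℝ) := by
          rw [h1, ← hsv]; push_cast; ring
        exact mul_left_cancel₀ hs0'.ne' h3
      have hdvd := Cfsg.Agent.Helper79.finrank_dvd_index_of_scalar ρν ((H.normalCore).comap f)
        hscalν
      rw [Module.finrank_fin_fun, Subgroup.index_comap, hfrange] at hdvd
      have hCeq : (N ⊓ H) ⊓ K = H.normalCore := by
        rw [inf_assoc, inf_comm H K, hinf]
        exact inf_eq_right.mpr (hCK.le.trans hKN.le)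
      have hrel1 : (H.normalCore).relIndex (N ⊓ H) = K.relIndex (N ⊓ H) := by
        rw [← hCeq, Subgroup.inf_relIndex_left]
      have hrel2 : K.relIndex (N ⊓ H) ∣ K.relIndex N := by
        rw [← Subgroup.relIndex_sup_right (N ⊓ H) K]
        have hle1 : K ≤ (N ⊓ H) ⊔ K := le_sup_right
        have hle2 : (N ⊓ H) ⊔ K ≤ N := sup_le inf_le_left hKN.le
        exact Dvd.intro _ (Subgroup.relIndex_mul_relIndex K ((N ⊓ H) ⊔ K) N hle1 hle2)
      have hv_r : v ∣ r ^ c := by
        rw [← hrc]
        exact (hrel1 ▸ hdvd).trans hrel2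
      have hv_p : v ∣ p ^ a' := by
        have h1 : v ∣ b := Dvd.intro_left s hsv
        have h2 : b ∣ b ^ 2 := Dvd.intro b (sq b).symm
        rw [← hpa, ← hmrel, hmb]
        exact h1.trans h2
      have hv1 : v = 1 := by
        have hcop : Nat.Coprime (r ^ c) (p ^ a') :=
          Nat.Coprime.pow _ _ ((Nat.coprime_primes hr hp).mpr hrp)
        exact Nat.eq_one_of_dvd_coprimes hcop hv_r hv_p
      subst hv1
      have hsb : s = b := by rw [← hsv, mul_one]
      have hνirr : IsIrrCharacter R' ρν.character := ⟨1, ρν, hρν, rfl⟩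
      have hνlin : ρν.character 1 = 1 := by
        rw [Representation.char_one, Module.finrank_fin_fun]; simp
      have hscalR : ∀ z : R', ∃ μ : ℂ,
          extRep K ρη ((z : H.comap (extProj K ρη)) : extGroup K ρη) =
            μ • (1 : Module.End ℂ (Fin b → ℂ)) := by
        intro z
        apply scalar_of_norm_char
        have h2 := congrFun hresν z
        simp only [hτH, Pi.smul_apply, smul_eq_mul] at h2
        rw [h2, norm_mul, Complex.norm_natCast, hsb]
        have h3 := Cfsg.Agent.Helper78.linear_char_mul_conj hνirr hνlin z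
        rw [Complex.mul_conj] at h3
        have h4 : Complex.normSq (ρν.character z) = 1 := by exact_mod_cast h3
        rw [Complex.normSq_eq_norm_sq] at h4
        have h5 : ‖ρν.character z‖ = 1 := by
          have := (pow_left_inj₀ (norm_nonneg _) (zero_le_one) (two_ne_zero)).mp
            (by rw [h4]; norm_num : ‖ρν.character z‖ ^ 2 = (1 : ℝ) ^ 2)
          exact this
        rw [h5, mul_one]
      -- commutators
      apply Cfsg.Agent.Helper3.qp_not_comm H K N hsup hCK.le hKN
      intro k' hk' g hg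
      obtain ⟨x, hx⟩ := hπ g
      have hxH : x ∈ H.comap (extProj K ρη) := by
        show extProj K ρη x ∈ H
        rw [hx]; exact hg.2
      have hxR : (⟨x, hxH⟩ : H.comap (extProj K ρη)) ∈ R' := by
        show extProj K ρη x ∈ N
        rw [hx]; exact hg.1
      obtain ⟨μ, hμ⟩ := hscalR ⟨⟨x, hxH⟩, hxR⟩
      have hμ' : extRep K ρη x = μ • (1 : Module.End ℂ (Fin b → ℂ)) := hμ
      obtain ⟨kk, hkk⟩ : ∃ kk : K, (kk : G) = k' := ⟨⟨k', hk'⟩, rfl⟩
      have hconj := extIncl_conj K ρη x kk
      have h1 := congrArg (extRep K ρη) hconj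
      rw [map_mul, map_mul, extRep_incl, extRep_incl] at h1
      have h2 : extRep K ρη x * ρη kk * extRep K ρη x⁻¹ = ρη kk := by
        have h3 : extRep K ρη x * extRep K ρη x⁻¹ = 1 := by
          rw [← map_mul, mul_inv_cancel, map_one]
        have hcomm : extRep K ρη x * ρη kk = ρη kk * extRep K ρη x := by
          rw [hμ']
          simp
        rw [hcomm, mul_assoc, h3, mul_one]
      rw [h2] at h1
      obtain ⟨w, hw⟩ : ∃ w : K, w = MulAut.conjNormal x.1.1 kk * kk⁻¹ := ⟨_, rfl⟩
      have hρw : ρη w = 1 := by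
        rw [hw, map_mul, ← h1, ← map_mul, mul_inv_cancel, map_one]
      have hηw : ρη.character w = (b : ℂ) := by
        simp only [Representation.character, hρw]
        simp
      have hwC : w ∈ (H.normalCore).subgroupOf K := by
        by_contra hnot
        have := hvan' w hnot
        rw [hηw] at this
        exact hbC this
      have hwval : (w : G) = g * k' * g⁻¹ * k'⁻¹ := by
        have hx1 : x.1.1 = g := hx
        rw [hw]
        simp [MulAut.conjNormal_apply, hx1, hkk]
      have hwC' : g * k' * g⁻¹ * k'⁻¹ ∈ H.normalCore := by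
        rw [← hwval]; exact hwC
      have hfin : k' * g * k'⁻¹ * g⁻¹ = (g * k' * g⁻¹ * k'⁻¹)⁻¹ := by group
      rw [hfin]
      exact (H.normalCore).inv_mem hwC'
    · -- Clifford correspondence: `τ_Ĥ` is induced from the inertia group
      set T := inertiaGrp R' hR'n ν with hTdef
      have hT : ∀ g, g ∈ T ↔ conjFun R' hR'n ν g = ν := fun g => mem_inertiaGrp R' hR'n ν g
      have hR'T : R' ≤ T :=
        le_inertiaGrp R' hR'n (isClassFunction_of_isCharacter (IsIrrCharacter.isCharacter hν))
      haveI : Fintype T := Fintype.ofFinite _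
      obtain ⟨ζ, hζ, hindζ, -⟩ := clifford_corr_surj R' T hR'n hR'T hν hT hτHirr hνne
      have hTtop : T ≠ ⊤ := by
        intro h
        apply hinvν
        intro g
        exact (hT g).mp (by rw [h]; trivial)
      have hϑhcf := isClassFunction_of_isCharacter hϑhc
      have hindT : indFun T ((fun t : T => conj (ζ t)) * fun t : T => ϑh t) = βH := by
        rw [indFun_mul_restrict T _ hϑhcf, indFun_conj, hindζ, ← hΘeq]
      exact hprimH T hTtop _
        (isCharacter_mul (Cfsg.Agent.Helper3.isCharacter_conj (IsIrrCharacter.isCharacter hζ))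
          (isCharacter_restrict T hϑhc)) hindT

end CaseB

end Cfsg.Agent.H3Berger
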