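import Mathlib
import Cfsg.Agent.S1473
import Cfsg.Agent.S1477
import Cfsg.Agent.S1479
import Cfsg.Agent.S1483
import Cfsg.Agent.S4127
import Cfsg.Agent.Lib.Helper45.CNMax

/-!
# The Feit–Hall–Thompson CN-theorem, reduced to the partition statement S1526 (helper3)

`cn_odd_solvable_of_partition`: given the statement of S1526 (as a hypothesis at one universe),
every CN-group of odd order is solvable.  Local analysis: S1473 (quotients), S1477, S1479, S1483
(helper45/helper68).
-/

set_option autoImplicit false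
set_option linter.style.haveILetI false
set_option linter.unusedSectionVars false

namespace Cfsg.Agent.H3CN

universe u

open Cfsg.Agent.Helper45.MaxNilp

/-- The partition statement (S1526) at universe `u`. -/
def PartitionStmt : Prop :=
  ∀ {G : Type u} [Group G] [Finite G], Odd (Nat.card G) → ∀ {ι : Type u} [Fintype ι],
    2 ≤ Fintype.card ι → ∀ (L H : ι → Subgroup G), (∀ i, H i < L i) → (∀ i, H i ≠ ⊥) →
    (∀ i, ∀ x ∈ L i, ∀ h ∈ H i, x * h * x⁻¹ ∈ H i) →
    (∀ i, ∀ h ∈ H i, h ≠ 1 → L i ⊓ Subgroup.centralizer ({h} : Set G) ≤ H i) →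
    (∀ i j, i ≠ j → Nat.Coprime (Nat.card (H i)) (Nat.card (H j))) →
    (∀ i, Cfsg.IsTISubset (H i : Set G) ∧ Subgroup.normalizer (H i : Set G) = L i) →
    (∀ g : G, g ≠ 1 → ∃ i, ∃ x : G, x * g * x⁻¹ ∈ H i) → False

section simple

variable {G : Type u} [Group G] [Finite G]

/-- conjugacy of maximal nilpotent subgroups. -/
def mnSetoid (G : Type u) [Group G] [Finite G] : Setoid {H : Subgroup G // IsMaxNilp H} where
  r A B := ∃ g : G, B.1 = A.1.map (MulAut.conj g).toMonoidHom
  iseqv := by
    refine ⟨fun A => ⟨1, ?_⟩, ?_, ?_⟩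
    · ext x; simp
    · rintro A B ⟨g, hg⟩
      refine ⟨g⁻¹, ?_⟩
      rw [hg]
      ext x
      simp only [Subgroup.mem_map, MulEquiv.coe_toMonoidHom, MulAut.conj_apply, exists_exists_and_eq_and]
      constructor
      · intro hx
        exact ⟨x, hx, by group⟩
      · rintro ⟨y, hy, rfl⟩
        have : g⁻¹ * (g * y * g⁻¹) * g⁻¹⁻¹ = y := by group
        rw [this]; exact hy
    · rintro A B C ⟨g, hg⟩ ⟨k, hk⟩
      refine ⟨k * g, ?_⟩
      rw [hk, hg]
      ext x
      simp only [Subgroup.mem_map, MulEquiv.coe_toMonoidHom, MulAut.conj_apply, exists_exists_and_eq_and]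
      constructor
      · rintro ⟨y, hy, rfl⟩
        exact ⟨y, hy, by group⟩
      · rintro ⟨y, hy, rfl⟩
        exact ⟨y, hy, by group⟩

theorem mem_normalizer_of_map_eq {H : Subgroup G} {g : G}
    (h : H.map (MulAut.conj g).toMonoidHom = H) : g ∈ Subgroup.normalizer (H : Set G) := by
  rw [Subgroup.mem_normalizer_iff]
  intro x
  constructor
  · intro hx
    rw [← h]
    exact ⟨x, hx, rfl⟩
  · intro hx
    rw [← h] at hx
    obtain ⟨y, hy, hyx⟩ := hx
    simp only [MulEquiv.coe_toMonoidHom, MulAut.conj_apply] at hyx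
    have : y = x := by
      have := congrArg (fun t => g⁻¹ * t * g) hyx
      simpa [mul_assoc] using this
    rw [← this]; exact hy

theorem false_of_minSimple (hP : PartitionStmt.{u}) (hG : Cfsg.IsMinSimpleOddOrder G)
    (hCN : Cfsg.IsCNGroup G) : False := by
  classical
  obtain ⟨h79, -⟩ := Cfsg.Agent.S1479.result hG hCN
  obtain ⟨h83, -⟩ := Cfsg.Agent.S1483.result hG hCN
  let ι : Type u := Quotient (mnSetoid G)
  have : Finite ι := by unfold ι; infer_instance
  let _ : Fintype ι := Fintype.ofFinite ι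
  let H : ι → Subgroup G := fun i => (Quotient.out i).1
  let L : ι → Subgroup G := fun i => Subgroup.normalizer ((H i : Subgroup G) : Set G)
  have hHmn : ∀ i, IsMaxNilp (H i) := fun i => (Quotient.out i).2
  have hTI : ∀ i, ∀ g : G, (H i).map (MulAut.conj g).toMonoidHom ≠ H i →
      H i ⊓ (H i).map (MulAut.conj g).toMonoidHom = ⊥ := fun i =>
    (h79 (H i) (hHmn i).1 (hHmn i).2).2.1
  have hcent : ∀ i, ∀ x ∈ H i, x ≠ 1 → Subgroup.centralizer ({x} : Set G) ≤ H i := fun i =>
    (Cfsg.Agent.S1477.result hCN (H i) (hHmn i).1 (hHmn i).2).2.2 (hTI i)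
  have hcover : ∀ g : G, g ≠ 1 → ∃ i, ∃ x : G, x * g * x⁻¹ ∈ H i := by
    intro g _
    have hnil : Group.IsNilpotent (Subgroup.zpowers g) := by
      haveI : IsMulCommutative (Subgroup.zpowers g) := ⟨⟨fun a b => by
        obtain ⟨a, ha⟩ := a; obtain ⟨b, hb⟩ := b
        obtain ⟨m, rfl⟩ := Subgroup.mem_zpowers_iff.mp ha
        obtain ⟨n, rfl⟩ := Subgroup.mem_zpowers_iff.mp hb
        ext; simp only [Subgroup.coe_mul]; exact (Commute.zpow_zpow_self g m n).eq⟩⟩
      letI : CommGroup (Subgroup.zpowers g) := { (inferInstance : Group (Subgroup.zpowers g)) with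
        mul_comm := fun a b => IsMulCommutative.is_comm.comm a b }
      infer_instance
    obtain ⟨H0, hH0, hle⟩ := exists_maxNilp hnil
    let i : ι := Quotient.mk (mnSetoid G) ⟨H0, hH0⟩
    have hrel : (mnSetoid G).r (Quotient.out i) ⟨H0, hH0⟩ := Quotient.exact (Quotient.out_eq i)
    obtain ⟨k, hk⟩ := hrel
    -- H0 = (H i).map (conj k)
    refine ⟨i, k⁻¹, ?_⟩
    have hg0 : g ∈ H0 := hle (Subgroup.mem_zpowers g)
    rw [show H0 = (H i).map (MulAut.conj k).toMonoidHom from hk] at hg0
    obtain ⟨y, hy, hyg⟩ := hg0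
    simp only [MulEquiv.coe_toMonoidHom, MulAut.conj_apply] at hyg
    have : k⁻¹ * g * k⁻¹⁻¹ = y := by rw [← hyg]; group
    rw [this]; exact hy
  have hne_top : ∀ i, H i ≠ ⊤ := fun i => Cfsg.Agent.Helper45.CNMax.maxNilp_ne_top hG (hHmn i)
  refine hP (G := G) hG.1 (ι := ι) ?_ L H ?_ ?_ ?_ ?_ ?_ ?_ hcover
  · -- at least two classes
    by_contra hlt
    push Not at hlt
    have hnt : Nontrivial G := hG.2.1.toNontrivial
    obtain ⟨g0, hg0⟩ := exists_ne (1 : G)
    obtain ⟨i0, -⟩ := hcover g0 hg0
    have huniq : ∀ i : ι, i = i0 := by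
      intro i
      have : Fintype.card ι ≤ 1 := by omega
      exact (Fintype.card_le_one_iff.mp this) i i0
    apply hne_top i0
    apply Cfsg.Agent.S4127.eq_top_of_conj_cover
    intro g
    by_cases hg : g = 1
    · exact ⟨1, by rw [hg]; simp⟩
    · obtain ⟨i, x, hx⟩ := hcover g hg
      rw [huniq i] at hx
      exact ⟨x⁻¹, by simpa using hx⟩
  · -- H i < L i
    intro i
    obtain ⟨E, hE, hE1, -⟩ := (h79 (H i) (hHmn i).1 (hHmn i).2).2.2.2
    refine lt_of_le_of_ne Subgroup.le_normalizer ?_
    intro heq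
    apply hE1
    obtain ⟨-, hEM, hinf, -⟩ := hE
    rw [eq_bot_iff, ← hinf]
    refine le_inf ?_ le_rfl
    intro e he
    have : e ∈ L i := hEM he
    rw [show L i = H i from heq.symm] at this
    exact this
  · -- H i ≠ ⊥
    intro i hbot
    have hco : IsCoatom (Subgroup.normalizer ((H i : Subgroup G) : Set G)) :=
      (h79 (H i) (hHmn i).1 (hHmn i).2).2.2.1
    apply hco.1
    rw [hbot]
    rw [eq_top_iff]
    intro x _
    rw [Subgroup.mem_normalizer_iff]
    intro h
    simp only [Subgroup.mem_bot]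
    constructor
    · rintro rfl; simp
    · intro hx
      have := congrArg (fun t => x⁻¹ * t * x) hx
      simpa [mul_assoc] using this
  · -- normalizes
    intro i x hx h hh
    exact (Subgroup.mem_normalizer_iff.mp hx h).mp hh
  · -- Frobenius
    intro i h hh h1
    exact inf_le_right.trans (hcent i h hh h1)
  · -- coprime
    intro i j hij
    rcases h83 (H i) (H j) ⟨(hHmn i).1, (hHmn i).2⟩ ⟨(hHmn j).1, (hHmn j).2⟩ with ⟨g, hg⟩ | hc
    · exfalso
      apply hij
      have hrel : (mnSetoid G).r (Quotient.out i) (Quotient.out j) := ⟨g, hg⟩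
      have := Quotient.sound (s := mnSetoid G) hrel
      rw [Quotient.out_eq, Quotient.out_eq] at this
      exact this
    · exact hc
  · -- TI
    intro i
    refine ⟨?_, rfl⟩
    intro g hg x hx hgx
    have hne : (H i).map (MulAut.conj g).toMonoidHom ≠ H i := fun h =>
      hg (mem_normalizer_of_map_eq h)
    have hbot := hTI i g hne
    have hmem : g * x * g⁻¹ ∈ H i ⊓ (H i).map (MulAut.conj g).toMonoidHom :=
      ⟨hgx, ⟨x, hx, rfl⟩⟩
    rw [hbot, Subgroup.mem_bot] at hmem
    have := congrArg (fun t => g⁻¹ * t * g) hmem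
    simpa [mul_assoc] using this

end simple

/-- **CN-theorem for odd order**, modulo the partition statement S1526. -/
theorem cn_odd_solvable_of_partition (hP : PartitionStmt.{u}) :
    ∀ (n : ℕ) (G : Type u) [Group G] [Finite G], Nat.card G = n → Odd (Nat.card G) →
      Cfsg.IsCNGroup G → Group.IsSolvable G := by
  intro n
  induction n using Nat.strong_induction_on with
  | _ n ih =>
    intro G _ _ hn hodd hCN
    by_contra hns
    -- every proper subgroup is solvable
    have hsub : ∀ K : Subgroup G, K ≠ ⊤ → Group.IsSolvable K := by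
      intro K hK
      have hlt : Nat.card K < n := by
        rw [← hn]
        exact Cfsg.Agent.Helper45.CNMax.card_lt_of_lt'' (lt_top_iff_ne_top.mpr hK) |>.trans_eq
          (by rw [Subgroup.card_top])
      refine ih (Nat.card K) hlt K rfl ?_ (Cfsg.Agent.Helper45.CN.cn_subgroup hCN K)
      exact Odd.of_dvd_nat hodd (Subgroup.card_subgroup_dvd_card K)
    have hnt : Nontrivial G := by
      by_contra h
      rw [not_nontrivial_iff_subsingleton] at h
      exact hns inferInstance
    have hsimple : IsSimpleGroup G := by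
      refine ⟨fun N hN => ?_⟩
      by_contra hcon
      push Not at hcon
      obtain ⟨hbot, htop⟩ := hcon
      haveI := hN
      have hNs : Group.IsSolvable N := hsub N htop
      have hqCN : Cfsg.IsCNGroup (G ⧸ N) := Cfsg.Agent.S1473.result hCN N hNs
      have hcard : Nat.card G = Nat.card (G ⧸ N) * Nat.card N := Subgroup.card_eq_card_quotient_mul_card_subgroup N
      have hN1 : 1 < Nat.card N := by
        rw [Finite.one_lt_card_iff_nontrivial]
        exact (Subgroup.nontrivial_iff_ne_bot N).mpr hbot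
      have hqpos : 0 < Nat.card (G ⧸ N) := Nat.card_pos
      have hlt : Nat.card (G ⧸ N) < n := by
        rw [← hn, hcard]; nlinarith
      have hqs : Group.IsSolvable (G ⧸ N) := by
        refine ih _ hlt (G ⧸ N) rfl ?_ hqCN
        exact Odd.of_dvd_nat hodd ⟨Nat.card N, hcard⟩
      apply hns
      exact Group.isSolvable_of_ker_le_range N.subtype (QuotientGroup.mk' N) (by
        rw [QuotientGroup.ker_mk', Subgroup.range_subtype])
    have hnc : ¬ IsMulCommutative G := by
      intro hc
      apply hns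
      letI : CommGroup G := { (inferInstance : Group G) with
        mul_comm := fun a b => IsMulCommutative.is_comm.comm a b }
      infer_instance
    exact false_of_minSimple hP ⟨hodd, hsimple, hnc, hsub⟩ hCN

end Cfsg.Agent.H3CN
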