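import Mathlib

set_option autoImplicit false
set_option linter.unusedSectionVars false

namespace Cfsg.Agent.Helper3

open Polynomial

theorem multiset_norm_prod_le_one (R : Multiset ℂ) (h : ∀ β ∈ R, ‖β‖ ≤ 1) : ‖R.prod‖ ≤ 1 := by
  induction R using Multiset.induction_on with
  | empty => simp
  | cons a s ih =>
    rw [Multiset.prod_cons, norm_mul]
    have h1 := h a (Multiset.mem_cons_self a s)
    have h2 := ih (fun β hβ => h β (Multiset.mem_cons_of_mem hβ))
    calc ‖a‖ * ‖s.prod‖ ≤ 1 * 1 := mul_le_mul h1 h2 (norm_nonneg _) zero_le_one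
      _ = 1 := one_mul 1

/-- An algebraic integer all of whose conjugates have absolute value at most one, and which
itself has absolute value less than one, is zero. -/
theorem eq_zero_of_isIntegral_of_conj_le_one (α : ℂ) (hα : IsIntegral ℤ α)
    (hconj : ∀ β : ℂ, aeval β (minpoly ℚ α) = 0 → ‖β‖ ≤ 1) (hlt : ‖α‖ < 1) : α = 0 := by
  classical
  have hαQ : IsIntegral ℚ α := hα.tower_top
  set P := minpoly ℤ α with hP
  have hPQ : minpoly ℚ α = P.map (algebraMap ℤ ℚ) :=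
    minpoly.isIntegrallyClosed_eq_field_fractions' ℚ hα
  have hmonic : P.Monic := minpoly.monic hα
  set PC := P.map (algebraMap ℤ ℂ) with hPC
  have hPCmonic : PC.Monic := hmonic.map _
  have hsplits : PC.Splits := IsAlgClosed.splits PC
  have hcoeff := hsplits.coeff_zero_eq_prod_roots_of_monic hPCmonic
  have hroots : ∀ β ∈ PC.roots, ‖β‖ ≤ 1 := by
    intro β hβ
    apply hconj
    rw [hPQ, aeval_map_algebraMap]
    have := (mem_roots hPCmonic.ne_zero).mp hβ
    rw [IsRoot.def, hPC, eval_map_algebraMap] at this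
    exact this
  have hαroot : α ∈ PC.roots := by
    rw [mem_roots hPCmonic.ne_zero, IsRoot.def, hPC, eval_map_algebraMap]
    exact minpoly.aeval ℤ α
  have hprod : ‖PC.roots.prod‖ < 1 := by
    rw [← Multiset.cons_erase hαroot, Multiset.prod_cons, norm_mul]
    have h2 : ‖(PC.roots.erase α).prod‖ ≤ 1 :=
      multiset_norm_prod_le_one _ (fun β hβ => hroots β (Multiset.mem_of_mem_erase hβ))
    calc ‖α‖ * ‖(PC.roots.erase α).prod‖ ≤ ‖α‖ * 1 :=
          mul_le_mul_of_nonneg_left h2 (norm_nonneg _)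
      _ < 1 := by rw [mul_one]; exact hlt
  have hc0 : PC.coeff 0 = ((P.coeff 0 : ℤ) : ℂ) := by
    rw [hPC, coeff_map]; simp
  have hnorm : ‖((P.coeff 0 : ℤ) : ℂ)‖ < 1 := by
    rw [← hc0, hcoeff, norm_mul, norm_pow, norm_neg, norm_one, one_pow, one_mul]
    exact hprod
  have hz : P.coeff 0 = 0 := by
    have h3 : |((P.coeff 0 : ℤ) : ℝ)| < 1 := by
      have := hnorm
      rwa [Complex.norm_intCast] at this
    have h4 : |P.coeff 0| < 1 := by exact_mod_cast h3
    exact Int.abs_lt_one_iff.mp h4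
  have hQ0 : (minpoly ℚ α).coeff 0 = 0 := by
    rw [hPQ, coeff_map, hz, map_zero]
  exact (minpoly.coeff_zero_eq_zero hαQ).mp hQ0

/-- conjugates of an average of roots of unity have absolute value at most one -/
theorem norm_conj_le_one (s : Finset ℂ) (m : ℕ) (hm : m ≠ 0) (hs : ∀ μ ∈ s, μ ^ m = 1)
    (d : ℂ → ℕ) (n : ℕ) (hn : n ≠ 0) (hsum : ∑ μ ∈ s, d μ = n) (β : ℂ)
    (hβ : aeval β (minpoly ℚ ((∑ μ ∈ s, (d μ : ℂ) * μ) / (n : ℂ))) = 0) : ‖β‖ ≤ 1 := by
  classical
  set S : Set ℂ := {z : ℂ | z ^ m = 1} with hS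
  have hK : ∀ z ∈ S, IsIntegral ℚ z ∧ ((minpoly ℚ z).map (algebraMap ℚ ℂ)).Splits := by
    intro z hz
    refine ⟨?_, IsAlgClosed.splits _⟩
    apply IsIntegral.of_pow (Nat.pos_of_ne_zero hm)
    rw [show z ^ m = 1 from hz]
    exact isIntegral_one
  set L := IntermediateField.adjoin ℚ S with hL
  -- lift elements
  let ν : ℂ → L := fun μ => if h : μ ^ m = 1 then ⟨μ, IntermediateField.subset_adjoin ℚ S h⟩ else 0
  have hν : ∀ μ ∈ s, ((ν μ : L) : ℂ) = μ := by
    intro μ hμ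
    simp only [ν, dif_pos (hs μ hμ)]
  set a : L := (∑ μ ∈ s, (d μ : L) * ν μ) / (n : L) with ha
  have hacoe : ((a : L) : ℂ) = (∑ μ ∈ s, (d μ : ℂ) * μ) / (n : ℂ) := by
    rw [ha]
    push_cast
    congr 1
    apply Finset.sum_congr rfl
    intro μ hμ
    rw [hν μ hμ]
  have hx : (∑ μ ∈ s, (d μ : ℂ) * μ) / (n : ℂ) ∈ L := by
    rw [← hacoe]; exact a.2
  obtain ⟨φ, hφ⟩ := IntermediateField.exists_algHom_adjoin_of_splits_of_aeval hK hx hβ
  have hφa : φ a = β := by
    rw [← hφ]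
    congr 1
    exact Subtype.ext hacoe
  have hφν : ∀ μ ∈ s, ‖φ (ν μ)‖ = 1 := by
    intro μ hμ
    have h1 : (ν μ) ^ m = 1 := by
      apply Subtype.ext
      push_cast
      rw [hν μ hμ, hs μ hμ]
    have h2 : (φ (ν μ)) ^ m = 1 := by rw [← map_pow, h1, map_one]
    exact Complex.norm_eq_one_of_pow_eq_one h2 hm
  rw [← hφa, ha, map_div₀, map_sum, map_natCast, norm_div]
  have hnpos : (0 : ℝ) < n := by exact_mod_cast Nat.pos_of_ne_zero hn
  rw [Complex.norm_natCast, div_le_one hnpos]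
  calc ‖∑ μ ∈ s, φ ((d μ : L) * ν μ)‖ ≤ ∑ μ ∈ s, ‖φ ((d μ : L) * ν μ)‖ := norm_sum_le _ _
    _ = ∑ μ ∈ s, (d μ : ℝ) := by
        apply Finset.sum_congr rfl
        intro μ hμ
        rw [map_mul, map_natCast, norm_mul, hφν μ hμ, mul_one, Complex.norm_natCast]
    _ = n := by exact_mod_cast hsum

end Cfsg.Agent.Helper3
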