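import Mathlib
import Cfsg.Prelude.Def_Characters
import Cfsg.Agent.Lib.Helper3.CharIntegral
import Cfsg.Agent.Lib.Helper3.RootsSum
import Cfsg.Agent.Lib.Helper3.CharDecomp

set_option autoImplicit false
set_option linter.unusedSectionVars false

namespace Cfsg.Agent.Helper3

open Module Representation

theorem isIntegral_intCast (a : ℤ) : IsIntegral ℤ (a : ℂ) := by
  have := isIntegral_algebraMap (R := ℤ) (A := ℂ) (x := a)
  simpa using this

section Coprime

open scoped ComplexConjugate

universe u
variable {G : Type u} [Group G] [Fintype G]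
variable {V : Type*} [AddCommGroup V] [Module ℂ V] [FiniteDimensional ℂ V]

/-- `χ(g)/χ(1)` is zero or has norm one if it is an algebraic integer. -/
theorem char_eq_zero_or_norm_eq_of_isIntegral_div (ρ : Representation ℂ G V) (g : G)
    (hn : finrank ℂ V ≠ 0)
    (hint : IsIntegral ℤ (ρ.character g / (finrank ℂ V : ℂ))) :
    ρ.character g = 0 ∨ ‖ρ.character g‖ = (finrank ℂ V : ℝ) := by
  set n := finrank ℂ V with hndef
  have hnC : (n : ℂ) ≠ 0 := by exact_mod_cast hn
  have hnR : (0 : ℝ) < n := by exact_mod_cast Nat.pos_of_ne_zero hn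
  have hfin := finite_mult_support ρ g
  have hchar : ρ.character g = ∑ μ ∈ hfin.toFinset, (mult ρ g μ : ℂ) * μ := by
    rw [char_eq_finsum, finsum_eq_sum_of_support_subset (s := hfin.toFinset)]
    · apply Finset.sum_congr rfl; intro μ _; ring
    · intro μ hμ
      simp only [Function.mem_support, ne_eq, mul_eq_zero, not_or] at hμ
      simpa using hμ.2
  have hnsum : ∑ μ ∈ hfin.toFinset, mult ρ g μ = n := by
    have := finrank_eq_finsum ρ g
    rw [finsum_eq_sum_of_support_subset (s := hfin.toFinset)] at this
    · exact_mod_cast this.symm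
    · intro μ hμ
      simpa using hμ
  have hle : ‖ρ.character g / (n : ℂ)‖ ≤ 1 := by
    rw [norm_div, Complex.norm_natCast, div_le_one hnR]
    exact norm_char_le ρ g
  rcases lt_or_eq_of_le hle with hlt | heq
  · left
    have h0 := eq_zero_of_isIntegral_of_conj_le_one _ hint (by
      intro β hβ
      rw [hchar] at hβ
      exact norm_conj_le_one hfin.toFinset (orderOf g) (orderOf_pos g).ne' (by
        intro μ hμ
        have hm : mult ρ g μ ≠ 0 := by simpa using hμ
        exact eigenvalue_pow_of_mult_ne_zero ρ g μ hm) (mult ρ g) n hn hnsum β hβ) hlt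
    rcases div_eq_zero_iff.mp h0 with h | h
    · exact h
    · exact absurd h hnC
  · right
    rw [norm_div, Complex.norm_natCast, div_eq_one_iff_eq hnR.ne'] at heq
    exact heq

theorem char_eq_zero_or_norm_eq_of_coprime (ρ : Representation ℂ G V) [ρ.IsIrreducible] (g : G)
    (hcop : Nat.Coprime (finrank ℂ V) (Subgroup.centralizer ({g} : Set G)).index) :
    ρ.character g = 0 ∨ ‖ρ.character g‖ = (finrank ℂ V : ℝ) := by
  have hV := nontrivial_of_irr ρ
  have hn : finrank ℂ V ≠ 0 := (Module.finrank_pos (R := ℂ) (M := V)).ne'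
  apply char_eq_zero_or_norm_eq_of_isIntegral_div ρ g hn
  have hnC : (finrank ℂ V : ℂ) ≠ 0 := by exact_mod_cast hn
  obtain ⟨a, b, hab⟩ := (Nat.isCoprime_iff_coprime.mpr hcop)
  have h1 := isIntegral_class_mul_char_div ρ g
  have h2 := char_isIntegral ρ g
  have : ρ.character g / (finrank ℂ V : ℂ) = (a : ℂ) * ρ.character g
      + (b : ℂ) * (((Subgroup.centralizer ({g} : Set G)).index : ℂ) * ρ.character g
        / (finrank ℂ V : ℂ)) := by
    have hab' : (a : ℂ) * (finrank ℂ V : ℂ)
        + (b : ℂ) * ((Subgroup.centralizer ({g} : Set G)).index : ℂ) = 1 := by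
      exact_mod_cast hab
    field_simp
    linear_combination (-(ρ.character g)) * hab'
  rw [this]
  apply IsIntegral.add
  · exact IsIntegral.mul (isIntegral_intCast a) h2
  · exact IsIntegral.mul (isIntegral_intCast b) h1

end Coprime

section Simple

open scoped ComplexConjugate

universe u
variable {G : Type u} [Group G] [Fintype G]

/-- the key step in Burnside's argument -/
theorem burnside_key [IsSimpleGroup G] (hab : ¬ ∀ a b : G, a * b = b * a)
    (p k : ℕ) (hp : p.Prime) (g : G) (hg : g ≠ 1)
    (hclass : (Subgroup.centralizer ({g} : Set G)).index = p ^ k)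
    (χ : Cfsg.IrrCharacter G) (hχ1 : (χ : G → ℂ) ≠ fun _ => (1 : ℂ)) :
    ∃ β : ℂ, IsIntegral ℤ β ∧ (χ : G → ℂ) 1 * (χ : G → ℂ) g = (p : ℂ) * β := by
  obtain ⟨n, ρ, hirr, hχ⟩ := χ.2
  have hV := nontrivial_of_irr ρ
  have hfr : finrank ℂ (Fin n → ℂ) = n := by simp
  have hn0 : n ≠ 0 := by
    rw [← hfr]; exact (Module.finrank_pos (R := ℂ) (M := Fin n → ℂ)).ne'
  have h1 : (χ : G → ℂ) 1 = (n : ℂ) := by rw [← hχ, Representation.char_one, hfr]
  by_cases hpn : p ∣ n
  · obtain ⟨m, rfl⟩ := hpn
    refine ⟨(m : ℂ) * (χ : G → ℂ) g, ?_, ?_⟩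
    · apply IsIntegral.mul
      · exact_mod_cast isIntegral_intCast (m : ℤ)
      · rw [← hχ]; exact char_isIntegral ρ g
    · rw [h1]; push_cast; ring
  · have hcop : Nat.Coprime (finrank ℂ (Fin n → ℂ))
        (Subgroup.centralizer ({g} : Set G)).index := by
      rw [hfr, hclass]
      apply Nat.Coprime.pow_right
      exact (Nat.Coprime.symm ((Nat.Prime.coprime_iff_not_dvd hp).mpr hpn))
    rcases char_eq_zero_or_norm_eq_of_coprime ρ g hcop with h0 | hnorm
    · refine ⟨0, isIntegral_zero, ?_⟩
      rw [← hχ, h0]; simp
    · exfalso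
      obtain ⟨ω, hω⟩ := (norm_char_eq_iff ρ g).mp hnorm
      have hker := (MonoidHom.normal_ker ρ).eq_bot_or_eq_top
      rcases hker with hbot | htop
      · -- ρ injective, so g is central
        have hinj : Function.Injective ρ := (MonoidHom.ker_eq_bot_iff ρ).mp hbot
        have hgc : g ∈ Subgroup.center G := by
          rw [Subgroup.mem_center_iff]
          intro y
          apply hinj
          rw [map_mul, map_mul, hω]
          ext v
          simp
        rcases (Subgroup.normal_of_characteristic (Subgroup.center G)).eq_bot_or_eq_top with hc | hc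
        · rw [hc, Subgroup.mem_bot] at hgc
          exact hg hgc
        · apply hab
          intro a b
          have : a ∈ Subgroup.center G := by rw [hc]; exact Subgroup.mem_top a
          rw [Subgroup.mem_center_iff] at this
          exact (this b).symm
      · -- ρ trivial: character is constant n, so not orthogonal to the trivial character
        have hconst : ∀ x : G, (χ : G → ℂ) x = (n : ℂ) := by
          intro x
          have hx : x ∈ MonoidHom.ker ρ := by rw [htop]; exact Subgroup.mem_top x
          rw [MonoidHom.mem_ker] at hx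
          rw [← hχ]
          unfold Representation.character
          rw [hx, LinearMap.trace_one, hfr]
        have horth := classInner_irr_ne χ.2 (isIrrCharacter_one (G := G)) hχ1
        unfold Cfsg.classInner at horth
        simp only [hconst, map_one, mul_one, Finset.sum_const, Finset.card_univ,
          nsmul_eq_mul] at horth
        rw [Nat.card_eq_fintype_card] at horth
        have hG : (Fintype.card G : ℂ) ≠ 0 := by exact_mod_cast Fintype.card_ne_zero
        have hnC : (n : ℂ) ≠ 0 := by exact_mod_cast hn0
        rw [← mul_assoc, inv_mul_cancel₀ hG, one_mul] at horth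
        exact hnC horth

theorem prime_card_of_simple_of_prime_power_class [IsSimpleGroup G]
    (p k : ℕ) (hp : p.Prime) (g : G) (hg : g ≠ 1)
    (hclass : (Subgroup.centralizer ({g} : Set G)).index = p ^ k) : (Nat.card G).Prime := by
  classical
  by_cases hab : ∀ a b : G, a * b = b * a
  · let inst : CommGroup G := { (inferInstance : Group G) with mul_comm := hab }
    exact @IsSimpleGroup.prime_card G inst ‹_›
  · exfalso
    -- choose the β's
    have hkey := fun (χ : Cfsg.IrrCharacter G) (h : (χ : G → ℂ) ≠ fun _ => (1 : ℂ)) =>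
      burnside_key hab p k hp g hg hclass χ h
    let β : Cfsg.IrrCharacter G → ℂ := fun χ =>
      if h : (χ : G → ℂ) ≠ fun _ => (1 : ℂ) then (hkey χ h).choose else 0
    have hβint : ∀ χ, IsIntegral ℤ (β χ) := by
      intro χ
      simp only [β]
      split_ifs with h
      · exact (hkey χ h).choose_spec.1
      · exact isIntegral_zero
    have hβeq : ∀ χ : Cfsg.IrrCharacter G, (χ : G → ℂ) ≠ (fun _ => (1 : ℂ)) →
        (χ : G → ℂ) 1 * (χ : G → ℂ) g = (p : ℂ) * β χ := by
      intro χ h
      simp only [β, dif_pos h]
      exact (hkey χ h).choose_spec.2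
    let triv : Cfsg.IrrCharacter G := ⟨fun _ => (1 : ℂ), isIrrCharacter_one⟩
    have hreg := congrFun (regular_character_eq_sum (G := G)) g
    rw [regular_character_apply, if_neg hg, Finset.sum_apply] at hreg
    simp only [Pi.smul_apply, smul_eq_mul] at hreg
    rw [← Finset.add_sum_erase Finset.univ _ (Finset.mem_univ triv)] at hreg
    have htriv : (triv : G → ℂ) 1 * (triv : G → ℂ) g = 1 := by simp [triv]
    rw [htriv] at hreg
    have hrest : ∑ χ ∈ Finset.univ.erase triv, (χ : G → ℂ) 1 * (χ : G → ℂ) g
        = (p : ℂ) * ∑ χ ∈ Finset.univ.erase triv, β χ := by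
      rw [Finset.mul_sum]
      apply Finset.sum_congr rfl
      intro χ hχ
      apply hβeq
      intro h
      apply (Finset.mem_erase.mp hχ).1
      exact Subtype.ext h
    rw [hrest] at hreg
    have hB : IsIntegral ℤ (∑ χ ∈ Finset.univ.erase triv, β χ) :=
      IsIntegral.sum _ (fun χ _ => hβint χ)
    set B := ∑ χ ∈ Finset.univ.erase triv, β χ with hBdef
    have hpC : (p : ℂ) ≠ 0 := by exact_mod_cast hp.ne_zero
    have hB' : B = -((1 : ℕ) : ℂ) / (p : ℂ) := by
      field_simp
      push_cast
      linear_combination -hreg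
    have h1p : IsIntegral ℤ (((1 : ℕ) : ℂ) / (p : ℂ)) := by
      have : ((1 : ℕ) : ℂ) / (p : ℂ) = -B := by rw [hB']; ring
      rw [this]; exact hB.neg
    have := rat_of_isIntegral_natCast_div 1 p hp.ne_zero h1p
    exact hp.one_lt.ne' (Nat.dvd_one.mp this)

end Simple

section PaQb

universe u

theorem dvd_prime_pow_mul_prime_pow {p q a b d : ℕ} (hp : p.Prime) (hq : q.Prime)
    (h : d ∣ p ^ a * q ^ b) : ∃ i j, d = p ^ i * q ^ j := by
  obtain ⟨y, z, hy, hz, rfl⟩ := (Nat.dvd_mul).mp h
  obtain ⟨i, _, rfl⟩ := (Nat.dvd_prime_pow hp).mp hy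
  obtain ⟨j, _, rfl⟩ := (Nat.dvd_prime_pow hq).mp hz
  exact ⟨i, j, rfl⟩

theorem burnside_paqb_aux (p q : ℕ) (hp : p.Prime) (hq : q.Prime) :
    ∀ (n : ℕ) (G : Type u) [Group G] [Finite G], Nat.card G = n →
      (∃ a b, n = p ^ a * q ^ b) → Group.IsSolvable G := by
  intro n
  induction n using Nat.strong_induction_on with
  | _ n ih =>
    intro G _ _ hcard ⟨a, b, hab⟩
    have := Fintype.ofFinite G
    by_cases hsimple : IsSimpleGroup G
    · -- simple case
      have := hsimple
      have : Fact p.Prime := ⟨hp⟩
      have : Fact q.Prime := ⟨hq⟩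
      by_cases hpq : p = q
      · have hG : IsPGroup p G := IsPGroup.of_card (n := a + b) (by rw [hcard, hab, hpq, pow_add])
        have := hG.isNilpotent
        infer_instance
      by_cases hb : b = 0
      · have hG : IsPGroup p G := IsPGroup.of_card (n := a) (by rw [hcard, hab, hb]; simp)
        have := hG.isNilpotent
        infer_instance
      -- Sylow q-subgroup
      obtain Q : Sylow q G := default
      have hqdvd : q ∣ Nat.card G := by
        rw [hcard, hab]
        exact Dvd.dvd.mul_left (dvd_pow_self q hb) _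
      have hQnt : Nontrivial Q := by
        have hQcard := Q.card_eq_multiplicity
        have hfac : 0 < (Nat.card G).factorization q :=
          (hq.factorization_pos_of_dvd Nat.card_pos.ne' hqdvd)
        rw [← Finite.one_lt_card_iff_nontrivial]
        change 1 < Nat.card (Q : Subgroup G)
        rw [hQcard]
        exact Nat.one_lt_pow hfac.ne' hq.one_lt
      have hcn := (Q.isPGroup').center_nontrivial
      obtain ⟨z, hz⟩ := exists_ne (1 : Subgroup.center Q)
      set g : G := ((z : Q) : G) with hgdef
      have hg1 : g ≠ 1 := by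
        intro h
        apply hz
        apply Subtype.ext
        apply Subtype.ext
        exact h
      have hQle : (Q : Subgroup G) ≤ Subgroup.centralizer ({g} : Set G) := by
        intro x hx
        rw [Subgroup.mem_centralizer_iff]
        intro y hy
        rw [Set.mem_singleton_iff] at hy
        subst hy
        have hzc := z.2
        rw [Subgroup.mem_center_iff] at hzc
        have := hzc ⟨x, hx⟩
        have h2 := congrArg (Subtype.val : Q → G) this
        simpa [hgdef] using h2.symm
      have hidx : (Subgroup.centralizer ({g} : Set G)).index ∣ (Q : Subgroup G).index :=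
        Subgroup.index_dvd_of_le hQle
      have hQidx : (Q : Subgroup G).index ∣ p ^ a := by
        have h1 : (Q : Subgroup G).index ∣ p ^ a * q ^ b := by
          rw [← hab, ← hcard]; exact Subgroup.index_dvd_card _
        have hcop : Nat.Coprime ((Q : Subgroup G).index) (q ^ b) := by
          apply Nat.Coprime.pow_right
          exact (Nat.Coprime.symm ((Nat.Prime.coprime_iff_not_dvd hq).mpr Q.not_dvd_index))
        exact hcop.dvd_of_dvd_mul_right h1
      obtain ⟨k, _, hk⟩ := (Nat.dvd_prime_pow hp).mp (hidx.trans hQidx)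
      have hprime := prime_card_of_simple_of_prime_power_class p k hp g hg1 hk
      have : Fact (Nat.card G).Prime := ⟨hprime⟩
      have hcyc : IsCyclic G := isCyclic_of_prime_card rfl
      exact Group.isSolvable_of_comm (fun a b => hcyc.isMulCommutative.is_comm.comm a b)
    · -- non-simple case
      by_cases htriv : Subsingleton G
      · infer_instance
      rw [not_subsingleton_iff_nontrivial] at htriv
      have : ∃ N : Subgroup G, N.Normal ∧ N ≠ ⊥ ∧ N ≠ ⊤ := by
        by_contra hcon
        apply hsimple
        refine ⟨fun H hH => ?_⟩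
        by_contra h
        push Not at h
        exact hcon ⟨H, hH, h.1, h.2⟩
      obtain ⟨N, hN, hNbot, hNtop⟩ := this
      have := hN
      rw [Group.isSolvable_iff_subgroup_quotient N]
      have hNcard : Nat.card N ∣ n := hcard ▸ Subgroup.card_subgroup_dvd_card N
      have hQcard : Nat.card (G ⧸ N) ∣ n := hcard ▸ Subgroup.card_quotient_dvd_card N
      have hmul : Nat.card N * Nat.card (G ⧸ N) = n := by
        rw [← hcard, mul_comm]
        exact (Subgroup.card_eq_card_quotient_mul_card_subgroup N).symm
      have hN1 : 1 < Nat.card N := by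
        rw [Finite.one_lt_card_iff_nontrivial]
        exact (Subgroup.nontrivial_iff_ne_bot N).mpr hNbot
      have hQ1 : 1 < Nat.card (G ⧸ N) := by
        have h1 : Nat.card (G ⧸ N) ≠ 1 := by
          intro h
          exact hNtop (Subgroup.index_eq_one.mp h)
        have h0 : 0 < Nat.card (G ⧸ N) := Nat.card_pos
        omega
      have hnpos : 0 < n := hcard ▸ Nat.card_pos
      have hNlt : Nat.card N < n := by nlinarith
      have hQlt : Nat.card (G ⧸ N) < n := by nlinarith
      constructor
      · exact ih _ hNlt N rfl (dvd_prime_pow_mul_prime_pow hp hq (hab ▸ hNcard))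
      · exact ih _ hQlt (G ⧸ N) rfl (dvd_prime_pow_mul_prime_pow hp hq (hab ▸ hQcard))

theorem burnside_paqb {G : Type u} [Group G] [Finite G] (p q a b : ℕ) (hp : p.Prime) (hq : q.Prime)
    (hcard : Nat.card G = p ^ a * q ^ b) : Group.IsSolvable G :=
  burnside_paqb_aux p q hp hq _ G rfl ⟨a, b, hcard⟩

end PaQb

end Cfsg.Agent.Helper3
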