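import Mathlib
import Cfsg.Prelude.Def_Characters
import Cfsg.Agent.Lib.Helper3.CharOrtho
import Cfsg.Agent.Lib.Helper75.CharGalois

set_option autoImplicit false
set_option linter.unusedSectionVars false

namespace Cfsg.Agent.Helper3

open Polynomial

/-- if a polynomial expression in a primitive root takes the same value on all primitive roots,
that value is rational -/
theorem rational_of_aeval_primitiveRoots_const (N : ℕ) (hN : 0 < N) (ζ : ℂ)
    (hζ : IsPrimitiveRoot ζ N) (F : ℤ[X])
    (h : ∀ η : ℂ, IsPrimitiveRoot η N → aeval η F = aeval ζ F) :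
    ∃ q : ℚ, aeval ζ F = (q : ℂ) := by
  classical
  set α : ℂ := aeval ζ F with hα
  have hζint : IsIntegral ℤ ζ := hζ.isIntegral hN
  have hαint : IsIntegral ℤ α := by
    rw [hα]
    exact IsIntegral.of_mem_of_fg _ ((hζint.fg_adjoin_singleton)) _
      (aeval_mem_adjoin_singleton _ _)
  have hαQ : IsIntegral ℚ α := hαint.tower_top
  set S : Set ℂ := {ζ} with hS
  have hK : ∀ z ∈ S, IsIntegral ℚ z ∧ ((minpoly ℚ z).map (algebraMap ℚ ℂ)).Splits := by
    intro z hz
    rw [hS, Set.mem_singleton_iff] at hz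
    subst hz
    exact ⟨hζint.tower_top, IsAlgClosed.splits _⟩
  set L := IntermediateField.adjoin ℚ S with hL
  let ζ' : L := ⟨ζ, IntermediateField.subset_adjoin ℚ S (Set.mem_singleton ζ)⟩
  let ι : L →ₐ[ℤ] ℂ := (L.val.toRingHom).toIntAlgHom
  have hιζ : ι ζ' = ζ := rfl
  set a : L := aeval ζ' F with ha
  have hacoe : ((a : L) : ℂ) = α := by
    have := aeval_algHom_apply ι ζ' F
    rw [hιζ] at this
    rw [hα, this]; rfl
  have hx : α ∈ L := by rw [← hacoe]; exact a.2
  have hζ' : IsPrimitiveRoot ζ' N :=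
    IsPrimitiveRoot.of_map_of_injective (f := L.val) hζ L.val.injective
  -- all roots of the minimal polynomial are α
  have hroots : ∀ β : ℂ, aeval β (minpoly ℚ α) = 0 → β = α := by
    intro β hβ
    obtain ⟨φ, hφ⟩ := IntermediateField.exists_algHom_adjoin_of_splits_of_aeval hK hx hβ
    have hφa : φ a = β := by
      rw [← hφ]; congr 1; exact Subtype.ext hacoe
    have hη : IsPrimitiveRoot (φ ζ') N := hζ'.map_of_injective φ.injective
    have h1 := h (φ ζ') hη
    let φ' : L →ₐ[ℤ] ℂ := (φ.toRingHom).toIntAlgHom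
    have h2 := aeval_algHom_apply φ' ζ' F
    have h3 : φ' ζ' = φ ζ' := rfl
    have h4 : φ' (aeval ζ' F) = φ a := rfl
    rw [h3, h4, hφa] at h2
    rw [← h2, h1]
  -- hence the minimal polynomial has degree one
  set p := minpoly ℚ α with hp
  set pC := p.map (algebraMap ℚ ℂ) with hpC
  have hirr : Irreducible p := minpoly.irreducible hαQ
  have hsep : pC.Separable := hirr.separable.map
  have hsplits : pC.Splits := IsAlgClosed.splits pC
  have hnodup : pC.roots.Nodup := nodup_roots hsep
  have hpC0 : pC ≠ 0 := (Polynomial.map_ne_zero (minpoly.ne_zero hαQ))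
  have hsub : ∀ β ∈ pC.roots, β = α := by
    intro β hβ
    apply hroots
    have := (mem_roots hpC0).mp hβ
    rw [IsRoot.def, hpC, eval_map_algebraMap] at this
    exact this
  have hcard : pC.roots.card ≤ 1 := by
    have : pC.roots ≤ {α} := by
      rw [Multiset.le_iff_subset hnodup]
      intro β hβ
      rw [Multiset.mem_singleton]
      exact hsub β hβ
    simpa using Multiset.card_le_card this
  have hdeg : p.natDegree = 1 := by
    have h1 : pC.natDegree = pC.roots.card := hsplits.natDegree_eq_card_roots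
    have h2 : pC.natDegree = p.natDegree := natDegree_map _
    have h3 : 0 < p.natDegree := minpoly.natDegree_pos hαQ
    omega
  obtain ⟨q, hq⟩ := minpoly.natDegree_eq_one_iff.mp hdeg
  exact ⟨q, hq.symm⟩

section Rational

universe u
variable {G : Type u} [Group G] [Fintype G]

theorem rational_iff_coprime_powers_conj :
    (∀ χ : Cfsg.IrrCharacter G, ∀ g : G, ∃ q : ℚ, (χ : G → ℂ) g = (q : ℂ)) ↔
      ∀ m : ℕ, m.Coprime (Nat.card G) → ∀ g : G, IsConj g (g ^ m) := by
  have hN : 0 < Nat.card G := Nat.card_pos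
  obtain ⟨ζ, hζ⟩ := Cfsg.Agent.Helper75.exists_primitiveRoot_card G
  constructor
  · intro hrat m hm g
    rw [isConj_iff_forall_irr]
    intro χ
    obtain ⟨n, ρ, hirr, hχ⟩ := χ.2
    obtain ⟨F, -, hF⟩ := Cfsg.Agent.Helper75.exists_poly ρ g (Nat.card G) hN pow_card_eq_one' ζ hζ
    obtain ⟨q, hq⟩ := hrat χ g
    have h1 := hF 1
    rw [pow_one, pow_one, hχ, hq] at h1
    have hm' := hF m
    rw [hχ] at hm'
    set P : ℤ[X] := C (q.den : ℤ) * F - C q.num with hP
    have hden : ((q.den : ℤ) : ℂ) ≠ 0 := by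
      have := q.den_ne_zero
      exact_mod_cast this
    have hqeq : (q : ℂ) = (q.num : ℂ) / (q.den : ℂ) := by
      have := Rat.num_div_den q
      conv_lhs => rw [← this]
      push_cast; rfl
    have hP1 : aeval ζ P = 0 := by
      rw [hP, map_sub, map_mul, aeval_C, aeval_C, ← h1, hqeq]
      simp only [eq_intCast, Int.cast_natCast]
      have : (q.den : ℂ) ≠ 0 := by exact_mod_cast q.den_ne_zero
      field_simp
      ring
    have hPm : aeval (ζ ^ m) P = 0 :=
      (Cfsg.Agent.Helper75.aeval_primitiveRoot_eq_zero_iff (Nat.card G) hN ζ (ζ ^ m) hζ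
        (hζ.pow_of_coprime m hm) P).mp hP1
    rw [hP, map_sub, map_mul, aeval_C, aeval_C, ← hm'] at hPm
    simp only [eq_intCast, Int.cast_natCast] at hPm
    rw [hq, hqeq]
    have : (q.den : ℂ) ≠ 0 := by exact_mod_cast q.den_ne_zero
    field_simp
    linear_combination -hPm
  · intro hconj χ g
    obtain ⟨n, ρ, hirr, hχ⟩ := χ.2
    obtain ⟨F, -, hF⟩ := Cfsg.Agent.Helper75.exists_poly ρ g (Nat.card G) hN pow_card_eq_one' ζ hζ
    have h1 := hF 1
    rw [pow_one, pow_one, hχ] at h1
    rw [h1]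
    apply rational_of_aeval_primitiveRoots_const (Nat.card G) hN ζ hζ F
    intro η hη
    obtain ⟨i, _, hi⟩ := hζ.eq_pow_of_pow_eq_one hη.pow_eq_one
    have hcop : i.Coprime (Nat.card G) := by
      rw [← hζ.pow_iff_coprime hN i, hi]; exact hη
    rw [← hi, ← hF i, ← h1, hχ]
    obtain ⟨c, hc⟩ := isConj_iff.mp (hconj i hcop g)
    rw [← hc]
    exact isClassFunction_of_isIrrCharacter χ.2 g c

end Rational

end Cfsg.Agent.Helper3
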