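import Mathlib
import Cfsg.Agent.Lib.Helper67.ClassSize

set_option autoImplicit false

/-!
# Cossey–Hawkes–Mann: a finite group with the class sizes of a nilpotent group is nilpotent
-/

namespace Cfsg.Agent.Helper3

open Subgroup

/-- class size of an element: the index of its centralizer. -/
noncomputable def csn_cs {G : Type*} [Group G] (x : G) : ℕ :=
  (Subgroup.centralizer ({x} : Set G)).index

theorem csn_card_carrier {G : Type*} [Group G] (x : G) :
    Nat.card (ConjClasses.mk x).carrier = csn_cs x := by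
  rw [Nat.card_coe_set_eq, Cfsg.Agent.Helper67.ncard_carrier_eq_index]
  rfl

/-- A bijection preserving class sizes, from equality of the class-size multisets. -/
theorem csn_exists_equiv {G H : Type*} [Group G] [Finite G] [Group H] [Finite H]
    (h : ∀ k : ℕ, Nat.card {C : ConjClasses G // Nat.card C.carrier = k}
      = Nat.card {C : ConjClasses H // Nat.card C.carrier = k}) :
    ∃ e : G ≃ H, ∀ x, csn_cs (e x) = csn_cs x := by
  classical
  -- bijection of classes
  have hk : ∀ k : ℕ, Nonempty ({C : ConjClasses G // Nat.card C.carrier = k}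
      ≃ {C : ConjClasses H // Nat.card C.carrier = k}) := fun k => Finite.card_eq.1 (h k)
  let ek := fun k => Classical.choice (hk k)
  let σ : ConjClasses G ≃ ConjClasses H :=
    ((Equiv.sigmaFiberEquiv (fun C : ConjClasses G => Nat.card C.carrier)).symm.trans
      (Equiv.sigmaCongrRight ek)).trans
      (Equiv.sigmaFiberEquiv (fun C : ConjClasses H => Nat.card C.carrier))
  have hσ : ∀ C : ConjClasses G, Nat.card (σ C).carrier = Nat.card C.carrier := by
    intro C
    have : σ C = ((ek (Nat.card C.carrier)) ⟨C, rfl⟩ : ConjClasses H) := rfl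
    rw [this]
    exact ((ek (Nat.card C.carrier)) ⟨C, rfl⟩).2
  -- fibres
  have hfib : ∀ C : ConjClasses G, Nonempty ({x : G // ConjClasses.mk x = C}
      ≃ {y : H // ConjClasses.mk y = σ C}) := by
    intro C
    apply Finite.card_eq.1
    have h1 : Nat.card {x : G // ConjClasses.mk x = C} = Nat.card C.carrier :=
      Nat.card_congr (Equiv.subtypeEquivRight (fun x => ConjClasses.mem_carrier_iff_mk_eq.symm))
    have h2 : Nat.card {y : H // ConjClasses.mk y = σ C} = Nat.card (σ C).carrier :=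
      Nat.card_congr (Equiv.subtypeEquivRight (fun x => ConjClasses.mem_carrier_iff_mk_eq.symm))
    rw [h1, h2, hσ]
  let ef := fun C => Classical.choice (hfib C)
  let e : G ≃ H :=
    ((Equiv.sigmaFiberEquiv (ConjClasses.mk : G → ConjClasses G)).symm.trans
      (Equiv.sigmaCongr σ ef)).trans
      (Equiv.sigmaFiberEquiv (ConjClasses.mk : H → ConjClasses H))
  refine ⟨e, fun x => ?_⟩
  have h1 : e x = ((ef (ConjClasses.mk x)) ⟨x, rfl⟩ : H) := rfl
  have h2 : ConjClasses.mk (e x) = σ (ConjClasses.mk x) := by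
    rw [h1]; exact ((ef (ConjClasses.mk x)) ⟨x, rfl⟩).2
  rw [← csn_card_carrier, ← csn_card_carrier, h2, hσ]

/-- elements whose class size is prime to `p`. -/
def csn_K (p : ℕ) (G : Type*) [Group G] : Set G := {x | ¬ p ∣ csn_cs x}

theorem csn_mem_K {p : ℕ} {G : Type*} [Group G] (x : G) : x ∈ csn_K p G ↔ ¬ p ∣ csn_cs x := Iff.rfl

theorem csn_cs_eq_one_iff {G : Type*} [Group G] (x : G) : csn_cs x = 1 ↔ x ∈ Subgroup.center G := by
  unfold csn_cs
  rw [Subgroup.index_eq_one, Subgroup.centralizer_eq_top_iff_subset, Set.singleton_subset_iff]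
  rfl

theorem csn_card_center {G : Type*} [Group G] :
    Nat.card (Subgroup.center G) = Nat.card {x : G // csn_cs x = 1} :=
  Nat.card_congr (Equiv.subtypeEquivRight (fun x => (csn_cs_eq_one_iff x).symm))

theorem csn_transfer {G H : Type*} [Group G] [Group H] (e : G ≃ H)
    (he : ∀ x, csn_cs (e x) = csn_cs x) (p : ℕ) :
    Nat.card G = Nat.card H ∧ Nat.card (Subgroup.center G) = Nat.card (Subgroup.center H) ∧
      (csn_K p G).ncard = (csn_K p H).ncard := by
  refine ⟨Nat.card_congr e, ?_, ?_⟩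
  · rw [csn_card_center, csn_card_center]
    exact Nat.card_congr (e.subtypeEquiv (fun x => by rw [he]))
  · rw [← Nat.card_coe_set_eq, ← Nat.card_coe_set_eq]
    exact Nat.card_congr (e.subtypeEquiv (fun x => by rw [csn_mem_K, csn_mem_K, he]))

theorem csn_eq_top_of_forall_sylow_le {H : Type*} [Group H] [Finite H] (K : Subgroup H)
    (h : ∀ (q : ℕ) [Fact q.Prime], ∃ Q : Sylow q H, (Q : Subgroup H) ≤ K) : K = ⊤ := by
  rw [← Subgroup.index_eq_one, Nat.eq_one_iff_not_exists_prime_dvd]
  intro q hq hdvd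
  have : Fact q.Prime := ⟨hq⟩
  obtain ⟨Q, hQ⟩ := h q
  exact Q.not_dvd_index (dvd_trans hdvd (Subgroup.index_dvd_of_le hQ))

theorem csn_ordProj_eq {p k m : ℕ} (hp : p.Prime) (hm : ¬ p ∣ m) :
    p ^ ((p ^ k * m).factorization p) = p ^ k := by
  have hm0 : m ≠ 0 := by rintro rfl; exact hm (dvd_zero p)
  have hpk : p ^ k ≠ 0 := pow_ne_zero _ hp.ne_zero
  rw [Nat.factorization_mul hpk hm0, Finsupp.add_apply, hp.factorization_pow,
    Nat.factorization_eq_zero_of_not_dvd hm]
  simp

/-- In a group with a normal Sylow `p`-subgroup `P`, `P ⊓ K` has order the `p`-part of `|K|`. -/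
theorem csn_card_inf_normal_sylow {H : Type*} [Group H] [Finite H] {p : ℕ} [Fact p.Prime]
    (P : Sylow p H) (hP : (P : Subgroup H).Normal) (K : Subgroup H) :
    Nat.card ((P : Subgroup H) ⊓ K : Subgroup H) = p ^ ((Nat.card K).factorization p) := by
  have hp : p.Prime := Fact.out
  have h1 : Nat.card ((P : Subgroup H) ⊓ K : Subgroup H) * (P : Subgroup H).relIndex K
      = Nat.card K := by
    rw [← Subgroup.relIndex_bot_left, ← Subgroup.inf_relIndex_right (P : Subgroup H) K,
      Subgroup.relIndex_mul_relIndex _ _ _ bot_le inf_le_right, Subgroup.relIndex_bot_left]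
  have h2 : ¬ p ∣ (P : Subgroup H).relIndex K := fun hd =>
    P.not_dvd_index (dvd_trans hd (Subgroup.relIndex_dvd_index_of_normal _ K))
  have h3 : IsPGroup p ((P : Subgroup H) ⊓ K : Subgroup H) := P.isPGroup'.to_le inf_le_left
  obtain ⟨k, hk⟩ := h3.exists_card_eq
  rw [← h1, hk, csn_ordProj_eq hp h2]

theorem csn_sylow_index {H : Type*} [Group H] [Finite H] {p : ℕ} [Fact p.Prime] (P : Sylow p H) :
    (P : Subgroup H).index = Nat.card H / p ^ ((Nat.card H).factorization p) := by
  have hp : p.Prime := Fact.out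
  have h1 := Subgroup.card_mul_index (P : Subgroup H)
  rw [P.card_eq_multiplicity] at h1
  exact (Nat.div_eq_of_eq_mul_right (pow_pos hp.pos _) h1.symm).symm

/-- **Lemma N**: the count of `p'`-class-size elements in a nilpotent group. -/
theorem csn_nilpotent_count {H : Type*} [Group H] [Finite H] (hH : Group.IsNilpotent H)
    (p : ℕ) [Fact p.Prime] :
    (csn_K p H).ncard = p ^ ((Nat.card (Subgroup.center H)).factorization p) *
      (Nat.card H / p ^ ((Nat.card H).factorization p)) := by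
  have hp : p.Prime := Fact.out
  have hnorm : ∀ (q : ℕ) (_ : Fact q.Prime) (Q : Sylow q H), (Q : Subgroup H).Normal :=
    (Group.isNilpotent_of_finite_tfae.out 0 3).1 hH
  obtain ⟨P⟩ : Nonempty (Sylow p H) := inferInstance
  have hP : (P : Subgroup H).Normal := hnorm p inferInstance P
  have hsub : Subsingleton (Sylow p H) := (Sylow.unique_of_normal P hP).instSubsingleton
  set C : Subgroup H := Subgroup.centralizer ((P : Subgroup H) : Set H) with hC
  -- K = C
  have hKC : csn_K p H = (C : Set H) := by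
    ext x
    rw [csn_mem_K]
    constructor
    · intro hx
      obtain ⟨Q, hQ⟩ := Cfsg.Agent.Helper67.exists_sylow_le_of_not_dvd_index
        (Subgroup.centralizer ({x} : Set H)) hx
      have hQP : Q = P := Subsingleton.elim Q P
      rw [hQP] at hQ
      show x ∈ C
      rw [hC, Subgroup.mem_centralizer_iff]
      intro y hy
      exact (Subgroup.mem_centralizer_iff.1 (hQ hy) x rfl).symm
    · intro hx hd
      have hPle : (P : Subgroup H) ≤ Subgroup.centralizer ({x} : Set H) := by
        intro y hy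
        rw [Subgroup.mem_centralizer_iff]
        rintro _ rfl
        exact (Subgroup.mem_centralizer_iff.1 hx y hy).symm
      exact P.not_dvd_index (dvd_trans hd (Subgroup.index_dvd_of_le hPle))
  -- C ⊔ P = ⊤
  have htop : C ⊔ (P : Subgroup H) = ⊤ := by
    apply csn_eq_top_of_forall_sylow_le
    intro q _
    by_cases hqp : q = p
    · subst hqp
      exact ⟨P, le_sup_right⟩
    · obtain ⟨Q⟩ : Nonempty (Sylow q H) := inferInstance
      refine ⟨Q, le_trans ?_ le_sup_left⟩
      intro y hy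
      rw [hC, Subgroup.mem_centralizer_iff]
      intro z hz
      have hdis : Disjoint (Q : Subgroup H) (P : Subgroup H) :=
        IsPGroup.disjoint_of_ne q p hqp _ _ Q.isPGroup' P.isPGroup'
      exact ((Subgroup.commute_of_normal_of_disjoint _ _ (hnorm q inferInstance Q) hP hdis
        y z hy hz).eq).symm
  -- |C| = |P ⊓ C| * index P
  have hcardC : Nat.card C = Nat.card ((P : Subgroup H) ⊓ C : Subgroup H) * (P : Subgroup H).index := by
    have h1 : Nat.card ((P : Subgroup H) ⊓ C : Subgroup H) * (P : Subgroup H).relIndex C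
        = Nat.card C := by
      rw [← Subgroup.relIndex_bot_left, ← Subgroup.inf_relIndex_right (P : Subgroup H) C,
        Subgroup.relIndex_mul_relIndex _ _ _ bot_le inf_le_right, Subgroup.relIndex_bot_left]
    rw [← h1, ← Subgroup.relIndex_sup_right C (P : Subgroup H), htop, Subgroup.relIndex_top_right]
  -- P ⊓ C = P ⊓ center
  have hinf : (P : Subgroup H) ⊓ C = (P : Subgroup H) ⊓ Subgroup.center H := by
    apply le_antisymm
    · intro z hz
      refine ⟨hz.1, ?_⟩
      show z ∈ Subgroup.center H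
      rw [Subgroup.mem_center_iff]
      intro g
      have hg : g ∈ C ⊔ (P : Subgroup H) := by rw [htop]; exact Subgroup.mem_top g
      have hle : C ⊔ (P : Subgroup H) ≤ Subgroup.centralizer ({z} : Set H) := by
        apply sup_le
        · intro c hc
          rw [Subgroup.mem_centralizer_iff]
          intro w hw
          rw [Set.mem_singleton_iff.1 hw]
          exact (Subgroup.mem_centralizer_iff.1 hc z hz.1)
        · intro y hy
          rw [Subgroup.mem_centralizer_iff]
          intro w hw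
          rw [Set.mem_singleton_iff.1 hw]
          exact (Subgroup.mem_centralizer_iff.1 hz.2 y hy).symm
      exact (Subgroup.mem_centralizer_iff.1 (hle hg) z rfl).symm
    · intro z hz
      refine ⟨hz.1, ?_⟩
      show z ∈ C
      rw [hC, Subgroup.mem_centralizer_iff]
      intro y _
      exact (Subgroup.mem_center_iff.1 hz.2 y)
  rw [hKC]
  have : ((C : Set H)).ncard = Nat.card C := (Nat.card_coe_set_eq _).symm
  rw [this, hcardC, hinf, csn_card_inf_normal_sylow P hP, csn_sylow_index]

/-- the subgroup of `y` with `[y, x]` in a central subgroup `Z`. -/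
def csn_D {G : Type*} [Group G] (Z : Subgroup G) (hZc : Z ≤ Subgroup.center G) (x : G) :
    Subgroup G where
  carrier := {y | y * x * y⁻¹ * x⁻¹ ∈ Z}
  one_mem' := by
    show (1 : G) * x * 1⁻¹ * x⁻¹ ∈ Z
    have : (1 : G) * x * 1⁻¹ * x⁻¹ = 1 := by group
    rw [this]; exact Z.one_mem
  mul_mem' := by
    intro a b ha hb
    show (a * b) * x * (a * b)⁻¹ * x⁻¹ ∈ Z
    have hbc := Subgroup.mem_center_iff.1 (hZc hb)
    have : (a * b) * x * (a * b)⁻¹ * x⁻¹ = (b * x * b⁻¹ * x⁻¹) * (a * x * a⁻¹ * x⁻¹) := by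
      calc (a * b) * x * (a * b)⁻¹ * x⁻¹ = (a * (b * x * b⁻¹ * x⁻¹)) * (x * a⁻¹ * x⁻¹) := by group
        _ = ((b * x * b⁻¹ * x⁻¹) * a) * (x * a⁻¹ * x⁻¹) := by rw [hbc a]
        _ = _ := by group
    rw [this]
    exact Z.mul_mem hb ha
  inv_mem' := by
    intro a ha
    show a⁻¹ * x * a⁻¹⁻¹ * x⁻¹ ∈ Z
    have hac := Subgroup.mem_center_iff.1 (hZc (Z.inv_mem ha))
    have : a⁻¹ * x * a⁻¹⁻¹ * x⁻¹ = (a * x * a⁻¹ * x⁻¹)⁻¹ := by
      calc a⁻¹ * x * a⁻¹⁻¹ * x⁻¹ = (a⁻¹ * (a * x * a⁻¹ * x⁻¹)⁻¹) * a := by group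
        _ = ((a * x * a⁻¹ * x⁻¹)⁻¹ * a⁻¹) * a := by rw [hac a⁻¹]
        _ = _ := by group
    rw [this]
    exact Z.inv_mem ha

theorem csn_mem_D {G : Type*} [Group G] (Z : Subgroup G) (hZc : Z ≤ Subgroup.center G) (x y : G) :
    y ∈ csn_D Z hZc x ↔ y * x * y⁻¹ * x⁻¹ ∈ Z := Iff.rfl

/-- the commutator hom `D → Z`. -/
def csn_phi {G : Type*} [Group G] (Z : Subgroup G) (hZc : Z ≤ Subgroup.center G) (x : G) :
    csn_D Z hZc x →* Z where
  toFun y := ⟨(y : G) * x * (y : G)⁻¹ * x⁻¹, y.2⟩
  map_one' := by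
    apply Subtype.ext
    show ((1 : G)) * x * (1 : G)⁻¹ * x⁻¹ = 1
    group
  map_mul' := by
    intro a b
    apply Subtype.ext
    show ((a : G) * (b : G)) * x * ((a : G) * (b : G))⁻¹ * x⁻¹
      = ((a : G) * x * (a : G)⁻¹ * x⁻¹) * ((b : G) * x * (b : G)⁻¹ * x⁻¹)
    have hbc := Subgroup.mem_center_iff.1 (hZc b.2)
    have hbc' : ∀ g : G, g * ((b : G) * x * (b : G)⁻¹ * x⁻¹) = ((b : G) * x * (b : G)⁻¹ * x⁻¹) * g :=
      hbc
    calc ((a : G) * (b : G)) * x * ((a : G) * (b : G))⁻¹ * x⁻¹
        = ((a : G) * ((b : G) * x * (b : G)⁻¹ * x⁻¹)) * (x * (a : G)⁻¹ * x⁻¹) := by group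
      _ = (((b : G) * x * (b : G)⁻¹ * x⁻¹) * (a : G)) * (x * (a : G)⁻¹ * x⁻¹) := by rw [hbc' a]
      _ = ((b : G) * x * (b : G)⁻¹ * x⁻¹) * ((a : G) * x * (a : G)⁻¹ * x⁻¹) := by group
      _ = _ := (hbc' _).symm

/-- **Heart**: if `x` has class size prime to `p` and `y x y⁻¹ x⁻¹` lies in a central
`p`-subgroup `Z`, then `y` commutes with `x`. -/
theorem csn_heart {G : Type*} [Group G] [Finite G] {p : ℕ} [Fact p.Prime] (Z : Subgroup G)
    (hZc : Z ≤ Subgroup.center G) (hZp : IsPGroup p Z) (x : G) (hx : ¬ p ∣ csn_cs x) (y : G)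
    (hy : y * x * y⁻¹ * x⁻¹ ∈ Z) : y * x * y⁻¹ * x⁻¹ = 1 := by
  have hp : p.Prime := Fact.out
  set D := csn_D Z hZc x with hD
  set Cx := Subgroup.centralizer ({x} : Set G) with hCx
  have hCD : Cx ≤ D := by
    intro g hg
    rw [hD, csn_mem_D]
    have : g * x = x * g := (Subgroup.mem_centralizer_iff.1 hg x rfl).symm
    have h1 : g * x * g⁻¹ * x⁻¹ = 1 := by rw [this]; group
    rw [h1]; exact Z.one_mem
  have hker : (csn_phi Z hZc x).ker = Cx.subgroupOf D := by
    ext g
    rw [MonoidHom.mem_ker, Subgroup.mem_subgroupOf, hCx, Subgroup.mem_centralizer_iff]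
    constructor
    · intro h1 w hw
      rw [Set.mem_singleton_iff.1 hw]
      have h2 : (g : G) * x * (g : G)⁻¹ * x⁻¹ = 1 := congrArg Subtype.val h1
      have h3 : (g : G) * x = ((g : G) * x * (g : G)⁻¹ * x⁻¹) * (x * g) := by group
      rw [h3, h2, one_mul]
    · intro h1
      apply Subtype.ext
      show (g : G) * x * (g : G)⁻¹ * x⁻¹ = 1
      have : (g : G) * x = x * g := (h1 x rfl).symm
      rw [this]; group
  have h1 : Cx.relIndex D ∣ Nat.card Z := by
    have : Cx.relIndex D = (csn_phi Z hZc x).ker.index := by rw [hker]; rfl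
    rw [this, Subgroup.index_ker]
    exact Subgroup.card_subgroup_dvd_card _
  have h2 : Cx.relIndex D ∣ csn_cs x := Subgroup.relIndex_dvd_index_of_le hCD
  obtain ⟨k, hk⟩ := hZp.exists_card_eq
  rw [hk] at h1
  have hcop : Nat.Coprime (p ^ k) (csn_cs x) :=
    Nat.Coprime.pow_left k ((Nat.Prime.coprime_iff_not_dvd hp).2 hx)
  have h3 : Cx.relIndex D = 1 := Nat.eq_one_of_dvd_coprimes hcop h1 h2
  have h4 : D ≤ Cx := Subgroup.relIndex_eq_one.1 h3
  have hyD : y ∈ D := hy
  have h5 : y * x = x * y := (Subgroup.mem_centralizer_iff.1 (h4 hyD) x rfl).symm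
  rw [h5]; group

theorem csn_cs_conj {G : Type*} [Group G] (g x : G) : csn_cs (g * x * g⁻¹) = csn_cs x := by
  rw [← csn_card_carrier, ← csn_card_carrier]
  have : ConjClasses.mk (g * x * g⁻¹) = ConjClasses.mk x :=
    (ConjClasses.mk_eq_mk_iff_isConj.2 (isConj_iff.2 ⟨g, rfl⟩)).symm
  rw [this]

theorem csn_cs_central_mul {G : Type*} [Group G] (z x : G) (hz : z ∈ Subgroup.center G) :
    csn_cs (z * x) = csn_cs x := by
  have hzc := Subgroup.mem_center_iff.1 hz
  have : Subgroup.centralizer ({z * x} : Set G) = Subgroup.centralizer ({x} : Set G) := by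
    ext g
    rw [Subgroup.mem_centralizer_iff, Subgroup.mem_centralizer_iff]
    constructor
    · intro h w hw
      rw [Set.mem_singleton_iff.1 hw]
      have h1 := h (z * x) rfl
      rw [mul_assoc, ← mul_assoc g z x, hzc g, mul_assoc] at h1
      exact mul_left_cancel h1
    · intro h w hw
      rw [Set.mem_singleton_iff.1 hw]
      have h1 := h x rfl
      rw [mul_assoc, h1, ← mul_assoc g z x, hzc g, mul_assoc]
  unfold csn_cs
  rw [this]

/-- the product group `S × Z`. -/
def csn_Gam {G : Type*} [Group G] (S Z : Subgroup G) : Type _ := ↥S × ↥Z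

noncomputable instance csn_Gam_group {G : Type*} [Group G] (S Z : Subgroup G) :
    Group (csn_Gam S Z) := inferInstanceAs (Group (↥S × ↥Z))

/-- `S × Z` (with `Z` central) acts on `G` by `(s, c) • x = c * (s * x * s⁻¹)`. -/
noncomputable instance csn_Gam_action {G : Type*} [Group G] (S Z : Subgroup G)
    [hZ : Fact (Z ≤ Subgroup.center G)] : MulAction (csn_Gam S Z) G where
  smul γ x := ((Prod.snd γ : Z) : G) * (((Prod.fst γ : S) : G) * x * ((Prod.fst γ : S) : G)⁻¹)
  one_smul x := by
    show ((1 : Z) : G) * (((1 : S) : G) * x * ((1 : S) : G)⁻¹) = x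
    simp
  mul_smul γ γ' x := by
    obtain ⟨s, c⟩ := γ
    obtain ⟨s', c'⟩ := γ'
    show ((c * c' : Z) : G) * (((s * s' : S) : G) * x * ((s * s' : S) : G)⁻¹)
      = (c : G) * ((s : G) * ((c' : G) * ((s' : G) * x * (s' : G)⁻¹)) * (s : G)⁻¹)
    have hc' := Subgroup.mem_center_iff.1 (hZ.out c'.2)
    simp only [Subgroup.coe_mul]
    calc (c : G) * (c' : G) * ((s : G) * (s' : G) * x * ((s : G) * (s' : G))⁻¹)
        = (c : G) * (((c' : G) * (s : G)) * ((s' : G) * x * (s' : G)⁻¹) * (s : G)⁻¹) := by group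
      _ = (c : G) * (((s : G) * (c' : G)) * ((s' : G) * x * (s' : G)⁻¹) * (s : G)⁻¹) := by
          rw [hc' (s : G)]
      _ = _ := by group

/-- constructor for `csn_Gam`. -/
def csn_mk {G : Type*} [Group G] {S Z : Subgroup G} (s : S) (c : Z) : csn_Gam S Z := (s, c)

theorem csn_smul_mk {G : Type*} [Group G] (S Z : Subgroup G)
    [Fact (Z ≤ Subgroup.center G)] (s : S) (c : Z) (x : G) :
    (csn_mk s c : csn_Gam S Z) • x = (c : G) * ((s : G) * x * (s : G)⁻¹) := rfl

theorem csn_exists_mk {G : Type*} [Group G] {S Z : Subgroup G} (γ : csn_Gam S Z) :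
    ∃ (s : S) (c : Z), γ = csn_mk s c := ⟨Prod.fst γ, Prod.snd γ, rfl⟩

theorem csn_Gam_isPGroup {G : Type*} [Group G] [Finite G] {p : ℕ} [Fact p.Prime]
    (S Z : Subgroup G) (hS : IsPGroup p S) (hZ : IsPGroup p Z) : IsPGroup p (csn_Gam S Z) := by
  obtain ⟨a, ha⟩ := hS.exists_card_eq
  obtain ⟨b, hb⟩ := hZ.exists_card_eq
  apply IsPGroup.of_card (n := a + b)
  show Nat.card (↥S × ↥Z) = p ^ (a + b)
  rw [Nat.card_prod, ha, hb, pow_add]

/-- An invariant subset all of whose orbits have size divisible by `q` has size divisible by `q`. -/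
theorem csn_dvd_ncard_of_invariant {Γ X : Type*} [Group Γ] [MulAction Γ X] [Finite X] (q : ℕ)
    (A : Set X) (hA : ∀ (γ : Γ), ∀ x ∈ A, γ • x ∈ A)
    (h : ∀ x ∈ A, q ∣ (MulAction.orbit Γ x).ncard) : q ∣ A.ncard := by
  induction' hn : A.ncard using Nat.strong_induction_on with n ih generalizing A
  by_cases hA0 : A = ∅
  · subst hA0
    rw [Set.ncard_empty] at hn
    rw [← hn]; exact dvd_zero q
  obtain ⟨x, hx⟩ := Set.nonempty_iff_ne_empty.2 hA0
  have hOA : MulAction.orbit Γ x ⊆ A := by
    rintro _ ⟨γ, rfl⟩; exact hA γ x hx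
  have hsplit : (A \ MulAction.orbit Γ x).ncard + (MulAction.orbit Γ x).ncard = A.ncard :=
    Set.ncard_sdiff_add_ncard_of_subset hOA (Set.toFinite A)
  have hinv : ∀ γ : Γ, ∀ y ∈ A \ MulAction.orbit Γ x, γ • y ∈ A \ MulAction.orbit Γ x := by
    intro γ y hy
    refine ⟨hA γ y hy.1, fun hmem => hy.2 ?_⟩
    have h1 : MulAction.orbit Γ (γ • y) = MulAction.orbit Γ x := MulAction.orbit_eq_iff.2 hmem
    rw [MulAction.orbit_smul] at h1
    exact MulAction.orbit_eq_iff.1 h1
  have hpos : 0 < (MulAction.orbit Γ x).ncard :=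
    (Set.ncard_pos (Set.toFinite _)).2 ⟨x, MulAction.mem_orbit_self x⟩
  have hlt : (A \ MulAction.orbit Γ x).ncard < n := by omega
  have h1 := ih _ hlt (A \ MulAction.orbit Γ x) hinv (fun y hy => h y hy.1) rfl
  rw [← hn, ← hsplit]
  exact dvd_add h1 (h x hx)

/-- orbits of `S × Z` on non-centralizing elements of `K_p` have more than `|Z|` elements. -/
theorem csn_orbit_large {G : Type*} [Group G] [Finite G] {p : ℕ} [Fact p.Prime]
    (S Z : Subgroup G) [hZ : Fact (Z ≤ Subgroup.center G)] (hZp : IsPGroup p Z) (x : G)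
    (hx : ¬ p ∣ csn_cs x) (s : G) (hs : s ∈ S) (hsx : s * x * s⁻¹ ≠ x) :
    Nat.card Z < (MulAction.orbit (csn_Gam S Z) x).ncard := by
  set f : Z → G := fun c => (c : G) * x with hf
  have hinj : Function.Injective f := by
    intro c c' hcc
    apply Subtype.ext
    exact mul_right_cancel hcc
  have hnot : s * x * s⁻¹ ∉ f '' Set.univ := by
    rintro ⟨c, -, hc⟩
    have hc' : (c : G) * x = s * x * s⁻¹ := hc
    have h1 : s * x * s⁻¹ * x⁻¹ = (c : G) := by rw [← hc']; group
    have h2 := csn_heart Z hZ.out hZp x hx s (by rw [h1]; exact c.2)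
    apply hsx
    have h3 : s * x * s⁻¹ = (s * x * s⁻¹ * x⁻¹) * x := by group
    rw [h3, h2, one_mul]
  have hsub : insert (s * x * s⁻¹) (f '' Set.univ) ⊆ MulAction.orbit (csn_Gam S Z) x := by
    intro y hy
    rcases hy with hy | ⟨c, -, hc⟩
    · rw [hy]
      refine ⟨csn_mk ⟨s, hs⟩ 1, ?_⟩
      show (((1 : Z) : G)) * (s * x * s⁻¹) = s * x * s⁻¹
      simp
    · refine ⟨csn_mk 1 c, ?_⟩
      rw [← hc]
      show (c : G) * (((1 : S) : G) * x * ((1 : S) : G)⁻¹) = (c : G) * x
      simp
  have h1 := Set.ncard_le_ncard hsub (Set.toFinite _)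
  rw [Set.ncard_insert_of_notMem hnot (Set.toFinite _), Set.ncard_image_of_injective _ hinj,
    Set.ncard_univ] at h1
  omega

/-- **Key estimate**: under the counting hypothesis, `|C_G(S)| · n_p ≤ |K_p|`. -/
theorem csn_key {G : Type*} [Group G] [Finite G] {p : ℕ} [Fact p.Prime]
    (hK : (csn_K p G).ncard = p ^ ((Nat.card (Subgroup.center G)).factorization p) *
      (Nat.card G / p ^ ((Nat.card G).factorization p)))
    (S : Sylow p G) :
    Nat.card (Subgroup.centralizer ((S : Subgroup G) : Set G)) * Nat.card (Sylow p G)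
      ≤ (csn_K p G).ncard := by
  have hp : p.Prime := Fact.out
  set b := (Nat.card (Subgroup.center G)).factorization p with hb
  set a := (Nat.card G).factorization p with ha
  set m := Nat.card G / p ^ a with hm
  have hGpos : Nat.card G ≠ 0 := Nat.card_pos.ne'
  have hpm : ¬ p ∣ m := Nat.not_dvd_ordCompl hp hGpos
  have hGam : p ^ a * m = Nat.card G := Nat.ordProj_mul_ordCompl_eq_self _ p
  -- the central p-subgroup
  obtain ⟨Zs⟩ : Nonempty (Sylow p (Subgroup.center G)) := inferInstance
  set Z : Subgroup G := (Zs : Subgroup (Subgroup.center G)).map (Subgroup.center G).subtype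
    with hZdef
  have hZc : Z ≤ Subgroup.center G := Subgroup.map_subtype_le _
  have hZp : IsPGroup p Z := Zs.isPGroup'.map _
  have hZcard : Nat.card Z = p ^ b := by
    rw [hZdef, Subgroup.card_map_of_injective (Subgroup.subtype_injective _),
      Zs.card_eq_multiplicity]
  have : Fact (Z ≤ Subgroup.center G) := ⟨hZc⟩
  set C : Subgroup G := Subgroup.centralizer ((S : Subgroup G) : Set G) with hC
  have hZC : Z ≤ C := le_trans hZc (Subgroup.center_le_centralizer _)
  have hpbC : p ^ b ∣ Nat.card C := by rw [← hZcard]; exact Subgroup.card_dvd_of_le hZC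
  -- C ⊆ K
  have hCK : (C : Set G) ⊆ csn_K p G := by
    intro x hx hd
    have hPle : (S : Subgroup G) ≤ Subgroup.centralizer ({x} : Set G) := by
      intro y hy
      rw [Subgroup.mem_centralizer_iff]
      intro w hw
      rw [Set.mem_singleton_iff.1 hw]
      exact (Subgroup.mem_centralizer_iff.1 hx y hy).symm
    exact S.not_dvd_index (dvd_trans hd (Subgroup.index_dvd_of_le hPle))
  -- invariance
  have hKinv : ∀ (γ : csn_Gam (S : Subgroup G) Z), ∀ x ∈ csn_K p G, γ • x ∈ csn_K p G := by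
    intro γ x hx
    obtain ⟨s, c, rfl⟩ := csn_exists_mk γ
    rw [csn_smul_mk, csn_mem_K, csn_cs_central_mul _ _ (hZc c.2), csn_cs_conj]
    exact hx
  have hCinv : ∀ (γ : csn_Gam (S : Subgroup G) Z), ∀ x ∈ (C : Set G), γ • x ∈ (C : Set G) := by
    intro γ x hx
    obtain ⟨s, c, rfl⟩ := csn_exists_mk γ
    rw [csn_smul_mk]
    have h1 : (s : G) * x = x * s := Subgroup.mem_centralizer_iff.1 hx s s.2
    have h2 : (s : G) * x * (s : G)⁻¹ = x := by rw [h1]; group
    rw [h2]
    exact C.mul_mem (hZC c.2) hx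
  have hXinv : ∀ (γ : csn_Gam (S : Subgroup G) Z), ∀ x ∈ csn_K p G \ (C : Set G),
      γ • x ∈ csn_K p G \ (C : Set G) := by
    intro γ x hx
    refine ⟨hKinv γ x hx.1, fun hmem => hx.2 ?_⟩
    have := hCinv γ⁻¹ _ hmem
    rwa [inv_smul_smul] at this
  -- orbits
  have hΓp : IsPGroup p (csn_Gam (S : Subgroup G) Z) := csn_Gam_isPGroup _ _ S.isPGroup' hZp
  have horb : ∀ x ∈ csn_K p G \ (C : Set G),
      p ^ (b + 1) ∣ (MulAction.orbit (csn_Gam (S : Subgroup G) Z) x).ncard := by
    intro x hx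
    have hxC : ¬ x ∈ C := hx.2
    rw [hC, Subgroup.mem_centralizer_iff] at hxC
    push Not at hxC
    obtain ⟨s, hs, hsx⟩ := hxC
    have hsx' : s * x * s⁻¹ ≠ x := by
      intro h; apply hsx
      calc s * x = (s * x * s⁻¹) * s := by group
        _ = x * s := by rw [h]
    have hlarge := csn_orbit_large (S : Subgroup G) Z hZp x hx.1 s hs hsx'
    obtain ⟨e, he⟩ := hΓp.card_orbit x
    rw [Nat.card_coe_set_eq] at he
    rw [he, hZcard] at hlarge
    rw [he]
    have : b < e := (Nat.pow_lt_pow_iff_right hp.one_lt).1 hlarge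
    exact pow_dvd_pow p this
  have hXdvd : p ^ (b + 1) ∣ (csn_K p G \ (C : Set G)).ncard :=
    csn_dvd_ncard_of_invariant _ _ hXinv horb
  have hsplit : (csn_K p G \ (C : Set G)).ncard + (C : Set G).ncard = (csn_K p G).ncard :=
    Set.ncard_sdiff_add_ncard_of_subset hCK (Set.toFinite _)
  have hCcard : (C : Set G).ncard = Nat.card C := (Nat.card_coe_set_eq _).symm
  -- p^(b+1) ∤ |C|
  have hnot : ¬ p ^ (b + 1) ∣ Nat.card C := by
    intro hd
    have : p ^ (b + 1) ∣ p ^ b * m := by
      rw [← hK, ← hsplit, hCcard]; exact dvd_add hXdvd hd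
    rw [pow_succ] at this
    exact hpm (Nat.dvd_of_mul_dvd_mul_left (pow_pos hp.pos b) this)
  obtain ⟨c', hc'⟩ := hpbC
  have hpc' : ¬ p ∣ c' := by
    intro hd; apply hnot; rw [hc', pow_succ]; exact Nat.mul_dvd_mul_left _ hd
  -- normalizer
  set N := Subgroup.normalizer ((S : Subgroup G) : Set G) with hN
  have h1 : p ^ a ∣ Nat.card N := by
    rw [← S.card_eq_multiplicity]; exact Subgroup.card_dvd_of_le Subgroup.le_normalizer
  have h2 : c' ∣ Nat.card N := by
    have : Nat.card C ∣ Nat.card N :=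
      Subgroup.card_dvd_of_le (Subgroup.centralizer_le_normalizer _)
    exact dvd_trans (Dvd.intro_left _ hc'.symm) this
  have hcop : Nat.Coprime (p ^ a) c' :=
    Nat.Coprime.pow_left a ((Nat.Prime.coprime_iff_not_dvd hp).2 hpc')
  obtain ⟨t, ht⟩ := Nat.Coprime.mul_dvd_of_dvd_of_dvd hcop h1 h2
  have h3 : Nat.card N * Nat.card (Sylow p G) = Nat.card G := by
    rw [S.card_eq_index_normalizer]; exact Subgroup.card_mul_index N
  -- arithmetic
  have h4 : c' * t * Nat.card (Sylow p G) = m := by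
    have : p ^ a * (c' * t * Nat.card (Sylow p G)) = p ^ a * m := by
      rw [hGam, ← h3, ht]; ring
    exact Nat.eq_of_mul_eq_mul_left (pow_pos hp.pos a) this
  have ht0 : 0 < t := by
    rcases Nat.eq_zero_or_pos t with h | h
    · rw [h, mul_zero] at ht; exact absurd ht Nat.card_pos.ne'
    · exact h
  rw [hK, hc']
  calc p ^ b * c' * Nat.card (Sylow p G) ≤ p ^ b * (c' * t * Nat.card (Sylow p G)) := by
        rw [mul_assoc]; apply Nat.mul_le_mul_left
        apply Nat.mul_le_mul_right
        exact Nat.le_mul_of_pos_right _ ht0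
    _ = p ^ b * m := by rw [h4]

/-- Under the counting hypothesis there is only one Sylow `p`-subgroup. -/
theorem csn_card_sylow_le_one {G : Type*} [Group G] [Finite G] {p : ℕ} [Fact p.Prime]
    (hK : (csn_K p G).ncard = p ^ ((Nat.card (Subgroup.center G)).factorization p) *
      (Nat.card G / p ^ ((Nat.card G).factorization p))) :
    Nat.card (Sylow p G) ≤ 1 := by
  classical
  have : Fintype G := Fintype.ofFinite G
  have : Fintype (Sylow p G) := Fintype.ofFinite _
  set np := Nat.card (Sylow p G) with hnp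
  set kp := (csn_K p G).ncard with hkp
  let KF : Finset G := Finset.univ.filter (fun x => ¬ p ∣ csn_cs x)
  let CF : Sylow p G → Finset G := fun P =>
    Finset.univ.filter (fun x => x ∈ Subgroup.centralizer ((P : Subgroup G) : Set G))
  have hKF : KF.card = kp := by
    rw [hkp, ← Set.ncard_coe_finset]
    congr 1
    ext x
    simp [KF, csn_K]
  have hCF : ∀ P, (CF P).card = Nat.card (Subgroup.centralizer ((P : Subgroup G) : Set G)) := by
    intro P
    rw [← Set.ncard_coe_finset, ← Nat.card_coe_set_eq]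
    apply Nat.card_congr
    apply Equiv.subtypeEquivRight
    intro x
    simp [CF]
  have h1mem : ∀ P, (1 : G) ∈ CF P := by
    intro P
    simp [CF, one_mem]
  have hsub : KF ⊆ insert 1 (Finset.univ.biUnion (fun P => (CF P).erase 1)) := by
    intro x hx
    by_cases hx1 : x = 1
    · simp [hx1]
    · have hx' : ¬ p ∣ csn_cs x := by simpa [KF] using hx
      obtain ⟨Q, hQ⟩ := Cfsg.Agent.Helper67.exists_sylow_le_of_not_dvd_index
        (Subgroup.centralizer ({x} : Set G)) hx'
      apply Finset.mem_insert_of_mem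
      rw [Finset.mem_biUnion]
      refine ⟨Q, Finset.mem_univ _, ?_⟩
      rw [Finset.mem_erase]
      refine ⟨hx1, ?_⟩
      simp only [CF, Finset.mem_filter, Finset.mem_univ, true_and]
      rw [Subgroup.mem_centralizer_iff]
      intro y hy
      exact (Subgroup.mem_centralizer_iff.1 (hQ hy) x rfl).symm
  have h2 : kp ≤ (∑ P : Sylow p G, ((CF P).erase 1).card) + 1 := by
    rw [← hKF]
    calc KF.card ≤ (insert 1 (Finset.univ.biUnion (fun P => (CF P).erase 1))).card :=
          Finset.card_le_card hsub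
      _ ≤ (Finset.univ.biUnion (fun P => (CF P).erase 1)).card + 1 := Finset.card_insert_le _ _
      _ ≤ _ := Nat.add_le_add_right Finset.card_biUnion_le 1
  have hnpF : np = Fintype.card (Sylow p G) := Nat.card_eq_fintype_card
  have h3 : ∑ P, (CF P).card = (∑ P : Sylow p G, ((CF P).erase 1).card) + np := by
    have : np = ∑ _P : Sylow p G, 1 := by rw [hnpF]; simp
    rw [this, ← Finset.sum_add_distrib]
    exact Finset.sum_congr rfl (fun P _ => (Finset.card_erase_add_one (h1mem P)).symm)
  have h4 : ∀ P, (CF P).card * np ≤ kp := fun P => by rw [hCF]; exact csn_key hK P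
  have h5 : (∑ P, (CF P).card) * np ≤ kp * np := by
    rw [Finset.sum_mul]
    calc ∑ P, (CF P).card * np ≤ ∑ _P : Sylow p G, kp := Finset.sum_le_sum (fun P _ => h4 P)
      _ = kp * np := by rw [hnpF]; simp [mul_comm]
  have hnp0 : 0 < np := Nat.card_pos
  have h6 : ∑ P, (CF P).card ≤ kp := Nat.le_of_mul_le_mul_right h5 hnp0
  omega

/-- **Cossey–Hawkes–Mann**. -/
theorem csn_main {G H : Type*} [Group G] [Finite G] [Group H] [Finite H]
    (hH : Group.IsNilpotent H)
    (h : ∀ k : ℕ, Nat.card {C : ConjClasses G // Nat.card C.carrier = k}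
      = Nat.card {C : ConjClasses H // Nat.card C.carrier = k}) :
    Group.IsNilpotent G := by
  obtain ⟨e, he⟩ := csn_exists_equiv h
  apply (Group.isNilpotent_of_finite_tfae.out 0 3).2
  intro p hp P
  have : Fact p.Prime := hp
  obtain ⟨h1, h2, h3⟩ := csn_transfer e he p
  have hK : (csn_K p G).ncard = p ^ ((Nat.card (Subgroup.center G)).factorization p) *
      (Nat.card G / p ^ ((Nat.card G).factorization p)) := by
    rw [h1, h2, h3]; exact csn_nilpotent_count hH p
  have hle := csn_card_sylow_le_one hK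
  have : Subsingleton (Sylow p G) := Finite.card_le_one_iff_subsingleton.1 hle
  exact Sylow.normal_of_subsingleton P

end Cfsg.Agent.Helper3
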