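import Mathlib
import Cfsg.Agent.Lib.Helper52.FCDefs

set_option autoImplicit false

namespace Cfsg.Agent.Helper3.FC

open Subgroup Cfsg.Agent.Helper52.FC
open scoped commutatorElement

universe u

variable {G : Type u} [Group G]

/-- (A2) -/
theorem ZZ_inf_star [Finite G] {p : ℕ} {a : G} {H : Subgroup G} (mx : MCX p G a H) : ZZ a H ⊓ star a H = ⊥ := by
  by_contra hne
  have hNH : ZZ a H ⊓ star a H ≤ H := by
    intro x hx
    exact hx.1.1.1
  have hNn : NormBy H (ZZ a H ⊓ star a H) := by
    intro h hh n hn
    have hc : n ∈ Subgroup.centralizer (H : Set G) := hn.1.2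
    have e : h * n = n * h := (Subgroup.mem_centralizer_iff.mp hc h hh)
    have : h * n * h⁻¹ = n := by rw [e]; group
    rw [this]; exact hn
  have hNa : Inv a (ZZ a H ⊓ star a H) := by
    intro n hn
    have hf : n ∈ Fix a := hn.1.1.2
    have e : a * n = n * a := (Subgroup.mem_centralizer_iff.mp hf a (Set.mem_singleton a))
    have : a * n * a⁻¹ = n := by rw [e]; group
    rw [this]; exact hn
  exact mx.not_le _ hNH hNn hNa hne (fun x hx => hx.1.2)

end Cfsg.Agent.Helper3.FC
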