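import Mathlib
import Cfsg.Agent.Lib.Helper52.FCDefs

set_option autoImplicit false

namespace Cfsg.Agent.Helper3.FC

open Subgroup Cfsg.Agent.Helper52.FC
open scoped commutatorElement

universe u

variable {G : Type u} [Group G]

/-- (B4)-type monotonicity, own copy. -/
theorem h3_star_mono (a : G) {X H : Subgroup G} (hXH : X ≤ H) : star a X ≤ star a H := by
  unfold Cfsg.Agent.Helper52.FC.star
  apply iSup_le
  intro h
  exact le_iSup (fun h : H => Lh a (h : G) ⊓ Fix a) ⟨h.1, hXH h.2⟩

/-- (M2) -/
theorem mc_proper [Finite G] {p : ℕ} {a : G} {H : Subgroup G} (mc : MC p G a H) (X : Subgroup G) (hXH : X ≤ H) (hne : X ≠ H)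
    (hX : Inv a X) : comm a X ⊓ Fix a ≤ star a H := by
  have hlt : X < H := lt_of_le_of_ne hXH hne
  have hcard : Nat.card X < Nat.card H := by
    have hdvd : Nat.card X ∣ Nat.card H := Subgroup.card_dvd_of_le hXH
    have hle : Nat.card X ≤ Nat.card H := Nat.le_of_dvd Nat.card_pos hdvd
    rcases Nat.lt_or_ge (Nat.card X) (Nat.card H) with h | h
    · exact h
    · exfalso
      have heq : Nat.card X = Nat.card H := le_antisymm hle h
      have : X = H := by
        apply SetLike.coe_injective
        apply Set.eq_of_subset_of_ncard_le hXH _ (Set.toFinite _)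
        have e1 : (X : Set G).ncard = Nat.card X := by
          rw [← Nat.card_coe_set_eq]; rfl
        have e2 : (H : Set G).ncard = Nat.card H := by
          rw [← Nat.card_coe_set_eq]; rfl
        omega
      exact hne this
  have hsol : Group.IsSolvable X := by
    have := mc.hyp.sol
    exact Group.isSolvable_of_isSolvable_injective (f := Subgroup.inclusion hXH) (Subgroup.inclusion_injective hXH)
  have hcop : (Nat.card X).Coprime p :=
    Nat.Coprime.coprime_dvd_left (Subgroup.card_dvd_of_le hXH) mc.hyp.cop
  have hyp : Hyp p a X := ⟨mc.hyp.pow, hX, hsol, hcop⟩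
  have hT : Thm a X := mc.ih G a X hyp hcard
  exact le_trans hT (h3_star_mono a hXH)

end Cfsg.Agent.Helper3.FC
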