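import Mathlib
import Cfsg.Agent.Lib.Helper52.FCDefs

set_option autoImplicit false

namespace Cfsg.Agent.Helper3.FC

open Subgroup Cfsg.Agent.Helper52.FC
open scoped commutatorElement

universe u

variable {G : Type u} [Group G]

/-- `comm a H ≤ H` for an `a`-invariant `H`. -/
theorem h3_comm_le (a : G) (H : Subgroup G) (hH : Inv a H) : comm a H ≤ H := by
  unfold Cfsg.Agent.Helper52.FC.comm
  rw [Subgroup.closure_le]
  rintro c ⟨h, hh, i, rfl⟩
  have key : ∀ i : ℕ, a ^ i * h * (a ^ i)⁻¹ ∈ H := by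
    intro i
    induction i with
    | zero => simpa using hh
    | succ n ih =>
      have := hH _ ih
      have e : a ^ (n + 1) * h * (a ^ (n + 1))⁻¹ = a * (a ^ n * h * (a ^ n)⁻¹) * a⁻¹ := by
        rw [pow_succ']; group
      rw [e]; exact this
  exact H.mul_mem (H.inv_mem hh) (key i)

/-- `Lh a h ⊓ Fix a ≤ star a H` for `h ∈ H`. -/
theorem h3_Lh_fix_le_star (a : G) (H : Subgroup G) (h : G) (hh : h ∈ H) :
    Lh a h ⊓ Fix a ≤ star a H := by
  unfold Cfsg.Agent.Helper52.FC.star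
  exact le_iSup (fun h : H => Lh a (h : G) ⊓ Fix a) ⟨h, hh⟩

/-- (M5) -/
theorem mc_no_gen [Finite G] {p : ℕ} {a : G} {H : Subgroup G} (mc : MC p G a H) (h : G) (hh : h ∈ H) : Lh a h ≠ H := by
  intro hL
  apply mc.bad
  unfold Thm
  intro c hc
  have h1 : c ∈ H := h3_comm_le a H mc.hyp.inv hc.1
  have h2 : c ∈ Lh a h ⊓ Fix a := ⟨by rw [hL]; exact h1, hc.2⟩
  exact h3_Lh_fix_le_star a H h hh h2

end Cfsg.Agent.Helper3.FC
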