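import Mathlib
import Cfsg.Agent.Lib.Helper52.FCDefs
import Cfsg.Agent.Lib.Helper3.FCM5

set_option autoImplicit false

namespace Cfsg.Agent.Helper3.FC

open Subgroup Cfsg.Agent.Helper52.FC
open scoped commutatorElement

universe u

variable {G : Type u} [Group G]

/-- (M4) -/
theorem mc_not_le [Finite G] {p : ℕ} {a : G} {H : Subgroup G} (mc : MC p G a H)
    (hquot : ∀ N : Subgroup G, N ≤ H → NormBy H N → Inv a N → N ≠ ⊥ → ∀ c ∈ H ⊓ Fix a, ∃ s ∈ star a H, ∃ n ∈ N ⊓ Fix a, c = s * n)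
    (N : Subgroup G) (hNH : N ≤ H) (hNn : NormBy H N) (hNa : Inv a N) (hN : N ≠ ⊥) : ¬ (N ⊓ Fix a ≤ star a H) := by
  intro hle
  apply mc.bad
  unfold Thm
  intro c hc
  have h1 : c ∈ H := h3_comm_le a H mc.hyp.inv hc.1
  obtain ⟨s, hs, n, hn, rfl⟩ := hquot N hNH hNn hNa hN c ⟨h1, hc.2⟩
  exact (star a H).mul_mem hs (hle hn)

end Cfsg.Agent.Helper3.FC
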