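import Mathlib

set_option autoImplicit false
set_option linter.unusedSectionVars false
set_option linter.style.haveILetI false

namespace Cfsg.Agent.Helper3

open scoped commutatorElement

/-- `P/P'` has a normal complement in `G` iff the focal subgroup `G' ∩ P` equals `P'`. -/
theorem normal_complement_mod_derived_iff {G : Type*} [Group G] [Finite G] {p : ℕ} [Fact p.Prime]
    (P : Sylow p G) :
    (∃ N : Subgroup G, N.Normal ∧ N ⊓ (P : Subgroup G) = ⁅(P : Subgroup G), (P : Subgroup G)⁆ ∧
      N ⊔ (P : Subgroup G) = ⊤) ↔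
      commutator G ⊓ (P : Subgroup G) = ⁅(P : Subgroup G), (P : Subgroup G)⁆ := by
  classical
  have hp : p.Prime := Fact.out
  have hPP_le_P : ⁅(P : Subgroup G), (P : Subgroup G)⁆ ≤ (P : Subgroup G) := by
    rw [Subgroup.commutator_le]
    intro a ha b hb
    exact (P : Subgroup G).mul_mem ((P : Subgroup G).mul_mem ((P : Subgroup G).mul_mem ha hb)
      ((P : Subgroup G).inv_mem ha)) ((P : Subgroup G).inv_mem hb)
  have hPP_le_G' : ⁅(P : Subgroup G), (P : Subgroup G)⁆ ≤ commutator G := by
    rw [commutator_def]; exact Subgroup.commutator_mono le_top le_top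
  constructor
  · rintro ⟨N, hN, hNP, hsup⟩
    apply le_antisymm
    · have hG'N : commutator G ≤ N := by
        rw [commutator_def, Subgroup.commutator_le]
        intro a _ b _
        have ha : a ∈ N ⊔ (P : Subgroup G) := by rw [hsup]; trivial
        have hb : b ∈ N ⊔ (P : Subgroup G) := by rw [hsup]; trivial
        rw [← SetLike.mem_coe, Subgroup.normal_mul] at ha hb
        obtain ⟨n₁, hn₁, u₁, hu₁, rfl⟩ := ha
        obtain ⟨n₂, hn₂, u₂, hu₂, rfl⟩ := hb
        rw [← QuotientGroup.eq_one_iff (N := N)]
        have h1 : ((n₁ * u₁ : G) : G ⧸ N) = (u₁ : G ⧸ N) := by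
          rw [QuotientGroup.mk_mul, (QuotientGroup.eq_one_iff n₁).mpr hn₁, one_mul]
        have h2 : ((n₂ * u₂ : G) : G ⧸ N) = (u₂ : G ⧸ N) := by
          rw [QuotientGroup.mk_mul, (QuotientGroup.eq_one_iff n₂).mpr hn₂, one_mul]
        have h3 : ⁅u₁, u₂⁆ ∈ N := by
          have : ⁅u₁, u₂⁆ ∈ ⁅(P : Subgroup G), (P : Subgroup G)⁆ :=
            Subgroup.commutator_mem_commutator hu₁ hu₂
          rw [← hNP] at this
          exact this.1
        have h4 : ((⁅u₁, u₂⁆ : G) : G ⧸ N) = 1 := (QuotientGroup.eq_one_iff _).mpr h3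
        rw [commutatorElement_def] at h4 ⊢
        simp only [QuotientGroup.mk_mul, QuotientGroup.mk_inv] at h1 h2 h4 ⊢
        rw [h1, h2]
        exact h4
      calc commutator G ⊓ (P : Subgroup G) ≤ N ⊓ (P : Subgroup G) := inf_le_inf_right _ hG'N
        _ = ⁅(P : Subgroup G), (P : Subgroup G)⁆ := hNP
    · exact le_inf hPP_le_G' hPP_le_P
  · intro h
    let Q := Abelianization G
    let π : G →* Q := Abelianization.of
    have hπsurj : Function.Surjective π := QuotientGroup.mk'_surjective _
    have hker : π.ker = commutator G := Abelianization.ker_of G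
    haveI : Finite Q := Finite.of_surjective π hπsurj
    have hcard0 : Nat.card Q ≠ 0 := Nat.card_pos.ne'
    obtain ⟨a, m, hm, hcard⟩ := Nat.exists_eq_pow_mul_and_not_dvd hcard0 p hp.ne_one
    let K : Subgroup Q := (powMonoidHom m : Q →* Q).ker
    have hKn : K.Normal := Subgroup.normal_of_isMulCommutative K
    let N : Subgroup G := K.comap π
    have hNn : N.Normal := hKn.comap π
    have hmemN : ∀ g : G, g ∈ N ↔ (π g) ^ m = 1 := by
      intro g
      change π g ∈ K ↔ _
      rw [MonoidHom.mem_ker]; rfl
    have hG'N : commutator G ≤ N := by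
      intro g hg
      rw [hmemN]
      rw [← hker, MonoidHom.mem_ker] at hg
      rw [hg, one_pow]
    have hcop : Nat.Coprime m p := (Nat.Prime.coprime_iff_not_dvd hp).mpr hm |>.symm
    refine ⟨N, hNn, ?_, ?_⟩
    · apply le_antisymm
      · rintro g ⟨hgN, hgP⟩
        have hgm : g ^ m ∈ ⁅(P : Subgroup G), (P : Subgroup G)⁆ := by
          rw [← h]
          refine ⟨?_, (P : Subgroup G).pow_mem hgP m⟩
          have h5 : g ^ m ∈ π.ker := by
            rw [MonoidHom.mem_ker, map_pow]
            exact (hmemN g).mp hgN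
          rw [hker] at h5
          exact h5
        obtain ⟨b, hb⟩ := (IsPGroup.iff_orderOf.mp P.isPGroup') ⟨g, hgP⟩
        have hob : orderOf g = p ^ b := by
          rw [← hb]; exact (Subgroup.orderOf_mk g hgP).symm
        have hcop2 : Nat.Coprime m (orderOf g) := by
          rw [hob]; exact Nat.Coprime.pow_right _ hcop
        obtain ⟨k, hk⟩ := exists_pow_eq_self_of_coprime hcop2
        rw [← hk]
        exact Subgroup.pow_mem _ hgm k
      · exact le_inf (le_trans hPP_le_G' hG'N) hPP_le_P
    · rw [eq_top_iff]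
      intro g _
      have hbez := Nat.gcd_eq_gcd_ab (p ^ a) m
      have hg1 : Nat.gcd (p ^ a) m = 1 := Nat.Coprime.pow_left _ hcop.symm
      rw [hg1] at hbez
      set u := (p ^ a).gcdA m
      set v := (p ^ a).gcdB m
      have hdecomp : g = (g ^ (p ^ a)) ^ u * (g ^ m) ^ v := by
        rw [← zpow_natCast g (p ^ a), ← zpow_natCast g m, ← zpow_mul, ← zpow_mul, ← zpow_add]
        have : ((p ^ a : ℕ) : ℤ) * u + (m : ℤ) * v = 1 := by
          rw [← hbez]; simp
        rw [this, zpow_one]
      rw [hdecomp]
      apply Subgroup.mul_mem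
      · apply Subgroup.mem_sup_left
        apply Subgroup.zpow_mem
        rw [hmemN, map_pow, ← pow_mul, ← hcard]
        exact pow_card_eq_one'
      · apply Subgroup.zpow_mem
        set y := π (g ^ m) with hy
        have hyp : y ^ (p ^ a) = 1 := by
          rw [hy, map_pow, ← pow_mul, mul_comm, ← hcard]
          exact pow_card_eq_one'
        let S : Sylow p Q := P.mapSurjective hπsurj
        have hyS : y ∈ (S : Subgroup Q) := by
          have hpg : IsPGroup p (Subgroup.zpowers y) := by
            have hdvd : orderOf y ∣ p ^ a := orderOf_dvd_of_pow_eq_one hyp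
            obtain ⟨c, _, hc⟩ := (Nat.dvd_prime_pow hp).mp hdvd
            apply IsPGroup.of_card (n := c)
            rw [Nat.card_zpowers, hc]
          obtain ⟨S', hS'⟩ := hpg.exists_le_sylow
          haveI hSn : (S : Subgroup Q).Normal := Subgroup.normal_of_isMulCommutative _
          obtain ⟨q, hq⟩ := MulAction.exists_smul_eq Q S S'
          have : S' = S := by rw [← hq]; exact Sylow.smul_eq_of_normal
          rw [← this]
          exact hS' (Subgroup.mem_zpowers y)
        have hSmap : (S : Subgroup Q) = (P : Subgroup G).map π := rfl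
        rw [hSmap] at hyS
        obtain ⟨u₀, hu₀, hu₀y⟩ := hyS
        have hmem : u₀⁻¹ * g ^ m ∈ commutator G := by
          rw [← hker, MonoidHom.mem_ker, map_mul, map_inv, hu₀y, hy, inv_mul_cancel]
        have : g ^ m = u₀ * (u₀⁻¹ * g ^ m) := by group
        rw [this]
        exact Subgroup.mul_mem _ (Subgroup.mem_sup_right hu₀) (Subgroup.mem_sup_left (hG'N hmem))


end Cfsg.Agent.Helper3
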