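import Mathlib

/-!
# G24 server (helper92, S1679): piece ABS, the diagonal argument
-/

set_option autoImplicit false

namespace Cfsg.Agent.Helper3.G24

/-- a surjective homomorphism from a finite group with at most `N` elements onto a group with
exactly `N > 0` elements is an isomorphism -/
theorem h3_equiv_of_surjective_of_card_le {T H : Type*} [Group T] [Group H] [Finite T] (N : ℕ)
    (hN : 0 < N) (hT : Nat.card T ≤ N) (hH : Nat.card H = N) (f : T →* H)
    (hf : Function.Surjective f) : Nonempty (T ≃* H) := by
  have hfinH : Finite H := Nat.finite_of_card_ne_zero (by rw [hH]; exact hN.ne')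
  have hbij : Function.Bijective f :=
    hf.bijective_of_nat_card_le (by rw [hH]; exact hT)
  exact ⟨MulEquiv.ofBijective f hbij⟩

/-- (ABS) [M, generic] the diagonal argument. -/
theorem iso_of_diagonal {P G : Type*} [Group P] [Group G] (N : ℕ) (hN : 0 < N) (x : ℕ → P) (y : ℕ → G) (m : ℕ)
    (hfin : Finite ↥(Subgroup.closure ((fun g => ((x g, y g) : P × G)) '' {g | g < m})))
    (hbound : Nat.card ↥(Subgroup.closure ((fun g => ((x g, y g) : P × G)) '' {g | g < m})) ≤ N)
    (hH : Nat.card ↥(Subgroup.closure (x '' {g | g < m})) = N)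
    (hS : Nat.card ↥(Subgroup.closure (y '' {g | g < m})) = N) :
    Nonempty (↥(Subgroup.closure (x '' {g | g < m})) ≃* ↥(Subgroup.closure (y '' {g | g < m}))) := by
  set T : Subgroup (P × G) :=
    Subgroup.closure ((fun g => ((x g, y g) : P × G)) '' {g | g < m}) with hT
  have h1 : T.map (MonoidHom.fst P G) = Subgroup.closure (x '' {g | g < m}) := by
    rw [hT, MonoidHom.map_closure, Set.image_image]
    rfl
  have h2 : T.map (MonoidHom.snd P G) = Subgroup.closure (y '' {g | g < m}) := by
    rw [hT, MonoidHom.map_closure, Set.image_image]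
    rfl
  -- first projection
  let f1 : ↥T →* ↥(Subgroup.closure (x '' {g | g < m})) :=
    (MulEquiv.subgroupCongr h1).toMonoidHom.comp ((MonoidHom.fst P G).subgroupMap T)
  have hf1 : Function.Surjective f1 :=
    (MulEquiv.subgroupCongr h1).surjective.comp ((MonoidHom.fst P G).subgroupMap_surjective T)
  let f2 : ↥T →* ↥(Subgroup.closure (y '' {g | g < m})) :=
    (MulEquiv.subgroupCongr h2).toMonoidHom.comp ((MonoidHom.snd P G).subgroupMap T)
  have hf2 : Function.Surjective f2 :=
    (MulEquiv.subgroupCongr h2).surjective.comp ((MonoidHom.snd P G).subgroupMap_surjective T)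
  obtain ⟨e1⟩ := h3_equiv_of_surjective_of_card_le N hN hbound hH f1 hf1
  obtain ⟨e2⟩ := h3_equiv_of_surjective_of_card_le N hN hbound hS f2 hf2
  exact ⟨e1.symm.trans e2⟩

end Cfsg.Agent.Helper3.G24
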