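import Mathlib
import Cfsg.Prelude.Def_Characters
import Cfsg.Agent.Lib.Helper3.CharDecomp
import Cfsg.Agent.Lib.Helper3.CharIntegral

set_option autoImplicit false
set_option linter.unusedSectionVars false

namespace Cfsg.Agent.Helper3

open Module Representation

universe u

/-- A finite-dimensional representation of `G` over a subfield `K` of `ℂ`, bundled. -/
structure KRep (K : Subfield ℂ) (G : Type u) [Group G] where
  V : Type u
  [instACG : AddCommGroup V]
  [instMod : Module K V]
  [instFD : FiniteDimensional K V]
  σ : Representation K G V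

attribute [instance] KRep.instACG KRep.instMod KRep.instFD

namespace KRep

variable {K : Subfield ℂ} {G : Type u} [Group G]

/-- The complex-valued character of a `K`-representation. -/
noncomputable def char (R : KRep K G) : G → ℂ :=
  fun g => ((LinearMap.trace K R.V (R.σ g) : K) : ℂ)

/-- The dimension of a `K`-representation. -/
noncomputable def dim (R : KRep K G) : ℕ := finrank K R.V

theorem char_apply (R : KRep K G) (g : G) :
    R.char g = ((R.σ.character g : K) : ℂ) := rfl

theorem char_one (R : KRep K G) : R.char 1 = (R.dim : ℂ) := by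
  rw [char_apply, Representation.char_one]
  simp [dim]

theorem char_mem (R : KRep K G) (g : G) : R.char g ∈ K := (R.σ.character g).2

/-- The complexification of a `K`-representation with respect to a basis, as a complex matrix
representation. -/
noncomputable def toComplex (R : KRep K G) {n : ℕ} (b : Basis (Fin n) K R.V) :
    Representation ℂ G (Fin n → ℂ) where
  toFun g := Matrix.toLin' ((LinearMap.toMatrix b b (R.σ g)).map K.subtype)
  map_one' := by
    rw [map_one, Module.End.one_eq_id, LinearMap.toMatrix_id, Matrix.map_one _ (map_zero _) (map_one _),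
      Matrix.toLin'_one]
    rfl
  map_mul' g h := by
    rw [map_mul, LinearMap.toMatrix_mul, Matrix.map_mul, Matrix.toLin'_mul]
    rfl

theorem toComplex_toMatrix' (R : KRep K G) {n : ℕ} (b : Basis (Fin n) K R.V) (g : G)
    (i j : Fin n) :
    LinearMap.toMatrix' (R.toComplex b g) i j = ((LinearMap.toMatrix b b (R.σ g) i j : K) : ℂ) := by
  change LinearMap.toMatrix' (Matrix.toLin' ((LinearMap.toMatrix b b (R.σ g)).map K.subtype)) i j = _
  rw [LinearMap.toMatrix'_toLin']
  rfl

theorem toComplex_character (R : KRep K G) {n : ℕ} (b : Basis (Fin n) K R.V) :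
    (R.toComplex b).character = R.char := by
  funext g
  change LinearMap.trace ℂ _ (Matrix.toLin' ((LinearMap.toMatrix b b (R.σ g)).map K.subtype)) = _
  rw [Matrix.trace_toLin'_eq, char, LinearMap.trace_eq_matrix_trace K b]
  simp only [Matrix.trace, Matrix.diag_apply, Matrix.map_apply]
  rw [← map_sum]
  rfl

theorem isCharacter_char (R : KRep K G) : Cfsg.IsCharacter G R.char := by
  let b := Module.finBasis K R.V
  exact ⟨_, R.toComplex b, R.toComplex_character b⟩

/-- The direct sum of two `K`-representations. -/
noncomputable def add (R₁ R₂ : KRep K G) : KRep K G where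
  V := R₁.V × R₂.V
  σ :=
    { toFun := fun g => (R₁.σ g).prodMap (R₂.σ g)
      map_one' := by
        ext <;> simp
      map_mul' := fun g h => by
        ext <;> simp }

theorem add_char (R₁ R₂ : KRep K G) : (R₁.add R₂).char = R₁.char + R₂.char := by
  funext g
  change ((LinearMap.trace K (R₁.V × R₂.V) ((R₁.σ g).prodMap (R₂.σ g)) : K) : ℂ) = _
  rw [LinearMap.trace_prodMap']
  simp [char]

/-- The zero `K`-representation. -/
noncomputable def zero (K : Subfield ℂ) (G : Type u) [Group G] : KRep K G where
  V := PUnit
  σ := 1

theorem zero_char : (zero K G).char = 0 := by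
  funext g
  change ((LinearMap.trace K PUnit.{u+1} ((1 : Representation K G PUnit.{u+1}) g) : K) : ℂ) = 0
  have : (1 : Representation K G PUnit.{u+1}) g = 0 := Subsingleton.elim _ _
  rw [this, map_zero]
  rfl

theorem exists_nsmul {f : G → ℂ} (h : ∃ R : KRep K G, R.char = f) (m : ℕ) :
    ∃ R : KRep K G, R.char = m • f := by
  induction m with
  | zero => exact ⟨zero K G, by rw [zero_char, zero_smul]⟩
  | succ m ih =>
    obtain ⟨R₁, h₁⟩ := ih
    obtain ⟨R₂, h₂⟩ := h
    exact ⟨R₁.add R₂, by rw [add_char, h₁, h₂, succ_nsmul]⟩

theorem exists_sum {ι : Type*} (s : Finset ι) (f : ι → G → ℂ)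
    (h : ∀ i ∈ s, ∃ R : KRep K G, R.char = f i) :
    ∃ R : KRep K G, R.char = ∑ i ∈ s, f i := by
  classical
  induction s using Finset.induction_on with
  | empty => exact ⟨zero K G, by rw [zero_char, Finset.sum_empty]⟩
  | insert a s ha ih =>
    obtain ⟨R₁, h₁⟩ := h a (Finset.mem_insert_self a s)
    obtain ⟨R₂, h₂⟩ := ih (fun i hi => h i (Finset.mem_insert_of_mem hi))
    exact ⟨R₁.add R₂, by rw [add_char, h₁, h₂, Finset.sum_insert ha]⟩

/-- A subrepresentation as a `K`-representation. -/
noncomputable def ofSub (R : KRep K G) (W : Subrepresentation R.σ) : KRep K G where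
  V := W.toSubmodule
  σ := W.toRepresentation


theorem ofSub_dim (R : KRep K G) (W : Subrepresentation R.σ) :
    (R.ofSub W).dim = finrank K W.toSubmodule := rfl

theorem isCompl_toSubmodule {R : KRep K G} {W W' : Subrepresentation R.σ}
    (h : IsCompl W W') : IsCompl W.toSubmodule W'.toSubmodule := by
  constructor
  · rw [disjoint_iff]
    exact congrArg Subrepresentation.toSubmodule h.inf_eq_bot
  · rw [codisjoint_iff]
    exact congrArg Subrepresentation.toSubmodule h.sup_eq_top

theorem char_eq_add_of_isCompl (R : KRep K G) {W W' : Subrepresentation R.σ}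
    (h : IsCompl W W') : R.char = (R.ofSub W).char + (R.ofSub W').char := by
  funext g
  have hc := isCompl_toSubmodule h
  let N : Bool → Submodule K R.V := fun b => cond b W.toSubmodule W'.toSubmodule
  have hint : DirectSum.IsInternal N := by
    rw [DirectSum.isInternal_submodule_iff_isCompl N (i := true) (j := false) (by decide)
      (by ext b; cases b <;> simp)]
    exact hc
  have hf : ∀ b, Set.MapsTo (R.σ g) (N b) (N b) := by
    intro b
    cases b
    · exact fun v hv => W'.apply_mem_toSubmodule g hv
    · exact fun v hv => W.apply_mem_toSubmodule g hv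
  have hfin : ∀ b, Module.Finite K (N b) := fun b => by cases b <;> infer_instance
  have hfree : ∀ b, Module.Free K (N b) := fun b => by cases b <;> infer_instance
  have := LinearMap.trace_eq_sum_trace_restrict hint hf
  rw [Fintype.sum_bool] at this
  change ((LinearMap.trace K R.V (R.σ g) : K) : ℂ) = _
  rw [this]
  push_cast
  rfl

theorem dim_eq_add_of_isCompl (R : KRep K G) {W W' : Subrepresentation R.σ}
    (h : IsCompl W W') : R.dim = (R.ofSub W).dim + (R.ofSub W').dim := by
  have h1 := Submodule.finrank_add_eq_of_isCompl (isCompl_toSubmodule h)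
  rw [ofSub_dim, ofSub_dim]
  exact h1.symm

section Maschke

variable [Finite G]

instance neZero_card : NeZero (Nat.card G : K) :=
  ⟨Nat.cast_ne_zero.mpr Nat.card_pos.ne'⟩

theorem exists_compl (R : KRep K G) (W : Subrepresentation R.σ) :
    ∃ W' : Subrepresentation R.σ, IsCompl W W' :=
  exists_isCompl W

end Maschke

end KRep

end Cfsg.Agent.Helper3
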