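import Mathlib
import Cfsg.Prelude.Def_Characters
import Cfsg.Agent.Lib.Helper3.KRep
import Cfsg.Agent.Lib.Helper3.CharInd

set_option autoImplicit false
set_option linter.unusedSectionVars false

namespace Cfsg.Agent.Helper3

open Module Representation

universe u

section Coset

variable {G : Type u} [Group G] (E : Subgroup G)

/-- the bijection `(G ⧸ E) × E ≃ G`, `(q, e) ↦ q.out * e` -/
noncomputable def cosetEquiv : (G ⧸ E) × E ≃ G where
  toFun p := p.1.out * p.2
  invFun x := (QuotientGroup.mk x, ⟨(QuotientGroup.mk x : G ⧸ E).out⁻¹ * x, by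
      rw [← QuotientGroup.eq, QuotientGroup.out_eq']⟩)
  left_inv := by
    rintro ⟨q, e⟩
    have h1 : (QuotientGroup.mk (q.out * (e : G)) : G ⧸ E) = q := by
      rw [QuotientGroup.mk_mul_of_mem _ e.2, QuotientGroup.out_eq']
    apply Prod.ext
    · exact h1
    · apply Subtype.ext
      change (QuotientGroup.mk (q.out * (e : G)) : G ⧸ E).out⁻¹ * (q.out * (e : G)) = e
      rw [h1, inv_mul_cancel_left]
  right_inv x := by
    change (QuotientGroup.mk x : G ⧸ E).out * ((QuotientGroup.mk x : G ⧸ E).out⁻¹ * x) = x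
    rw [mul_inv_cancel_left]

theorem sum_eq_card_mul_sum_out [Fintype G] [Fintype E] [Fintype (G ⧸ E)] (F : G → ℂ)
    (hF : ∀ (x : G) (e : E), F (x * e) = F x) :
    ∑ x, F x = (Nat.card E : ℂ) * ∑ q : G ⧸ E, F q.out := by
  rw [← Equiv.sum_comp (cosetEquiv E) F, Fintype.sum_prod_type, Finset.mul_sum]
  apply Finset.sum_congr rfl
  intro q _
  have : ∀ e : E, F (cosetEquiv E (q, e)) = F q.out := fun e => hF q.out e
  simp_rw [this]
  rw [Finset.sum_const, Finset.card_univ, Nat.card_eq_fintype_card, nsmul_eq_mul]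

end Coset

section Monomial

open Classical

variable {K : Subfield ℂ} {G : Type u} [Group G] (E : Subgroup G) (lam : E →* ℂˣ)
  (hlam : ∀ e : E, ((lam e : ℂˣ) : ℂ) ∈ K)

/-- `lam` extended by zero, with values in `K` -/
noncomputable def lamDot : G → K :=
  fun x => if h : x ∈ E then ⟨((lam ⟨x, h⟩ : ℂˣ) : ℂ), hlam _⟩ else 0

theorem lamDot_of_mem {x : G} (h : x ∈ E) :
    lamDot E lam hlam x = ⟨((lam ⟨x, h⟩ : ℂˣ) : ℂ), hlam _⟩ := dif_pos h

theorem lamDot_of_not_mem {x : G} (h : x ∉ E) : lamDot E lam hlam x = 0 := dif_neg h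

theorem lamDot_val (x : G) :
    ((lamDot E lam hlam x : K) : ℂ) =
      Cfsg.extendByZero E (fun e => ((lam e : ℂˣ) : ℂ)) x := by
  by_cases h : x ∈ E
  · rw [lamDot_of_mem E lam hlam h, extendByZero_of_mem E _ h]
  · rw [lamDot_of_not_mem E lam hlam h, extendByZero_not_mem E _ h]
    rfl

theorem lamDot_one : lamDot E lam hlam 1 = 1 := by
  rw [lamDot_of_mem E lam hlam E.one_mem]
  apply Subtype.ext
  have : (⟨1, E.one_mem⟩ : E) = 1 := rfl
  show ((lam ⟨1, E.one_mem⟩ : ℂˣ) : ℂ) = ((1 : K) : ℂ)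
  rw [this, map_one]
  rfl

theorem lamDot_mul_of_mem (a : G) {b : G} (hb : b ∈ E) :
    lamDot E lam hlam (a * b) = lamDot E lam hlam a * lamDot E lam hlam b := by
  by_cases ha : a ∈ E
  · rw [lamDot_of_mem _ _ _ (E.mul_mem ha hb), lamDot_of_mem _ _ _ ha, lamDot_of_mem _ _ _ hb]
    apply Subtype.ext
    have : (⟨a * b, E.mul_mem ha hb⟩ : E) = ⟨a, ha⟩ * ⟨b, hb⟩ := rfl
    show ((lam ⟨a * b, E.mul_mem ha hb⟩ : ℂˣ) : ℂ) =
      ((lam ⟨a, ha⟩ : ℂˣ) : ℂ) * ((lam ⟨b, hb⟩ : ℂˣ) : ℂ)
    rw [this, map_mul, Units.val_mul]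
  · have hab : a * b ∉ E := fun h => ha (by
      have := E.mul_mem h (E.inv_mem hb)
      simpa using this)
    rw [lamDot_of_not_mem _ _ _ hab, lamDot_of_not_mem _ _ _ ha, zero_mul]

/-- the monomial matrices -/
noncomputable def monoMat (g : G) : Matrix (G ⧸ E) (G ⧸ E) K :=
  fun q r => lamDot E lam hlam (q.out⁻¹ * g * r.out)

theorem monoMat_one : monoMat E lam hlam 1 = 1 := by
  apply Matrix.ext
  intro q r
  rw [monoMat, Matrix.one_apply]
  split_ifs with h
  · subst h
    rw [mul_one, inv_mul_cancel, lamDot_one]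
  · apply lamDot_of_not_mem
    intro hmem
    apply h
    rw [mul_one] at hmem
    have := QuotientGroup.eq.mpr hmem
    rwa [QuotientGroup.out_eq', QuotientGroup.out_eq'] at this

theorem monoMat_mul [Fintype (G ⧸ E)] (g h : G) :
    monoMat E lam hlam (g * h) = monoMat E lam hlam g * monoMat E lam hlam h := by
  apply Matrix.ext
  intro q r
  rw [Matrix.mul_apply]
  rw [Finset.sum_eq_single (QuotientGroup.mk (h * r.out) : G ⧸ E)]
  · have hb : (QuotientGroup.mk (h * r.out) : G ⧸ E).out⁻¹ * h * r.out ∈ E := by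
      rw [mul_assoc, ← QuotientGroup.eq, QuotientGroup.out_eq']
    change lamDot E lam hlam (q.out⁻¹ * (g * h) * r.out) =
      lamDot E lam hlam (q.out⁻¹ * g * (QuotientGroup.mk (h * r.out) : G ⧸ E).out) *
        lamDot E lam hlam ((QuotientGroup.mk (h * r.out) : G ⧸ E).out⁻¹ * h * r.out)
    rw [← lamDot_mul_of_mem _ _ _ _ hb]
    congr 1
    group
  · intro s _ hs
    have : s.out⁻¹ * h * r.out ∉ E := by
      intro hmem
      apply hs
      rw [mul_assoc, ← QuotientGroup.eq, QuotientGroup.out_eq'] at hmem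
      exact hmem
    change lamDot E lam hlam _ * lamDot E lam hlam (s.out⁻¹ * h * r.out) = 0
    rw [lamDot_of_not_mem _ _ _ this, mul_zero]
  · intro h
    exact absurd (Finset.mem_univ _) h

/-- the monomial `K`-representation induced from `lam` -/
noncomputable def monoRep [Fintype G] : KRep K G where
  V := (G ⧸ E) → K
  σ :=
    { toFun := fun g => Matrix.toLin' (monoMat E lam hlam g)
      map_one' := by
        rw [monoMat_one, Matrix.toLin'_one]
        rfl
      map_mul' := fun g h => by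
        rw [monoMat_mul, Matrix.toLin'_mul]
        rfl }

theorem monoRep_char [Fintype G] :
    (monoRep E lam hlam).char = Cfsg.indFun E (fun e => ((lam e : ℂˣ) : ℂ)) := by
  funext g
  change ((LinearMap.trace K _ (Matrix.toLin' (monoMat E lam hlam g)) : K) : ℂ) = _
  rw [Matrix.trace_toLin'_eq, Matrix.trace]
  push_cast
  simp only [Matrix.diag_apply, monoMat, lamDot_val]
  unfold Cfsg.indFun
  have hF : ∀ (x : G) (e : E),
      Cfsg.extendByZero E (fun e => ((lam e : ℂˣ) : ℂ)) ((x * e)⁻¹ * g * (x * e)) =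
      Cfsg.extendByZero E (fun e => ((lam e : ℂˣ) : ℂ)) (x⁻¹ * g * x) := by
    intro x e
    have hrw : (x * (e : G))⁻¹ * g * (x * e) = (e : G)⁻¹ * (x⁻¹ * g * x) * e := by group
    rw [hrw]
    by_cases hy : x⁻¹ * g * x ∈ E
    · have hy' : (e : G)⁻¹ * (x⁻¹ * g * x) * e ∈ E := E.mul_mem (E.mul_mem (E.inv_mem e.2) hy) e.2
      rw [extendByZero_of_mem E _ hy', extendByZero_of_mem E _ hy]
      have : (⟨(e : G)⁻¹ * (x⁻¹ * g * x) * e, hy'⟩ : E) = e⁻¹ * ⟨x⁻¹ * g * x, hy⟩ * e := rfl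
      rw [this, map_mul, map_mul, map_inv, mul_comm, ← mul_assoc, mul_inv_cancel, one_mul]
    · have hy' : (e : G)⁻¹ * (x⁻¹ * g * x) * e ∉ E := by
        intro h
        apply hy
        have := E.mul_mem (E.mul_mem e.2 h) (E.inv_mem e.2)
        have h2 : (e : G) * ((e : G)⁻¹ * (x⁻¹ * g * x) * e) * (e : G)⁻¹ = x⁻¹ * g * x := by group
        rwa [h2] at this
      rw [extendByZero_not_mem E _ hy', extendByZero_not_mem E _ hy]
  rw [sum_eq_card_mul_sum_out E _ hF, ← mul_assoc, inv_mul_cancel₀, one_mul]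
  have : 0 < Nat.card E := Nat.card_pos
  exact_mod_cast this.ne'

end Monomial

end Cfsg.Agent.Helper3
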