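import Mathlib
import Cfsg.Prelude.Def_Characters
import Cfsg.Agent.Lib.Helper3.KRep
import Cfsg.Agent.Lib.Helper3.CharExceptional

set_option autoImplicit false
set_option linter.unusedSectionVars false

namespace Cfsg.Agent.Helper3

open Module Representation

open scoped ComplexConjugate

universe u

section Convolution

variable {G : Type u} [Group G] [Fintype G]

/-- Generalized orthogonality relation. -/
theorem irr_convolution {χ : G → ℂ} (hχ : Cfsg.IsIrrCharacter G χ) (y : G) :
    ∑ h, χ h⁻¹ * χ (h * y) = (Nat.card G : ℂ) / χ 1 * χ y := by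
  have hnorm := classInner_irr_self hχ
  obtain ⟨n, ρ, hirr, rfl⟩ := hχ
  haveI := hirr
  have hV := nontrivial_of_irr ρ
  have hn : (finrank ℂ (Fin n → ℂ) : ℂ) ≠ 0 := by
    exact_mod_cast (Module.finrank_pos (R := ℂ) (M := Fin n → ℂ)).ne'
  have hcl : Cfsg.IsClassFunction G (fun h => ρ.character h⁻¹) := by
    intro g x
    change ρ.character (x * g * x⁻¹)⁻¹ = ρ.character g⁻¹
    have : (x * g * x⁻¹)⁻¹ = x * g⁻¹ * x⁻¹ := by group
    rw [this, Representation.char_conj]
  have h1 := opSum_eq_smul_of_irr ρ (fun h => ρ.character h⁻¹) hcl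
  have hsum : ∑ g, ρ.character g⁻¹ * ρ.character g = (Nat.card G : ℂ) := by
    unfold Cfsg.classInner at hnorm
    have hG : (Nat.card G : ℂ) ≠ 0 := card_ne_zero_complex
    have : ∑ g, ρ.character g * conj (ρ.character g) = (Nat.card G : ℂ) := by
      field_simp at hnorm
      exact hnorm
    rw [← this]
    apply Finset.sum_congr rfl
    intro g _
    rw [char_inv ρ g, mul_comm]
  rw [hsum] at h1
  have h2 : LinearMap.trace ℂ _ (opSum ρ (fun h => ρ.character h⁻¹) * ρ y) =
      ∑ h, ρ.character h⁻¹ * ρ.character (h * y) := by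
    unfold opSum
    rw [Finset.sum_mul, map_sum]
    apply Finset.sum_congr rfl
    intro h _
    rw [smul_mul_assoc, map_smul, ← map_mul]
    rfl
  rw [← h2, h1, smul_mul_assoc, one_mul, map_smul, Representation.char_one]
  rfl

end Convolution


section OpK

variable {K : Subfield ℂ} {G : Type u} [Group G] [Fintype G]

/-- the operator `∑ g, c g • σ g` on a `K`-representation -/
noncomputable def KRep.opK (R : KRep K G) (c : G → K) : Module.End K R.V :=
  ∑ g, c g • R.σ g

theorem KRep.opK_comm (R : KRep K G) (c : G → K) (hc : ∀ g h, c (h * g * h⁻¹) = c g) (h : G) :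
    R.opK c * R.σ h = R.σ h * R.opK c := by
  unfold KRep.opK
  rw [Finset.sum_mul, Finset.mul_sum]
  refine Fintype.sum_equiv (MulAut.conj h⁻¹).toEquiv _ _ ?_
  intro g
  simp only [MulEquiv.toEquiv_eq_coe, MulEquiv.coe_toEquiv, MulAut.conj_apply, inv_inv]
  have h1 : c (h⁻¹ * g * h) = c g := by
    have := hc g h⁻¹
    simpa using this
  rw [h1, smul_mul_assoc, mul_smul_comm, ← map_mul, ← map_mul]
  congr 2
  group

theorem KRep.opK_idem (R : KRep K G) (c : G → K)
    (hc : ∀ x, ∑ g, c g * c (g⁻¹ * x) = c x) : R.opK c * R.opK c = R.opK c := by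
  unfold KRep.opK
  rw [Finset.sum_mul]
  have h1 : ∀ g : G, (c g • R.σ g) * ∑ h, c h • R.σ h = ∑ x, (c g * c (g⁻¹ * x)) • R.σ x := by
    intro g
    rw [Finset.mul_sum]
    refine Fintype.sum_equiv (Equiv.mulLeft g) _ _ ?_
    intro h
    simp only [Equiv.coe_mulLeft, inv_mul_cancel_left]
    rw [smul_mul_assoc, mul_smul_comm, ← map_mul, smul_smul]
  simp_rw [h1]
  rw [Finset.sum_comm]
  apply Finset.sum_congr rfl
  intro x _
  rw [← Finset.sum_smul, hc x]

theorem KRep.trace_opK (R : KRep K G) (c : G → K) :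
    LinearMap.trace K R.V (R.opK c) = ∑ g, c g * LinearMap.trace K R.V (R.σ g) := by
  simp [KRep.opK, map_sum]

end OpK

section LemmaA

variable {K : Subfield ℂ} {G : Type u} [Group G] [Fintype G]

/-- the coefficients of the central idempotent of `χ` -/
noncomputable def idemCoef (χ : G → ℂ) (hχK : ∀ g, χ g ∈ K) : G → K :=
  fun g => ⟨χ 1 / (Nat.card G : ℂ) * χ g⁻¹,
    K.mul_mem (K.div_mem (hχK 1) (natCast_mem K _)) (hχK g⁻¹)⟩

theorem idemCoef_val (χ : G → ℂ) (hχK : ∀ g, χ g ∈ K) (g : G) :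
    ((idemCoef χ hχK g : K) : ℂ) = χ 1 / (Nat.card G : ℂ) * χ g⁻¹ := rfl

theorem idemCoef_class {χ : G → ℂ} (hχ : Cfsg.IsIrrCharacter G χ) (hχK : ∀ g, χ g ∈ K)
    (g h : G) : idemCoef χ hχK (h * g * h⁻¹) = idemCoef χ hχK g := by
  apply Subtype.ext
  rw [idemCoef_val, idemCoef_val]
  have hcl := isClassFunction_of_isIrrCharacter hχ
  have : (h * g * h⁻¹)⁻¹ = h * g⁻¹ * h⁻¹ := by group
  rw [this, hcl g⁻¹ h]

theorem idemCoef_conv {χ : G → ℂ} (hχ : Cfsg.IsIrrCharacter G χ) (hχK : ∀ g, χ g ∈ K)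
    (x : G) : ∑ g, idemCoef χ hχK g * idemCoef χ hχK (g⁻¹ * x) = idemCoef χ hχK x := by
  apply Subtype.ext
  have hcoe : ((∑ g, idemCoef χ hχK g * idemCoef χ hχK (g⁻¹ * x) : K) : ℂ) =
      ∑ g, ((idemCoef χ hχK g : K) : ℂ) * ((idemCoef χ hχK (g⁻¹ * x) : K) : ℂ) := by
    change K.subtype _ = _
    rw [map_sum]
    rfl
  rw [hcoe]
  simp_rw [idemCoef_val]
  have hcl := isClassFunction_of_isIrrCharacter hχ
  have hconv := irr_convolution hχ x⁻¹
  obtain ⟨n, hn0, hn⟩ := irr_one_pos ⟨χ, hχ⟩
  have hχ1 : χ 1 ≠ 0 := by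
    change (⟨χ, hχ⟩ : Cfsg.IrrCharacter G).1 1 ≠ 0
    rw [hn]
    exact_mod_cast hn0.ne'
  have hG : (Nat.card G : ℂ) ≠ 0 := card_ne_zero_complex
  have h1 : ∀ g : G, χ (g⁻¹ * x)⁻¹ = χ (g * x⁻¹) := by
    intro g
    have : (g⁻¹ * x)⁻¹ = x⁻¹ * g := by group
    rw [this]
    have h2 := hcl (x⁻¹ * g) g
    have : g * (x⁻¹ * g) * g⁻¹ = g * x⁻¹ := by group
    rw [this] at h2
    exact h2.symm
  simp_rw [h1]
  have : ∑ g, χ 1 / (Nat.card G : ℂ) * χ g⁻¹ * (χ 1 / (Nat.card G : ℂ) * χ (g * x⁻¹)) =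
      (χ 1 / (Nat.card G : ℂ)) ^ 2 * ∑ g, χ g⁻¹ * χ (g * x⁻¹) := by
    rw [Finset.mul_sum]
    apply Finset.sum_congr rfl
    intro g _
    ring
  rw [this, hconv]
  field_simp

/-- Lemma A: a `K`-irreducible representation whose character contains the `K`-valued irreducible
character `χ` has character a multiple of `χ`. -/
theorem KRep.char_eq_of_irreducible (R : KRep K G) (hirr : R.σ.IsIrreducible) {χ : G → ℂ}
    (hχ : Cfsg.IsIrrCharacter G χ) (hχK : ∀ g, χ g ∈ K)
    (hne : Cfsg.classInner R.char χ ≠ 0) : ∃ d : ℕ, 0 < d ∧ R.char = (d : ℂ) • χ := by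
  classical
  set c := idemCoef χ hχK with hc
  set e := R.opK c with he
  have hidem : e * e = e := R.opK_idem c (idemCoef_conv hχ hχK)
  have hcomm : ∀ h, e * R.σ h = R.σ h * e := R.opK_comm c (fun g h => idemCoef_class hχ hχK g h)
  have hχchar := isCharacter_of_isIrrCharacter hχ
  obtain ⟨n, hn0, hn⟩ := irr_one_pos ⟨χ, hχ⟩
  have hn' : χ 1 = (n : ℂ) := hn
  have hχ1 : χ 1 ≠ 0 := by rw [hn']; exact_mod_cast hn0.ne'
  have hG : (Nat.card G : ℂ) ≠ 0 := card_ne_zero_complex
  -- the trace of `e`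
  have htr : ((LinearMap.trace K R.V e : K) : ℂ) = χ 1 * Cfsg.classInner R.char χ := by
    rw [he, R.trace_opK]
    have hcoe : ((∑ g, c g * LinearMap.trace K R.V (R.σ g) : K) : ℂ) =
        ∑ g, ((c g : K) : ℂ) * R.char g := by
      change K.subtype _ = _
      rw [map_sum]
      rfl
    rw [hcoe]
    unfold Cfsg.classInner
    rw [Finset.mul_sum, Finset.mul_sum]
    apply Finset.sum_congr rfl
    intro g _
    rw [hc, idemCoef_val, isCharacter_inv hχchar g]
    ring
  -- the range of `e` is a subrepresentation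
  let W : Subrepresentation R.σ :=
    { toSubmodule := LinearMap.range e
      apply_mem_toSubmodule := by
        intro g v hv
        obtain ⟨w, rfl⟩ := hv
        refine ⟨R.σ g w, ?_⟩
        have := congrArg (fun f : Module.End K R.V => f w) (hcomm g)
        exact this }
  haveI := hirr
  have hdim : (R.dim : ℂ) = χ 1 * Cfsg.classInner R.char χ := by
    rcases eq_bot_or_eq_top W with h | h
    · exfalso
      have he0 : e = 0 := by
        ext v
        have : e v ∈ W.toSubmodule := ⟨v, rfl⟩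
        rw [h] at this
        exact this
      rw [he0, map_zero] at htr
      have : χ 1 * Cfsg.classInner R.char χ = 0 := by rw [← htr]; rfl
      rcases mul_eq_zero.mp this with h1 | h1
      · exact hχ1 h1
      · exact hne h1
    · have he1 : e = 1 := by
        ext v
        have : v ∈ W.toSubmodule := by rw [h]; trivial
        obtain ⟨w, rfl⟩ := this
        have := congrArg (fun f : Module.End K R.V => f w) hidem
        exact this
      rw [he1, LinearMap.trace_one] at htr
      rw [← htr]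
      simp [KRep.dim]
  -- decompose the character
  have hψ := R.isCharacter_char
  have hdec := isCharacter_eq_sum_irrMult hψ
  have hmχ := irrMult_spec hψ ⟨χ, hχ⟩
  have hmχ' : Cfsg.classInner R.char χ = (irrMult R.char ⟨χ, hχ⟩ : ℂ) := hmχ
  have hdeg : ∀ θ : Cfsg.IrrCharacter G, ∃ k : ℕ, 0 < k ∧ (θ : G → ℂ) 1 = (k : ℂ) := irr_one_pos
  choose deg hdegpos hdegeq using hdeg
  have hsum : R.dim = ∑ θ : Cfsg.IrrCharacter G, irrMult R.char θ * deg θ := by
    have h1 := congrFun hdec 1
    rw [R.char_one, Finset.sum_apply] at h1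
    have : ∀ θ : Cfsg.IrrCharacter G, ((irrMult R.char θ : ℂ) • (θ : G → ℂ)) 1 =
        ((irrMult R.char θ * deg θ : ℕ) : ℂ) := by
      intro θ
      rw [Pi.smul_apply, hdegeq θ, smul_eq_mul]
      push_cast
      rfl
    simp_rw [this] at h1
    exact_mod_cast h1
  have hdim' : R.dim = deg ⟨χ, hχ⟩ * irrMult R.char ⟨χ, hχ⟩ := by
    have : χ 1 = (deg ⟨χ, hχ⟩ : ℂ) := hdegeq ⟨χ, hχ⟩
    rw [hmχ', this] at hdim
    exact_mod_cast hdim
  have hsplit := Finset.add_sum_erase Finset.univ
    (fun θ : Cfsg.IrrCharacter G => irrMult R.char θ * deg θ) (Finset.mem_univ ⟨χ, hχ⟩)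
  have hrest : ∑ θ ∈ Finset.univ.erase (⟨χ, hχ⟩ : Cfsg.IrrCharacter G),
      irrMult R.char θ * deg θ = 0 := by
    have h2 : irrMult R.char ⟨χ, hχ⟩ * deg ⟨χ, hχ⟩ +
        ∑ θ ∈ Finset.univ.erase (⟨χ, hχ⟩ : Cfsg.IrrCharacter G), irrMult R.char θ * deg θ =
        deg ⟨χ, hχ⟩ * irrMult R.char ⟨χ, hχ⟩ := by
      rw [hsplit, ← hsum, hdim']
    rw [mul_comm] at h2
    omega
  have hothers : ∀ θ : Cfsg.IrrCharacter G, θ ≠ ⟨χ, hχ⟩ → irrMult R.char θ = 0 := by
    intro θ hθ
    have := (Finset.sum_eq_zero_iff.mp hrest) θ (Finset.mem_erase.mpr ⟨hθ, Finset.mem_univ _⟩)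
    rcases Nat.mul_eq_zero.mp this with h | h
    · exact h
    · exact absurd h (hdegpos θ).ne'
  refine ⟨irrMult R.char ⟨χ, hχ⟩, ?_, ?_⟩
  · rcases Nat.eq_zero_or_pos (irrMult R.char ⟨χ, hχ⟩) with h | h
    · exfalso
      apply hne
      rw [hmχ', h]
      simp
    · exact h
  · conv_lhs => rw [hdec]
    rw [Finset.sum_eq_single (⟨χ, hχ⟩ : Cfsg.IrrCharacter G)]
    · intro b _ hb
      rw [hothers b hb]
      simp
    · intro h
      exact absurd (Finset.mem_univ _) h

end LemmaA

section Divisibility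

variable {K : Subfield ℂ} {G : Type u} [Group G] [Fintype G]

theorem im_apply_K {V W : Type*} [AddCommGroup V] [Module K V] [AddCommGroup W] [Module K W]
    {ρ : Representation K G V} {σ : Representation K G W}
    (f : IntertwiningMap ρ σ) (g : G) (v : V) :
    f.toLinearMap (ρ g v) = σ g (f.toLinearMap v) :=
  LinearMap.congr_fun (f.isIntertwining' g) v

/-- range of an intertwining map -/
noncomputable def rangeSubK {V W : Type*} [AddCommGroup V] [Module K V] [AddCommGroup W] [Module K W]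
    {ρ : Representation K G V} {σ : Representation K G W}
    (f : IntertwiningMap ρ σ) : Subrepresentation σ where
  toSubmodule := LinearMap.range f.toLinearMap
  apply_mem_toSubmodule g w hw := by
    obtain ⟨v, rfl⟩ := hw
    exact ⟨ρ g v, im_apply_K f g v⟩

/-- an injective intertwining map is an equivalence onto its range -/
noncomputable def equivRangeK {V W : Type*} [AddCommGroup V] [Module K V] [AddCommGroup W]
    [Module K W] {ρ : Representation K G V} {σ : Representation K G W}
    (f : IntertwiningMap ρ σ) (hf : Function.Injective f.toLinearMap) :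
    ρ.Equiv (rangeSubK f).toRepresentation :=
  Representation.Equiv.mk (LinearEquiv.ofInjective f.toLinearMap hf) (fun g => by
    ext v
    exact im_apply_K f g v)

theorem KRep.classInner_char_nat (R : KRep K G) {χ : G → ℂ} (hχ : Cfsg.IsIrrCharacter G χ) :
    ∃ m : ℕ, Cfsg.classInner R.char χ = (m : ℂ) :=
  classInner_isCharacter_nat R.isCharacter_char (isCharacter_of_isIrrCharacter hχ)

theorem KRep.dim_pos_of_inner_ne_zero (R : KRep K G) {χ : G → ℂ}
    (hne : Cfsg.classInner R.char χ ≠ 0) : 0 < R.dim := by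
  rcases Nat.eq_zero_or_pos R.dim with h | h
  · exfalso
    apply hne
    have hsub : Subsingleton R.V := Module.finrank_zero_iff.mp h
    have : R.char = 0 := by
      funext g
      have : R.σ g = 0 := Subsingleton.elim _ _
      change ((LinearMap.trace K R.V (R.σ g) : K) : ℂ) = 0
      rw [this, map_zero]
      rfl
    rw [this, classInner_zero_left]
  · exact h

/-- Multiplicities of `χ` in characters of `K`-representations are divisible by the multiplicity
`d₀` in a `K`-irreducible representation with character `d₀ χ`. -/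
theorem KRep.dvd_mult (R₀ : KRep K G) (hirr : R₀.σ.IsIrreducible) {χ : G → ℂ}
    (hχ : Cfsg.IsIrrCharacter G χ) (d₀ : ℕ) (hd₀ : 0 < d₀) (h₀ : R₀.char = (d₀ : ℂ) • χ) :
    ∀ (n : ℕ) (R : KRep K G), R.dim = n → ∀ m : ℕ, Cfsg.classInner R.char χ = (m : ℂ) →
      d₀ ∣ m := by
  classical
  haveI := hirr
  have hχchar := isCharacter_of_isIrrCharacter hχ
  have hG : (Nat.card G : ℂ) ≠ 0 := card_ne_zero_complex
  have hnorm : Cfsg.classInner χ χ = 1 := classInner_irr_self hχ
  have hR₀inner : Cfsg.classInner R₀.char χ = (d₀ : ℂ) := by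
    rw [h₀, classInner_smul_left, hnorm, mul_one]
  intro n
  induction n using Nat.strong_induction_on with
  | _ n ih =>
  intro R hn m hm
  rcases Nat.eq_zero_or_pos m with hm0 | hmpos
  · rw [hm0]; exact dvd_zero _
  -- dimension of the space of intertwining maps
  haveI : Invertible (Nat.card G : K) := invertibleOfNonzero (NeZero.ne _)
  have hfin := Representation.card_inv_mul_sum_char_mul_char_eq_finrank R₀.σ R.σ
  have hfinC : (finrank K (IntertwiningMap R₀.σ R.σ) : ℂ) = (d₀ : ℂ) * (m : ℂ) := by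
    have h1 : (((Nat.card G : K)⁻¹ * ∑ g, R.σ.character g * R₀.σ.character g⁻¹ : K) : ℂ) =
        (((finrank K (IntertwiningMap R₀.σ R.σ) : ℕ) : K) : ℂ) := congrArg Subtype.val hfin
    push_cast at h1
    rw [← h1, ← hm]
    unfold Cfsg.classInner
    have h4 : ∀ g, ((R.σ.character g : K) : ℂ) * ((R₀.σ.character g⁻¹ : K) : ℂ) =
        (d₀ : ℂ) * (R.char g * conj (χ g)) := by
      intro g
      have e1 : ((R₀.σ.character g⁻¹ : K) : ℂ) = R₀.char g⁻¹ := rfl
      have e2 : ((R.σ.character g : K) : ℂ) = R.char g := rfl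
      rw [e1, e2, h₀, Pi.smul_apply, smul_eq_mul, isCharacter_inv hχchar g]
      ring
    simp_rw [h4]
    rw [← Finset.mul_sum]
    ring
  have hfin0 : finrank K (IntertwiningMap R₀.σ R.σ) ≠ 0 := by
    intro h
    rw [h] at hfinC
    have : (d₀ : ℂ) * (m : ℂ) ≠ 0 := by
      apply mul_ne_zero <;> exact_mod_cast (by omega)
    exact this (by rw [← hfinC]; simp)
  have hex : ∃ f : IntertwiningMap R₀.σ R.σ, f ≠ 0 := by
    by_contra hne
    push Not at hne
    apply hfin0
    haveI : Subsingleton (IntertwiningMap R₀.σ R.σ) :=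
      ⟨fun a b => (hne a).trans (hne b).symm⟩
    exact Module.finrank_zero_of_subsingleton
  obtain ⟨f, hf⟩ := hex
  have hinj : Function.Injective f.toLinearMap := by
    rcases IsIrreducible.injective_or_eq_zero f with h | h
    · exact h
    · exact absurd h hf
  obtain ⟨W', hW'⟩ := R.exists_compl (rangeSubK f)
  have hchar := R.char_eq_add_of_isCompl hW'
  have hdim := R.dim_eq_add_of_isCompl hW'
  have hWchar : (R.ofSub (rangeSubK f)).char = R₀.char := by
    funext g
    have := congrFun (Representation.char_iso (equivRangeK f hinj)) g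
    change (((rangeSubK f).toRepresentation.character g : K) : ℂ) = ((R₀.σ.character g : K) : ℂ)
    rw [this]
  have hWdim : (R.ofSub (rangeSubK f)).dim = R₀.dim := by
    have := (equivRangeK f hinj).toLinearEquiv.finrank_eq
    exact this.symm
  have hR₀pos : 0 < R₀.dim := by
    apply KRep.dim_pos_of_inner_ne_zero R₀ (χ := χ)
    rw [hR₀inner]
    exact_mod_cast hd₀.ne'
  obtain ⟨m', hm'⟩ := (R.ofSub W').classInner_char_nat hχ
  have hmm : m = d₀ + m' := by
    have : Cfsg.classInner R.char χ = Cfsg.classInner R₀.char χ +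
        Cfsg.classInner (R.ofSub W').char χ := by
      rw [hchar, hWchar, classInner_add_left]
    rw [hm, hR₀inner, hm'] at this
    exact_mod_cast this
  have hlt : (R.ofSub W').dim < n := by
    rw [← hn, hdim, hWdim]
    omega
  have := ih _ hlt (R.ofSub W') rfl m' hm'
  rw [hmm]
  exact dvd_add (dvd_refl _) this

/-- From a `K`-representation containing `χ` we get a `K`-irreducible one containing `χ`. -/
theorem KRep.exists_irreducible {χ : G → ℂ} (R₁ : KRep K G)
    (h₁ : Cfsg.classInner R₁.char χ ≠ 0) :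
    ∃ R₀ : KRep K G, R₀.σ.IsIrreducible ∧ Cfsg.classInner R₀.char χ ≠ 0 := by
  classical
  have hex : ∃ n : ℕ, ∃ R : KRep K G, R.dim = n ∧ Cfsg.classInner R.char χ ≠ 0 :=
    ⟨_, R₁, rfl, h₁⟩
  obtain ⟨R₀, hR₀dim, hR₀⟩ := Nat.find_spec hex
  have hmin : ∀ R : KRep K G, Cfsg.classInner R.char χ ≠ 0 → R₀.dim ≤ R.dim := by
    intro R hR
    rw [hR₀dim]
    exact Nat.find_min' hex ⟨R, rfl, hR⟩
  refine ⟨R₀, ?_, hR₀⟩
  have hpos := KRep.dim_pos_of_inner_ne_zero R₀ hR₀
  have hnt : Nontrivial R₀.V := Module.finrank_pos_iff.mp hpos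
  have key : ∀ W : Subrepresentation R₀.σ,
      Cfsg.classInner (R₀.ofSub W).char χ ≠ 0 → W = ⊤ := by
    intro W hW
    have h1 := hmin _ hW
    rw [KRep.ofSub_dim] at h1
    have h2 : W.toSubmodule = ⊤ := by
      apply Submodule.eq_top_of_finrank_eq
      exact le_antisymm (Submodule.finrank_le _) h1
    apply Subrepresentation.toSubmodule_injective
    rw [h2]
    rfl
  refine { exists_pair_ne := ⟨⊥, ⊤, ?_⟩, eq_bot_or_eq_top := ?_ }
  · intro h
    obtain ⟨v, hv⟩ := exists_ne (0 : R₀.V)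
    have : v ∈ (⊤ : Subrepresentation R₀.σ) := trivial
    rw [← h] at this
    exact hv this
  · intro W
    obtain ⟨W', hW'⟩ := R₀.exists_compl W
    have hchar := R₀.char_eq_add_of_isCompl hW'
    have hsum : Cfsg.classInner R₀.char χ = Cfsg.classInner (R₀.ofSub W).char χ +
        Cfsg.classInner (R₀.ofSub W').char χ := by
      conv_lhs => rw [hchar]
      rw [classInner_add_left]
    by_cases hW : Cfsg.classInner (R₀.ofSub W).char χ = 0
    · left
      have hW'ne : Cfsg.classInner (R₀.ofSub W').char χ ≠ 0 := by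
        intro h
        apply hR₀
        rw [hsum, hW, h, add_zero]
      have := key W' hW'ne
      rw [this] at hW'
      have := hW'.inf_eq_bot
      rwa [inf_top_eq] at this
    · right
      exact key W hW

end Divisibility

end Cfsg.Agent.Helper3
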