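import Mathlib
import Cfsg.Prelude.Def_Characters
import Cfsg.Agent.Lib.Helper3.KSchur
import Cfsg.Agent.Lib.Helper3.KMonomial
import Cfsg.Agent.S0163
import Cfsg.Agent.S0153

set_option autoImplicit false
set_option linter.unusedSectionVars false

namespace Cfsg.Agent.Helper3

open Module Representation

universe u

section Split

variable {G : Type u} [Group G] [Fintype G]

/-- Brauer: if the subfield `K` of `ℂ` contains the values of all linear characters of all
subgroups of `G`, every irreducible character of `G` is afforded by a `K`-representation. -/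
theorem exists_krep_of_irr (K : Subfield ℂ)
    (hK : ∀ (E : Subgroup G) (lam : E →* ℂˣ) (e : E), ((lam e : ℂˣ) : ℂ) ∈ K)
    {χ : G → ℂ} (hχ : Cfsg.IsIrrCharacter G χ) : ∃ R : KRep K G, R.char = χ := by
  classical
  obtain ⟨l, -, hl⟩ := Cfsg.Agent.S0163.result χ (isCharacter_of_isIrrCharacter hχ)
  let Rt : ((E : Subgroup G) × ((E →* ℂˣ) × ℤ)) → KRep K G :=
    fun t => monoRep t.1 t.2.1 (hK t.1 t.2.1)
  have hterm : ∀ t : (E : Subgroup G) × ((E →* ℂˣ) × ℤ),
      Cfsg.indFun t.1 (fun e => ((t.2.1 e : ℂˣ) : ℂ)) = (Rt t).char :=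
    fun t => (monoRep_char t.1 t.2.1 (hK t.1 t.2.1)).symm
  have hχeq : χ = (l.map fun t => (t.2.2 : ℂ) • (Rt t).char).sum := by
    rw [hl]
    congr 1
    apply List.map_congr_left
    intro t _
    rw [hterm t]
  have hm : ∀ t, ∃ m : ℕ, Cfsg.classInner (Rt t).char χ = (m : ℂ) :=
    fun t => (Rt t).classInner_char_nat hχ
  choose m hm using hm
  -- general facts about list sums
  have L1 : ∀ (l' : List ((E : Subgroup G) × ((E →* ℂˣ) × ℤ))) (g : G),
      (l'.map fun t => (t.2.2 : ℂ) • (Rt t).char).sum g ∈ K := by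
    intro l' g
    induction l' with
    | nil => simp
    | cons a l' ih =>
      rw [List.map_cons, List.sum_cons, Pi.add_apply, Pi.smul_apply, smul_eq_mul]
      exact K.add_mem (K.mul_mem (intCast_mem K _) ((Rt a).char_mem g)) ih
  have L2 : ∀ (l' : List ((E : Subgroup G) × ((E →* ℂˣ) × ℤ))),
      Cfsg.classInner (l'.map fun t => (t.2.2 : ℂ) • (Rt t).char).sum χ =
        (((l'.map fun t => t.2.2 * (m t : ℤ)).sum : ℤ) : ℂ) := by
    intro l'
    induction l' with
    | nil => simp [classInner_zero_left]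
    | cons a l' ih =>
      rw [List.map_cons, List.sum_cons, classInner_add_left, classInner_smul_left, ih, hm a,
        List.map_cons, List.sum_cons]
      push_cast
      rfl
  have hχK : ∀ g, χ g ∈ K := by
    intro g
    rw [hχeq]
    exact L1 l g
  have hone : (l.map fun t => t.2.2 * (m t : ℤ)).sum = 1 := by
    have h1 := L2 l
    rw [← hχeq, classInner_irr_self hχ] at h1
    exact_mod_cast h1.symm
  -- some term has nonzero multiplicity
  have hex : ∃ t ∈ l, m t ≠ 0 := by
    by_contra hne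
    push Not at hne
    have : (l.map fun t => t.2.2 * (m t : ℤ)).sum = 0 := by
      apply List.sum_eq_zero
      intro x hx
      obtain ⟨t, ht, rfl⟩ := List.mem_map.mp hx
      rw [hne t ht]
      simp
    rw [this] at hone
    exact zero_ne_one hone
  obtain ⟨t₁, -, ht₁⟩ := hex
  have hR₁ : Cfsg.classInner (Rt t₁).char χ ≠ 0 := by
    rw [hm t₁]
    exact_mod_cast ht₁
  obtain ⟨R₀, hirr, hR₀⟩ := KRep.exists_irreducible (Rt t₁) hR₁
  obtain ⟨d₀, hd₀, hchar⟩ := R₀.char_eq_of_irreducible hirr hχ hχK hR₀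
  have hdvd : ∀ t, d₀ ∣ m t := fun t => R₀.dvd_mult hirr hχ d₀ hd₀ hchar _ (Rt t) rfl (m t) (hm t)
  have hd1 : (d₀ : ℤ) ∣ 1 := by
    rw [← hone]
    apply List.dvd_sum
    intro x hx
    obtain ⟨t, -, rfl⟩ := List.mem_map.mp hx
    exact Dvd.dvd.mul_left (Int.natCast_dvd_natCast.mpr (hdvd t)) _
  have hd₀1 : d₀ = 1 := by
    have := Int.eq_one_of_dvd_one (by positivity) hd1
    exact_mod_cast this
  refine ⟨R₀, ?_⟩
  rw [hchar, hd₀1]
  simp

/-- Every complex representation is equivalent to one with matrix entries in `K`. -/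
theorem realizable_over_subfield (K : Subfield ℂ)
    (hK : ∀ (E : Subgroup G) (lam : E →* ℂˣ) (e : E), ((lam e : ℂˣ) : ℂ) ∈ K)
    (n : ℕ) (ρ : Representation ℂ G (Fin n → ℂ)) :
    ∃ σ : Representation ℂ G (Fin n → ℂ), Nonempty (ρ.Equiv σ) ∧
      ∀ (g : G) (i j : Fin n), LinearMap.toMatrix' (σ g) i j ∈ K := by
  classical
  have hψ : Cfsg.IsCharacter G ρ.character := ⟨n, ρ, rfl⟩
  have hdec := isCharacter_eq_sum_irrMult hψ
  obtain ⟨R, hR⟩ : ∃ R : KRep K G, R.char = ρ.character := by
    rw [hdec]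
    apply KRep.exists_sum
    intro θ _
    have := KRep.exists_nsmul (exists_krep_of_irr K hK θ.2) (irrMult ρ.character θ)
    obtain ⟨R, hR⟩ := this
    refine ⟨R, ?_⟩
    rw [hR, Nat.cast_smul_eq_nsmul]
  have hdim : finrank K R.V = n := by
    have h1 := R.char_one
    rw [hR, Representation.char_one] at h1
    simp only [Module.finrank_fin_fun] at h1
    have : (R.dim : ℂ) = (n : ℂ) := h1.symm
    exact_mod_cast this
  let b := Module.finBasisOfFinrankEq K R.V hdim
  refine ⟨R.toComplex b, ?_, ?_⟩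
  · apply Cfsg.Agent.S0153.result
    rw [R.toComplex_character b, hR]
  · intro g i j
    rw [R.toComplex_toMatrix']
    exact Subtype.mem _

end Split

/-- Brauer's splitting field theorem. -/
theorem realizable_cyclotomic {G : Type u} [Group G] [Finite G] (n : ℕ)
    (ρ : Representation ℂ G (Fin n → ℂ)) :
    ∃ σ : Representation ℂ G (Fin n → ℂ), Nonempty (ρ.Equiv σ) ∧
      ∀ g : G, ∀ i j : Fin n, LinearMap.toMatrix' (σ g) i j ∈
        Algebra.adjoin ℚ ({Complex.exp (2 * Real.pi * Complex.I / (Monoid.exponent G : ℂ))} :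
          Set ℂ) := by
  have := Fintype.ofFinite G
  have hm : Monoid.exponent G ≠ 0 := Monoid.exponent_ne_zero_of_finite
  have hζ : IsPrimitiveRoot (Complex.exp (2 * Real.pi * Complex.I / (Monoid.exponent G : ℂ)))
      (Monoid.exponent G) := Complex.isPrimitiveRoot_exp _ hm
  have hint : IsIntegral ℚ (Complex.exp (2 * Real.pi * Complex.I / (Monoid.exponent G : ℂ))) :=
    (hζ.isIntegral (Nat.pos_of_ne_zero hm)).tower_top
  let K : Subfield ℂ := (IntermediateField.adjoin ℚ
    ({Complex.exp (2 * Real.pi * Complex.I / (Monoid.exponent G : ℂ))} : Set ℂ)).toSubfield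
  have hmemK : ∀ x, x ∈ K ↔ x ∈ Algebra.adjoin ℚ
      ({Complex.exp (2 * Real.pi * Complex.I / (Monoid.exponent G : ℂ))} : Set ℂ) := by
    intro x
    rw [← IntermediateField.adjoin_simple_toSubalgebra_of_isAlgebraic hint.isAlgebraic]
    rfl
  have hK : ∀ (E : Subgroup G) (lam : E →* ℂˣ) (e : E), ((lam e : ℂˣ) : ℂ) ∈ K := by
    intro E lam e
    have h1 : ((lam e : ℂˣ) : ℂ) ^ (Monoid.exponent G) = 1 := by
      have : e ^ (Monoid.exponent G) = 1 := by
        apply Subtype.ext
        rw [Subgroup.coe_pow, Subgroup.coe_one]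
        exact Monoid.pow_exponent_eq_one _
      rw [← Units.val_pow_eq_pow_val, ← map_pow, this, map_one, Units.val_one]
    haveI : NeZero (Monoid.exponent G) := ⟨hm⟩
    obtain ⟨i, -, hi⟩ := hζ.eq_pow_of_pow_eq_one h1
    rw [← hi]
    exact pow_mem (IntermediateField.mem_adjoin_simple_self ℚ _) i
  obtain ⟨σ, hσ, hent⟩ := realizable_over_subfield K hK n ρ
  exact ⟨σ, hσ, fun g i j => (hmemK _).mp (hent g i j)⟩

end Cfsg.Agent.Helper3
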