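import Mathlib
import Cfsg.Agent.Lib.Helper32.PGroupCenter
import Cfsg.Agent.Lib.Helper35.NormalStep
import Cfsg.Agent.Lib.Helper51.DStarZJ

set_option autoImplicit false

namespace Cfsg.Agent.Helper3

open Subgroup

/-- In a finite `p`-group, between normal subgroups `A < P` there is a normal subgroup `B` with
`A ≤ B ≤ P`, `|B| = p |A|` and `B/A` central in `R/A`. -/
theorem exists_central_step {R : Type*} [Group R] [Finite R] {p : ℕ} [Fact p.Prime]
    (hR : IsPGroup p R) (A P : Subgroup R) [A.Normal] [P.Normal] (hAP : A ≤ P) (hne : A ≠ P) :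
    ∃ B : Subgroup R, B.Normal ∧ A ≤ B ∧ B ≤ P ∧ Nat.card B = Nat.card A * p ∧
      ∀ g : R, ∀ b ∈ B, g * b * g⁻¹ * b⁻¹ ∈ A := by
  have hp : p.Prime := Fact.out
  have hπ : Function.Surjective (QuotientGroup.mk' A) := QuotientGroup.mk'_surjective A
  haveI : (P.map (QuotientGroup.mk' A)).Normal := Subgroup.Normal.map inferInstance _ hπ
  have hPbar : P.map (QuotientGroup.mk' A) ≠ ⊥ := by
    intro h
    rw [Subgroup.map_eq_bot_iff, QuotientGroup.ker_mk'] at h
    exact hne (le_antisymm hAP h)
  have hQ : IsPGroup p (R ⧸ A) := hR.to_quotient A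
  obtain ⟨z, hzP, hz1, hzcen⟩ :=
    Helper32.exists_ne_one_mem_center_of_normal hQ (P.map (QuotientGroup.mk' A)) hPbar
  obtain ⟨j, hj⟩ := (IsPGroup.iff_orderOf.mp hQ) z
  have hj0 : j ≠ 0 := by
    intro h
    rw [h, pow_zero, orderOf_eq_one_iff] at hj
    exact hz1 hj
  obtain ⟨w, hw⟩ : ∃ w, w = z ^ (p ^ (j - 1)) := ⟨_, rfl⟩
  have hword : orderOf w = p := by
    rw [hw, orderOf_pow_of_dvd (pow_pos hp.pos _).ne' (by rw [hj]; exact pow_dvd_pow p (by omega)), hj]
    obtain ⟨j', rfl⟩ : ∃ j', j = j' + 1 := ⟨j - 1, by omega⟩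
    rw [pow_succ, Nat.add_sub_cancel, Nat.mul_div_cancel_left _ (pow_pos hp.pos _)]
  have hwcen : w ∈ Subgroup.center (R ⧸ A) := hw ▸ Subgroup.pow_mem _ hzcen _
  have hwP : w ∈ P.map (QuotientGroup.mk' A) := hw ▸ Subgroup.pow_mem _ hzP _
  have hWcen : Subgroup.zpowers w ≤ Subgroup.center (R ⧸ A) := by
    rw [Subgroup.zpowers_le]; exact hwcen
  haveI : (Subgroup.zpowers w).Normal := by
    refine ⟨fun n hn g => ?_⟩
    have := Subgroup.mem_center_iff.mp (hWcen hn) g
    rw [this, mul_inv_cancel_right]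
    exact hn
  refine ⟨(Subgroup.zpowers w).comap (QuotientGroup.mk' A), Subgroup.Normal.comap inferInstance _,
    ?_, ?_, ?_, ?_⟩
  · intro a ha
    rw [Subgroup.mem_comap]
    have : QuotientGroup.mk' A a = 1 := by
      rw [← MonoidHom.mem_ker, QuotientGroup.ker_mk']; exact ha
    rw [this]; exact Subgroup.one_mem _
  · intro x hx
    rw [Subgroup.mem_comap] at hx
    have hx' : QuotientGroup.mk' A x ∈ P.map (QuotientGroup.mk' A) := by
      have : Subgroup.zpowers w ≤ P.map (QuotientGroup.mk' A) := by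
        rw [Subgroup.zpowers_le]; exact hwP
      exact this hx
    obtain ⟨y, hy, hyx⟩ := hx'
    have : y⁻¹ * x ∈ A := by
      rw [← QuotientGroup.ker_mk' A, MonoidHom.mem_ker, map_mul, map_inv, hyx, inv_mul_cancel]
    have : x = y * (y⁻¹ * x) := by group
    rw [this]
    exact P.mul_mem hy (hAP ‹y⁻¹ * x ∈ A›)
  · rw [Helper35.card_comap_mk', Nat.card_zpowers, hword, mul_comm]
  · intro g b hb
    rw [Subgroup.mem_comap] at hb
    have hc := Subgroup.mem_center_iff.mp (hWcen hb) (QuotientGroup.mk' A g)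
    rw [← QuotientGroup.ker_mk' A, MonoidHom.mem_ker, map_mul, map_mul, map_mul, map_inv, map_inv,
      hc, mul_inv_cancel_right, mul_inv_cancel]

/-- Counting step: if `B₀ ≤ B` are normal, `|B| = p |B₀|`, and `B/B₀` is central, then
`[G : C_G(B)] ≤ [G : C_G(B₀)] * |B₀|`. -/
theorem index_centralizer_step {G : Type*} [Group G] [Finite G] {p : ℕ} (hp : p.Prime)
    (B₀ B : Subgroup G) (hle : B₀ ≤ B) (hcard : Nat.card B = Nat.card B₀ * p)
    (hcen : ∀ g : G, ∀ b ∈ B, g * b * g⁻¹ * b⁻¹ ∈ B₀) :
    (centralizer (B : Set G)).index ≤ (centralizer (B₀ : Set G)).index * Nat.card B₀ := by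
  classical
  have hne : B₀ ≠ B := by
    intro h
    rw [h] at hcard
    have hpos : 0 < Nat.card B := Nat.card_pos
    have : Nat.card B * 1 = Nat.card B * p := by rw [mul_one]; exact hcard
    have := Nat.eq_of_mul_eq_mul_left hpos this
    exact hp.one_lt.ne this
  obtain ⟨x, hxB, hxB₀⟩ : ∃ x ∈ B, x ∉ B₀ := by
    by_contra hcon
    push Not at hcon
    exact hne (le_antisymm hle hcon)
  set H := centralizer (B₀ : Set G) with hH
  set K := H ⊓ centralizer ({x} : Set G) with hK
  -- `B = B₀ ⊔ ⟨x⟩`
  have hT : B₀ ⊔ zpowers x = B := by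
    have hTle : B₀ ⊔ zpowers x ≤ B := sup_le hle (by rw [zpowers_le]; exact hxB)
    have h1 : Nat.card B₀ ∣ Nat.card (B₀ ⊔ zpowers x : Subgroup G) :=
      Subgroup.card_dvd_of_le le_sup_left
    have h2 : Nat.card (B₀ ⊔ zpowers x : Subgroup G) ∣ Nat.card B := Subgroup.card_dvd_of_le hTle
    obtain ⟨m, hm⟩ := h1
    rw [hm, hcard] at h2
    have hpos : 0 < Nat.card B₀ := Nat.card_pos
    have hmp : m ∣ p := Nat.dvd_of_mul_dvd_mul_left hpos h2
    rcases (Nat.dvd_prime hp).mp hmp with h | h
    · exfalso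
      rw [h, mul_one] at hm
      have : B₀ = B₀ ⊔ zpowers x :=
        Subgroup.eq_of_le_of_card_ge le_sup_left hm.le
      apply hxB₀
      rw [this]
      exact (le_sup_right : zpowers x ≤ B₀ ⊔ zpowers x) (mem_zpowers x)
    · rw [h, ← hcard] at hm
      exact Subgroup.eq_of_le_of_card_ge hTle hm.ge
  have hKB : K ≤ centralizer (B : Set G) := by
    rw [Subgroup.le_centralizer_iff, ← hT]
    refine sup_le ?_ ?_
    · rw [← Subgroup.le_centralizer_iff]
      exact inf_le_left
    · rw [zpowers_le, mem_centralizer_iff]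
      intro k hk
      have := (mem_inf.mp hk).2
      rw [mem_centralizer_iff] at this
      exact (this x rfl).symm
  have hKH : K ≤ H := inf_le_left
  have hidx : K.relIndex H * H.index = K.index := Subgroup.relIndex_mul_index hKH
  have hrel : K.relIndex H ≤ Nat.card B₀ := by
    rw [Subgroup.relIndex, Subgroup.index]
    let f : (H ⧸ K.subgroupOf H) → G := Quotient.lift (fun c : H => (c : G) * x * (c : G)⁻¹ * x⁻¹)
      (by
        intro c c' hcc
        have hcc' : c⁻¹ * c' ∈ K.subgroupOf H := QuotientGroup.leftRel_apply.mp hcc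
        rw [mem_subgroupOf] at hcc'
        have h2 := (mem_inf.mp hcc').2
        rw [mem_centralizer_iff] at h2
        have h3 := h2 x rfl
        simp only [Subgroup.coe_mul, Subgroup.coe_inv] at h3
        -- h3 : x * (c⁻¹ * c') = c⁻¹ * c' * x
        have h4 : (c' : G) * x * (c' : G)⁻¹ = (c : G) * x * (c : G)⁻¹ := by
          have : (c' : G) = (c : G) * ((c : G)⁻¹ * c') := by group
          rw [this]
          have h5 : (c : G) * ((c : G)⁻¹ * c') * x = (c : G) * (x * ((c : G)⁻¹ * c')) := by
            rw [h3]; group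
          rw [h5]; group
        show (c : G) * x * (c : G)⁻¹ * x⁻¹ = (c' : G) * x * (c' : G)⁻¹ * x⁻¹
        rw [h4])
    have hf : ∀ q, f q ∈ (B₀ : Set G) := by
      intro q
      induction q using Quotient.inductionOn with
      | _ c => exact hcen (c : G) x hxB
    have hinj : Function.Injective f := by
      intro q q'
      induction q using Quotient.inductionOn with
      | _ c =>
      induction q' using Quotient.inductionOn with
      | _ c' =>
      intro hqq
      have hqq' : (c : G) * x * (c : G)⁻¹ * x⁻¹ = (c' : G) * x * (c' : G)⁻¹ * x⁻¹ := hqq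
      apply Quotient.sound
      show QuotientGroup.leftRel _ c c'
      rw [QuotientGroup.leftRel_apply, mem_subgroupOf]
      refine mem_inf.mpr ⟨(c⁻¹ * c').2, ?_⟩
      rw [mem_centralizer_iff]
      intro y hy
      rw [Set.mem_singleton_iff] at hy
      subst hy
      simp only [Subgroup.coe_mul, Subgroup.coe_inv]
      have h6 : (c : G) * y * (c : G)⁻¹ = (c' : G) * y * (c' : G)⁻¹ := mul_right_cancel hqq'
      calc y * ((c : G)⁻¹ * c') = (c : G)⁻¹ * ((c : G) * y * (c : G)⁻¹) * c' := by group
        _ = (c : G)⁻¹ * ((c' : G) * y * (c' : G)⁻¹) * c' := by rw [h6]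
        _ = (c : G)⁻¹ * c' * y := by group
    let f' : (H ⧸ K.subgroupOf H) → B₀ := fun q => ⟨f q, hf q⟩
    have hinj' : Function.Injective f' := by
      intro q q' h
      exact hinj (congrArg Subtype.val h)
    exact Nat.card_le_card_of_injective f' hinj'
  have hdvd : (centralizer (B : Set G)).index ∣ K.index := Subgroup.index_dvd_of_le hKB
  have hKpos : 0 < K.index := Nat.pos_of_ne_zero Subgroup.index_ne_zero_of_finite
  calc (centralizer (B : Set G)).index ≤ K.index := Nat.le_of_dvd hKpos hdvd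
    _ = K.relIndex H * H.index := hidx.symm
    _ ≤ Nat.card B₀ * H.index := Nat.mul_le_mul_right _ hrel
    _ = H.index * Nat.card B₀ := mul_comm _ _

/-- In a finite `p`-group, a normal subgroup `A` of order `p ^ a` has
`[G : C_G(A)] ≤ p ^ (a choose 2)`. -/
theorem index_centralizer_normal_le {G : Type*} [Group G] [Finite G] {p : ℕ} [Fact p.Prime]
    (hG : IsPGroup p G) (A : Subgroup G) [A.Normal] (a : ℕ) (ha : Nat.card A = p ^ a) :
    (centralizer (A : Set G)).index ≤ p ^ (a.choose 2) := by
  have hp : p.Prime := Fact.out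
  have key : ∀ i : ℕ, i ≤ a → ∃ B : Subgroup G, B.Normal ∧ B ≤ A ∧ Nat.card B = p ^ i ∧
      (centralizer (B : Set G)).index ≤ p ^ (i.choose 2) := by
    intro i
    induction i with
    | zero =>
      intro _
      refine ⟨⊥, inferInstance, bot_le, by simp, ?_⟩
      have : centralizer ((⊥ : Subgroup G) : Set G) = ⊤ := by
        rw [Subgroup.coe_bot, Subgroup.centralizer_eq_top_iff_subset]
        intro y hy
        rw [Set.mem_singleton_iff] at hy
        rw [hy]
        exact Subgroup.one_mem _
      rw [this, Subgroup.index_top]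
      exact Nat.one_le_pow _ _ hp.pos
    | succ i ih =>
      intro hi
      obtain ⟨B₀, hB₀n, hB₀A, hB₀c, hB₀i⟩ := ih (by omega)
      haveI := hB₀n
      have hne : B₀ ≠ A := by
        intro h
        rw [h, ha] at hB₀c
        have := Nat.pow_right_injective hp.two_le hB₀c
        omega
      obtain ⟨B, hBn, hB₀B, hBA, hBc, hBcen⟩ := exists_central_step hG B₀ A hB₀A hne
      refine ⟨B, hBn, hBA, by rw [hBc, hB₀c, pow_succ], ?_⟩
      have hstep := index_centralizer_step hp B₀ B hB₀B hBc hBcen
      calc (centralizer (B : Set G)).index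
          ≤ (centralizer (B₀ : Set G)).index * Nat.card B₀ := hstep
        _ ≤ p ^ (i.choose 2) * p ^ i := by
            rw [hB₀c]; exact Nat.mul_le_mul_right _ hB₀i
        _ = p ^ ((i + 1).choose 2) := by
            rw [← pow_add]
            congr 1
            rw [Nat.choose_succ_succ' i 1, Nat.choose_one_right, add_comm]
  obtain ⟨B, _, hBA, hBc, hBi⟩ := key a le_rfl
  have : B = A := Subgroup.eq_of_le_of_card_ge hBA (by rw [hBc, ha])
  rw [← this]
  exact hBi

/-- The order of a `p`-group with a maximal normal abelian subgroup of order `p ^ a`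
is at most `p ^ (a (a + 1) / 2)`. -/
theorem card_le_of_max_normal_abelian {G : Type*} [Group G] [Finite G] {p : ℕ} [Fact p.Prime]
    (hG : IsPGroup p G) (A : Subgroup G) [hAn : A.Normal] (hA : IsMulCommutative A)
    (hmax : ∀ B : Subgroup G, B.Normal → IsMulCommutative B → A ≤ B → B = A) (a : ℕ)
    (ha : Nat.card A = p ^ a) : Nat.card G ≤ p ^ (a * (a + 1) / 2) := by
  haveI : Group.IsNilpotent G := hG.isNilpotent
  have hC : centralizer (A : Set G) ≤ A :=
    Helper51.centralizer_le_of_maximal_normal_abelian A hAn hA hmax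
  have hAC : A ≤ centralizer (A : Set G) := by
    rw [Subgroup.le_centralizer_iff_isMulCommutative]
    exact hA
  have hCA : centralizer (A : Set G) = A := le_antisymm hC hAC
  have hidx := index_centralizer_normal_le hG A a ha
  rw [hCA] at hidx
  have hcard : Nat.card A * A.index = Nat.card G := Subgroup.card_mul_index A
  have hexp : a + a.choose 2 = a * (a + 1) / 2 := by
    have h1 : (a + 1).choose 2 = a.choose 1 + a.choose 2 := Nat.choose_succ_succ' a 1
    rw [Nat.choose_one_right] at h1
    rw [← h1, Nat.choose_two_right, Nat.add_sub_cancel, mul_comm]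
  calc Nat.card G = Nat.card A * A.index := hcard.symm
    _ ≤ p ^ a * p ^ (a.choose 2) := by rw [ha]; exact Nat.mul_le_mul_left _ hidx
    _ = p ^ (a * (a + 1) / 2) := by rw [← pow_add, hexp]

end Cfsg.Agent.Helper3
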