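import Mathlib
import Cfsg.Agent.Lib.Helper17.Simple
import Cfsg.Agent.Lib.Helper75.FixKill

/-!
# O175560 server (helper24, S4274): no simple group of order 11704 = 2^3 * 7 * 11 * 19

`FixCert 7 1672`: `n_7 = 22`, `|N(P7)| = 532`, `e = 2`, `19 ∣ |C(P7)| = 266`, and the link to `p = 19`
(`n_19 = 77`, `|N(P19)| = 152`, `7 ∤ 152`) is absurd.
-/

set_option autoImplicit false

namespace Cfsg.Agent.Helper3.O175560

open Cfsg MulAction Cfsg.Agent.Helper17.Sieve Cfsg.Agent.Helper75.FixKill

universe u

set_option maxRecDepth 100000 in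
theorem cert_11704 : FixCert 7 1672 := by decide +kernel

theorem noSimple_11704 : NoSimple.{u} 11704 :=
  fix_kill (p := 7) (m := 1672) (by norm_num) (by norm_num) (by norm_num) cert_11704

theorem no_11704 {G : Type u} [Group G] [Finite G] [IsSimpleGroup G] : Nat.card G ≠ 11704 := by
  intro hG
  by_cases hc : IsMulCommutative G
  · have hp : (Nat.card G).Prime := by
      let _ : CommGroup G := { ‹Group G› with mul_comm := hc.is_comm.comm }
      exact IsSimpleGroup.prime_card
    rw [hG] at hp
    norm_num at hp
  · exact noSimple_11704 G hc hG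

end Cfsg.Agent.Helper3.O175560
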