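import Mathlib
import Cfsg.Agent.Lib.Helper17.Simple
import Cfsg.Agent.Lib.Helper75.FixKill

/-!
# O175560 server (helper24, S4274): no simple group of order 15960 = 2^3 * 3 * 5 * 7 * 19

`FixCert 19 840` (helper75's fixed-point certificate) holds by `decide +kernel`.
-/

set_option autoImplicit false

namespace Cfsg.Agent.Helper3.O175560

open Cfsg MulAction Cfsg.Agent.Helper17.Sieve Cfsg.Agent.Helper75.FixKill

universe u

set_option maxRecDepth 100000 in
theorem cert_15960 : FixCert 19 840 := by decide +kernel

theorem noSimple_15960 : NoSimple.{u} 15960 :=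
  fix_kill (p := 19) (m := 840) (by norm_num) (by norm_num) (by norm_num) cert_15960

theorem no_15960 {G : Type u} [Group G] [Finite G] [IsSimpleGroup G] : Nat.card G ≠ 15960 := by
  intro hG
  by_cases hc : IsMulCommutative G
  · have hp : (Nat.card G).Prime := by
      let _ : CommGroup G := { ‹Group G› with mul_comm := hc.is_comm.comm }
      exact IsSimpleGroup.prime_card
    rw [hG] at hp
    norm_num at hp
  · exact noSimple_15960 G hc hG

end Cfsg.Agent.Helper3.O175560
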