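import Mathlib
import Cfsg.Prelude.Def_Blocks
import Cfsg.Agent.Lib.Helper55.O2520Defs
import Cfsg.Agent.Lib.Helper87.SVKit

/-!
# O2520 server (helper55, S0984): the piece (N5), `n_5 = 126` in a simple group of order 2520 with `n_7 = 120`
-/

set_option autoImplicit false

namespace Cfsg.Agent.Helper3.O2520

open Cfsg Cfsg.Agent.Helper55.O2520
open scoped Classical

universe u

/-- the admissible Sylow 5 numbers of a simple group of order 2520 -/
theorem h3_n5_cands : ∀ d ∈ List.range (504 + 1), d ∣ 504 → d % 5 = 1 →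
    ¬ Cfsg.Agent.Helper17.Sieve.Bad (5 ^ 1 * 504) 5 1 504 d → d = 36 ∨ d = 126 := by
  decide +kernel

section grp
variable {G : Type u} [Group G] [Finite G] [IsSimpleGroup G] (hG : Nat.card G = 2520)
include hG

/-- (N5) n_5 ∈ {6,21,36,56,126}: 6 (G ≤ A6), 21 (Cfsg.Agent.S1010.result), 36 (|N|=70, element of order 35
against C(P7)=P7), 56 (|N|=45 odd, N=C, Burnside) die. -/
theorem card_sylow5 (h7 : Nat.card (Sylow 7 G) = 120) : Nat.card (Sylow 5 G) = 126 := by
  have hna : ¬ IsMulCommutative G :=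
    Cfsg.Agent.Helper17.not_comm_of_not_prime (by rw [hG]; norm_num)
  have : Fact (Nat.Prime 5) := ⟨by norm_num⟩
  have : Fact (Nat.Prime 7) := ⟨by norm_num⟩
  obtain ⟨hP5, hmem, hdm, hd5, hnb, -, hCe⟩ :=
    Cfsg.Agent.Helper87.SV.h87_data hna 5 504 (by norm_num) (by rw [hG]; norm_num) (by norm_num)
  obtain ⟨hP7, -, -, -, -, -, -⟩ :=
    Cfsg.Agent.Helper87.SV.h87_data hna 7 360 (by norm_num) (by rw [hG]; norm_num) (by norm_num)
  obtain ⟨d, hd⟩ : ∃ d, Nat.card (Sylow 5 G) = d := ⟨_, rfl⟩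
  rw [hd] at hmem hdm hd5 hnb hCe ⊢
  rcases h3_n5_cands d hmem hdm hd5 hnb with rfl | rfl
  · exfalso
    obtain ⟨P⟩ : Nonempty (Sylow 5 G) := inferInstance
    obtain ⟨e, he1, he2, he3⟩ := hCe P
    have he4 : e ∣ 4 := by simpa using he1
    have hele : e ≤ 4 := Nat.le_of_dvd (by norm_num) he4
    have h7C : 7 ∣ Nat.card (Subgroup.centralizer ((P : Subgroup G) : Set G)) := by
      obtain ⟨c, hc⟩ : ∃ c, Nat.card (Subgroup.centralizer ((P : Subgroup G) : Set G)) = c :=
        ⟨_, rfl⟩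
      rw [hc] at he3 ⊢
      interval_cases e
      · simp at he4
      · exact absurd rfl he2
      · exact ⟨5, by omega⟩
      · norm_num at he4
      · omega
    have h := Cfsg.Agent.Helper87.SV.h87_link hP5 hP7 P h7C
    rw [hG, h7] at h
    norm_num at h
  · rfl

end grp

end Cfsg.Agent.Helper3.O2520
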