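import Mathlib
import Cfsg.Agent.Lib.Helper55.O2520Defs

/-!
# O2520 / S3C sub-server (helper20): the piece (Q2), `N(P) = P {1, a, b, ab}`
-/

set_option autoImplicit false

namespace Cfsg.Agent.Helper3.O2520

open Cfsg.Agent.Helper55.O2520

universe u

/-- a nontrivial element of a group of order 9 is not its own inverse -/
theorem h3_ne_inv_of_card_nine {G : Type u} [Group G] (P : Subgroup G) (hP : Nat.card P = 9)
    (x : G) (hx : x ∈ P) (hx1 : x ≠ 1) : x ≠ x⁻¹ := by
  intro h
  apply hx1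
  have h9 : x ^ 9 = 1 := by
    have h0 : (⟨x, hx⟩ : P) ^ Nat.card P = 1 := pow_card_eq_one'
    rw [hP] at h0
    exact congrArg Subtype.val h0
  have h2 : x ^ 2 = 1 := by
    rw [pow_two]
    calc x * x = x⁻¹ * x := by rw [← h]
      _ = 1 := by group
  have h3 : x ^ 9 = (x ^ 2) ^ 4 * x := by
    rw [← pow_mul, ← pow_succ]
  rw [h2, one_pow, one_mul] at h3
  rw [← h3, h9]

/-- the four coset representatives -/
def h3T {G : Type u} [Group G] (a b : G) (q : Bool × Bool) : G :=
  (bif q.1 then a else 1) * (bif q.2 then b else 1)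

theorem s3c_normalizer_mem {G : Type u} [Group G] [Finite G] (P : Subgroup G) (hP : Nat.card P = 9)
    (hN : Nat.card (Subgroup.normalizer (P : Set G)) = 36) (x x' a b : G)
    (hx : x ∈ P) (hx' : x' ∈ P) (hx1 : x ≠ 1) (hx'1 : x' ≠ 1)
    (ha : a ∈ Subgroup.normalizer (P : Set G)) (hb : b ∈ Subgroup.normalizer (P : Set G))
    (hoa : orderOf a = 2) (hob : orderOf b = 2) (hab : a * b = b * a)
    (hax : a * x * a⁻¹ = x) (hax' : a * x' * a⁻¹ = x'⁻¹)
    (hbx : b * x * b⁻¹ = x⁻¹) (hbx' : b * x' * b⁻¹ = x') :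
    ∀ g ∈ Subgroup.normalizer (P : Set G),
      ∃ p ∈ P, g = p ∨ g = p * a ∨ g = p * b ∨ g = p * (a * b) := by
  classical
  have hxx : x ≠ x⁻¹ := h3_ne_inv_of_card_nine P hP x hx hx1
  have hxx' : x' ≠ x'⁻¹ := h3_ne_inv_of_card_nine P hP x' hx' hx'1
  -- P is abelian
  have h3p : Fact (Nat.Prime 3) := ⟨by norm_num⟩
  have hcommP : IsMulCommutative P :=
    IsPGroup.isMulCommutative_of_card_eq_prime_sq (p := 3) (by rw [hP]; norm_num)
  have hcomm' : ∀ y ∈ P, ∀ z ∈ P, y * z * y⁻¹ = z := by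
    intro y hy z hz
    have h0 : (⟨y, hy⟩ : P) * ⟨z, hz⟩ = ⟨z, hz⟩ * ⟨y, hy⟩ := hcommP.is_comm.comm _ _
    have h1 : y * z = z * y := congrArg Subtype.val h0
    calc y * z * y⁻¹ = z * y * y⁻¹ := by rw [h1]
      _ = z := by group
  have hT : ∀ q, h3T a b q ∈ Subgroup.normalizer (P : Set G) := by
    rintro ⟨s, t⟩
    unfold h3T
    refine Subgroup.mul_mem _ ?_ ?_
    · cases s
      · exact Subgroup.one_mem _
      · exact ha
    · cases t
      · exact Subgroup.one_mem _
      · exact hb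
  -- the action on x and x'
  have hTx : ∀ q : Bool × Bool, h3T a b q * x * (h3T a b q)⁻¹ = (if q.2 = true then x⁻¹ else x) := by
    rintro ⟨s, t⟩
    unfold h3T
    cases s <;> cases t
    · simp
    · simpa using hbx
    · simpa using hax
    · have : a * b * x * (a * b)⁻¹ = x⁻¹ := by
        calc a * b * x * (a * b)⁻¹ = a * (b * x * b⁻¹) * a⁻¹ := by group
          _ = a * x⁻¹ * a⁻¹ := by rw [hbx]
          _ = (a * x * a⁻¹)⁻¹ := by group
          _ = x⁻¹ := by rw [hax]
      simpa using this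
  have hTx' : ∀ q : Bool × Bool,
      h3T a b q * x' * (h3T a b q)⁻¹ = (if q.1 = true then x'⁻¹ else x') := by
    rintro ⟨s, t⟩
    unfold h3T
    cases s <;> cases t
    · simp
    · simpa using hbx'
    · simpa using hax'
    · have : a * b * x' * (a * b)⁻¹ = x'⁻¹ := by
        calc a * b * x' * (a * b)⁻¹ = a * (b * x' * b⁻¹) * a⁻¹ := by group
          _ = a * x' * a⁻¹ := by rw [hbx']
          _ = x'⁻¹ := hax'
      simpa using this
  have hmemx : ∀ q, h3T a b q * x * (h3T a b q)⁻¹ ∈ P := by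
    intro q
    rw [hTx q]
    split_ifs
    · exact Subgroup.inv_mem _ hx
    · exact hx
  have hmemx' : ∀ q, h3T a b q * x' * (h3T a b q)⁻¹ ∈ P := by
    intro q
    rw [hTx' q]
    split_ifs
    · exact Subgroup.inv_mem _ hx'
    · exact hx'
  have hconj : ∀ p ∈ P, ∀ q, ∀ z : G, h3T a b q * z * (h3T a b q)⁻¹ ∈ P →
      (p * h3T a b q) * z * (p * h3T a b q)⁻¹ = h3T a b q * z * (h3T a b q)⁻¹ := by
    intro p hp q z hz'
    calc (p * h3T a b q) * z * (p * h3T a b q)⁻¹
        = p * (h3T a b q * z * (h3T a b q)⁻¹) * p⁻¹ := by group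
      _ = h3T a b q * z * (h3T a b q)⁻¹ := hcomm' p hp _ hz'
  -- the map
  let φ : P × (Bool × Bool) → Subgroup.normalizer (P : Set G) := fun q =>
    ⟨(q.1 : G) * h3T a b q.2, Subgroup.mul_mem _ (Subgroup.le_normalizer q.1.2) (hT q.2)⟩
  have hinj : Function.Injective φ := by
    rintro ⟨⟨p, hp⟩, q⟩ ⟨⟨p', hp'⟩, q'⟩ h
    have h0 : p * h3T a b q = p' * h3T a b q' := congrArg Subtype.val h
    have e1 : h3T a b q * x * (h3T a b q)⁻¹ = h3T a b q' * x * (h3T a b q')⁻¹ := by
      rw [← hconj p hp q x (hmemx q), ← hconj p' hp' q' x (hmemx q'), h0]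
    have e2 : h3T a b q * x' * (h3T a b q)⁻¹ = h3T a b q' * x' * (h3T a b q')⁻¹ := by
      rw [← hconj p hp q x' (hmemx' q), ← hconj p' hp' q' x' (hmemx' q'), h0]
    rw [hTx q, hTx q'] at e1
    rw [hTx' q, hTx' q'] at e2
    obtain ⟨s, t⟩ := q
    obtain ⟨s', t'⟩ := q'
    have ht : t = t' := by
      cases t <;> cases t'
      · rfl
      · exact absurd (by simpa using e1) hxx
      · exact absurd (by simpa using e1.symm) hxx
      · rfl
    have hs : s = s' := by
      cases s <;> cases s'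
      · rfl
      · exact absurd (by simpa using e2) hxx'
      · exact absurd (by simpa using e2.symm) hxx'
      · rfl
    subst ht hs
    have hpp : p = p' := mul_right_cancel h0
    subst hpp
    rfl
  have hcard : Nat.card (P × (Bool × Bool)) = Nat.card (Subgroup.normalizer (P : Set G)) := by
    rw [Nat.card_prod, Nat.card_prod, hP, hN, Nat.card_eq_fintype_card, Fintype.card_bool]
  have hfinP : Finite P := inferInstance
  have hbij : Function.Bijective φ :=
    (Nat.bijective_iff_injective_and_card φ).2 ⟨hinj, hcard⟩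
  intro g hg
  obtain ⟨⟨⟨p, hp⟩, ⟨s, t⟩⟩, hq⟩ := hbij.2 ⟨g, hg⟩
  have h0 : p * h3T a b (s, t) = g := congrArg Subtype.val hq
  refine ⟨p, hp, ?_⟩
  unfold h3T at h0
  cases s <;> cases t
  · left
    simpa using h0.symm
  · right; right; left
    simpa using h0.symm
  · right; left
    simpa using h0.symm
  · right; right; right
    simpa using h0.symm

end Cfsg.Agent.Helper3.O2520
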