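import Mathlib
import Cfsg.Agent.Lib.Helper18.O3K0
import Cfsg.Agent.S0280

/-!
# O3K server (helper18, S2363): the piece (PSU)
-/

set_option autoImplicit false

namespace Cfsg.Agent.Helper3.O3K

open Cfsg Cfsg.Agent.Helper18.O3K

/-- the pairing `(q^(2k+2) - 1)(q^(2k+3) + 1) < q^(2k+2) q^(2k+3)` -/
theorem h3_psu_pair (q : ℕ) (hq : 1 ≤ q) (k : ℕ) :
    (q ^ (2 * k + 2) - 1) * (q ^ (2 * k + 3) + 1) < q ^ (2 * k + 2) * q ^ (2 * k + 3) := by
  have hA : 1 ≤ q ^ (2 * k + 2) := Nat.one_le_pow _ _ hq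
  have hAB : q ^ (2 * k + 2) ≤ q ^ (2 * k + 3) := Nat.pow_le_pow_right hq (by omega)
  obtain ⟨A', hA'⟩ : ∃ A', q ^ (2 * k + 2) = A' + 1 := ⟨q ^ (2 * k + 2) - 1, by omega⟩
  rw [hA'] at hAB ⊢
  simp only [Nat.add_sub_cancel]
  nlinarith

/-- `2 * ∑_{i<m} (i+2) = m (m+3)` -/
theorem h3_psu_sum (m : ℕ) : 2 * ∑ i ∈ Finset.range m, (i + 2) = m * (m + 3) := by
  induction m with
  | zero => simp
  | succ m ih => rw [Finset.sum_range_succ, mul_add, ih]; ring

/-- the product over an even range, paired -/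
theorem h3_psu_even_le (q : ℕ) (hq : 1 ≤ q) (k : ℕ) :
    ∏ i ∈ Finset.range (2 * k), (if Even (i + 1) then q ^ (i + 1 + 1) + 1 else q ^ (i + 1 + 1) - 1)
      ≤ q ^ ∑ i ∈ Finset.range (2 * k), (i + 2) := by
  induction k with
  | zero => simp
  | succ k ih =>
    have e : 2 * (k + 1) = 2 * k + 1 + 1 := by ring
    have h1 : ¬ Even (2 * k + 1) := by
      rw [Nat.not_even_iff_odd]
      exact ⟨k, rfl⟩
    have h2 : Even (2 * k + 1 + 1) := ⟨k + 1, by ring⟩
    have hprod : ∏ i ∈ Finset.range (2 * (k + 1)),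
        (if Even (i + 1) then q ^ (i + 1 + 1) + 1 else q ^ (i + 1 + 1) - 1) =
        (∏ i ∈ Finset.range (2 * k),
          (if Even (i + 1) then q ^ (i + 1 + 1) + 1 else q ^ (i + 1 + 1) - 1)) *
          ((q ^ (2 * k + 2) - 1) * (q ^ (2 * k + 3) + 1)) := by
      rw [e, Finset.prod_range_succ, Finset.prod_range_succ, if_neg h1, if_pos h2, mul_assoc]
    have hsum : ∑ i ∈ Finset.range (2 * (k + 1)), (i + 2) =
        (∑ i ∈ Finset.range (2 * k), (i + 2)) + ((2 * k + 2) + (2 * k + 3)) := by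
      rw [e, Finset.sum_range_succ, Finset.sum_range_succ, add_assoc]
    rw [hprod, hsum]
    calc _ ≤ q ^ (∑ i ∈ Finset.range (2 * k), (i + 2)) * (q ^ (2 * k + 2) * q ^ (2 * k + 3)) :=
          Nat.mul_le_mul ih (h3_psu_pair q hq k).le
      _ = _ := by ring

/-- the product over any nonempty range is below the power -/
theorem h3_psu_lt (q : ℕ) (hq : 1 ≤ q) (m : ℕ) (hm : 1 ≤ m) :
    ∏ i ∈ Finset.range m, (if Even (i + 1) then q ^ (i + 1 + 1) + 1 else q ^ (i + 1 + 1) - 1)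
      < q ^ ∑ i ∈ Finset.range m, (i + 2) := by
  rcases Nat.even_or_odd' m with ⟨k, hk | hk⟩
  · -- m = 2k, k ≥ 1
    obtain ⟨j, rfl⟩ : ∃ j, k = j + 1 := ⟨k - 1, by omega⟩
    have e : m = 2 * j + 1 + 1 := by omega
    have h1 : ¬ Even (2 * j + 1) := by
      rw [Nat.not_even_iff_odd]
      exact ⟨j, rfl⟩
    have h2 : Even (2 * j + 1 + 1) := ⟨j + 1, by ring⟩
    have hprod : ∏ i ∈ Finset.range m,
        (if Even (i + 1) then q ^ (i + 1 + 1) + 1 else q ^ (i + 1 + 1) - 1) =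
        (∏ i ∈ Finset.range (2 * j),
          (if Even (i + 1) then q ^ (i + 1 + 1) + 1 else q ^ (i + 1 + 1) - 1)) *
          ((q ^ (2 * j + 2) - 1) * (q ^ (2 * j + 3) + 1)) := by
      rw [e, Finset.prod_range_succ, Finset.prod_range_succ, if_neg h1, if_pos h2, mul_assoc]
    have hsum : ∑ i ∈ Finset.range m, (i + 2) =
        (∑ i ∈ Finset.range (2 * j), (i + 2)) + ((2 * j + 2) + (2 * j + 3)) := by
      rw [e, Finset.sum_range_succ, Finset.sum_range_succ, add_assoc]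
    rw [hprod, hsum]
    have h3 := h3_psu_even_le q hq j
    have h4 := h3_psu_pair q hq j
    calc _ ≤ q ^ (∑ i ∈ Finset.range (2 * j), (i + 2)) *
            ((q ^ (2 * j + 2) - 1) * (q ^ (2 * j + 3) + 1)) := Nat.mul_le_mul_right _ h3
      _ < q ^ (∑ i ∈ Finset.range (2 * j), (i + 2)) * (q ^ (2 * j + 2) * q ^ (2 * j + 3)) :=
          Nat.mul_lt_mul_of_pos_left h4 (pow_pos hq _)
      _ = _ := by ring
  · -- m = 2k+1
    have h1 : ¬ Even (2 * k + 1) := by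
      rw [Nat.not_even_iff_odd]
      exact ⟨k, rfl⟩
    have hprod : ∏ i ∈ Finset.range m,
        (if Even (i + 1) then q ^ (i + 1 + 1) + 1 else q ^ (i + 1 + 1) - 1) =
        (∏ i ∈ Finset.range (2 * k),
          (if Even (i + 1) then q ^ (i + 1 + 1) + 1 else q ^ (i + 1 + 1) - 1)) *
          (q ^ (2 * k + 2) - 1) := by
      rw [hk, Finset.prod_range_succ, if_neg h1]
    have hsum : ∑ i ∈ Finset.range m, (i + 2) =
        (∑ i ∈ Finset.range (2 * k), (i + 2)) + (2 * k + 2) := by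
      rw [hk, Finset.sum_range_succ]
    rw [hprod, hsum]
    have h3 := h3_psu_even_le q hq k
    have h4 : q ^ (2 * k + 2) - 1 < q ^ (2 * k + 2) := Nat.sub_lt (pow_pos hq _) one_pos
    calc _ ≤ q ^ (∑ i ∈ Finset.range (2 * k), (i + 2)) * (q ^ (2 * k + 2) - 1) :=
          Nat.mul_le_mul_right _ h3
      _ < q ^ (∑ i ∈ Finset.range (2 * k), (i + 2)) * q ^ (2 * k + 2) :=
          Nat.mul_lt_mul_of_pos_left h4 (pow_pos hq _)
      _ = _ := by ring

theorem concl_psu {p : ℕ} (hp : p.Prime) (F : Type) [Field F] [Fintype F] [CharP F p] (n q : ℕ)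
    (hF : Fintype.card F = q ^ 2) (hn : 3 ≤ n) : Concl p (PSU n F q) := by
  classical
  obtain ⟨f', hf', hcard⟩ := card_eq_pow hp F
  have hqdvd : q ∣ p ^ f' := by
    rw [← hcard, hF]
    exact dvd_pow_self q (by norm_num)
  obtain ⟨g, -, hqg⟩ := (Nat.dvd_prime_pow hp).mp hqdvd
  have hg : 1 ≤ g := by
    rcases Nat.eq_zero_or_pos g with h0 | h0
    · exfalso
      rw [h0, pow_zero] at hqg
      rw [hqg, one_pow] at hF
      rw [hF] at hcard
      have : 1 < p ^ f' := Nat.one_lt_pow (by omega) hp.one_lt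
      omega
    · exact h0
  have hq1 : 1 ≤ q := by
    rw [hqg]
    exact pow_pos hp.pos g
  obtain ⟨m, rfl⟩ : ∃ m, n = m + 1 := ⟨n - 1, by omega⟩
  have hm : 2 ≤ m := by omega
  have hord := Cfsg.Agent.S0280.result hF (m + 1) (by omega)
  have hfin : Finite (PSU (m + 1) F q) := inferInstance
  -- the exponent
  obtain ⟨N, hN⟩ : ∃ N, (m + 1) * (m + 1 - 1) / 2 = N := ⟨_, rfl⟩
  have hN2 : 2 * N = (m + 1) * m := by
    rw [← hN, Nat.add_sub_cancel]
    have : Even ((m + 1) * m) := by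
      rw [mul_comm]
      exact Nat.even_mul_succ_self m
    exact Nat.mul_div_cancel' this.two_dvd
  rw [hN, Finset.prod_range_succ'] at hord
  -- names
  obtain ⟨P', hP'⟩ : ∃ P', ∏ i ∈ Finset.range m,
      (if Even (i + 1) then q ^ (i + 1 + 1) + 1 else q ^ (i + 1 + 1) - 1) = P' := ⟨_, rfl⟩
  have hP'lt := h3_psu_lt q hq1 m (by omega)
  rw [hP'] at hord hP'lt
  have hfac0 : (if Even 0 then q ^ (0 + 1) + 1 else q ^ (0 + 1) - 1) = q + 1 := by simp
  rw [hfac0] at hord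
  -- p ∤ q + 1
  have hpq1 : ¬ p ∣ q + 1 := by
    have := not_dvd_pow_add_one hp hqg hg (e := 1) le_rfl
    simpa using this
  -- p ∤ P'
  have hpP' : ¬ p ∣ P' := by
    rw [← hP']
    intro h
    obtain ⟨i, -, hi⟩ := (Prime.dvd_finsetProd_iff hp.prime _).mp h
    split_ifs at hi
    · exact not_dvd_pow_add_one hp hqg hg (by omega) hi
    · exact not_dvd_pow_sub_one hp hqg hg (by omega) hi
  refine concl_of_mul hp (Nat.gcd (m + 1) (q + 1) * (q + 1)) (g * N) (P' * (q + 1)) ?_ ?_ ?_ ?_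
  · rw [mul_assoc, hord, hqg, pow_mul]
  · intro h
    rcases (Nat.Prime.dvd_mul hp).mp h with h | h
    · exact hpq1 (h.trans (Nat.gcd_dvd_right _ _))
    · exact hpq1 h
  · intro h
    rcases (Nat.Prime.dvd_mul hp).mp h with h | h
    · exact hpP' h
    · exact hpq1 h
  · -- the inequality
    have hgcd : 1 ≤ Nat.gcd (m + 1) (q + 1) := Nat.gcd_pos_of_pos_left _ (by omega)
    have hs : 3 * ∑ i ∈ Finset.range m, (i + 2) ≤ 5 * N := by
      have h1 := h3_psu_sum m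
      nlinarith
    have h5 : P' ^ 3 < p ^ (5 * (g * N)) := by
      calc P' ^ 3 < (q ^ ∑ i ∈ Finset.range m, (i + 2)) ^ 3 := Nat.pow_lt_pow_left hP'lt (by norm_num)
        _ = q ^ (3 * ∑ i ∈ Finset.range m, (i + 2)) := by rw [← pow_mul, mul_comm]
        _ ≤ q ^ (5 * N) := Nat.pow_le_pow_right hq1 hs
        _ = p ^ (5 * (g * N)) := by rw [hqg, ← pow_mul]; ring_nf
    calc (P' * (q + 1)) ^ 3 = P' ^ 3 * (q + 1) ^ 3 := by ring
      _ < p ^ (5 * (g * N)) * (q + 1) ^ 3 := Nat.mul_lt_mul_of_pos_right h5 (by positivity)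
      _ = 1 ^ 3 * (q + 1) ^ 3 * p ^ (5 * (g * N)) := by ring
      _ ≤ Nat.gcd (m + 1) (q + 1) ^ 3 * (q + 1) ^ 3 * p ^ (5 * (g * N)) := by
          refine Nat.mul_le_mul_right _ (Nat.mul_le_mul_right _ ?_)
          exact Nat.pow_le_pow_left hgcd 3
      _ = (Nat.gcd (m + 1) (q + 1) * (q + 1)) ^ 3 * p ^ (5 * (g * N)) := by ring

end Cfsg.Agent.Helper3.O3K
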