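import Mathlib
import Cfsg.Agent.Lib.Helper3.TU_LUC

/-!
# RJ server (helper35, S2279): piece F4, Lucas
-/

set_option autoImplicit false

namespace Cfsg.Agent.Helper3.RJ

/-- (F4) Lucas. -/
theorem luc (p : ℕ) (hp : p.Prime) (a n' : ℕ) (hn' : 2 ≤ n') (hpn : ¬ p ∣ n') :
    ¬ p ∣ Nat.choose (p ^ a * n' - 1 + p ^ a) (p ^ a * n' - 1) := by
  have : Fact p.Prime := ⟨hp⟩
  have hpa : 1 ≤ p ^ a := Nat.one_le_pow _ _ hp.pos
  have h1 : p ^ a * n' - 1 + p ^ a = p ^ a * (n' + 1) - 1 := by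
    have h2 : p ^ a * (n' + 1) = p ^ a * n' + p ^ a := by ring
    rw [h2]
    have : 1 ≤ p ^ a * n' := Nat.mul_pos hpa (by omega)
    omega
  have h3 : Nat.choose (p ^ a * n' - 1 + p ^ a) (p ^ a * n' - 1) =
      Nat.choose (p ^ a * n' - 1 + p ^ a) (p ^ a) := Nat.choose_symm_add
  rw [h3, h1]
  exact Cfsg.Agent.Helper3.TU.h3_not_dvd_choose p a n' hpn

end Cfsg.Agent.Helper3.RJ
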