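import Mathlib
import Cfsg.Prelude.Def_Transfer
import Cfsg.Agent.Lib.Helper3.MaxNormalAbelian
import Cfsg.Agent.Lib.Helper35.ClassThree

set_option autoImplicit false

namespace Cfsg.Agent.Helper3

open Subgroup

/-- A finite `p`-group of order at most `p ^ 2` is commutative. -/
theorem isMulCommutative_of_card_le_prime_sq {R : Type*} [Group R] [Finite R] {p : ℕ}
    [Fact p.Prime] (hR : IsPGroup p R) (hc : Nat.card R ≤ p ^ 2) : IsMulCommutative R := by
  have hp : p.Prime := Fact.out
  obtain ⟨k, hk⟩ := IsPGroup.iff_card.mp hR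
  have hk2 : k ≤ 2 := by
    by_contra h
    push Not at h
    have : p ^ 2 < p ^ k := Nat.pow_lt_pow_right hp.one_lt h
    omega
  rcases Nat.lt_or_ge k 2 with h | h
  · have : Nat.card R ∣ p := by
      rw [hk]
      calc p ^ k ∣ p ^ 1 := pow_dvd_pow p (by omega)
        _ = p := pow_one p
    have := isCyclic_of_card_dvd_prime this
    infer_instance
  · have : k = 2 := le_antisymm hk2 h
    rw [this] at hk
    exact IsPGroup.isMulCommutative_of_card_eq_prime_sq hk

/-- A finite `p`-group of order at most `p ^ (n + 1)` (`n ≥ 1`) has class at most `n`. -/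
theorem ucs_eq_top_of_card_le {p : ℕ} [Fact p.Prime] :
    ∀ (n : ℕ), 1 ≤ n → ∀ (R : Type*) [Group R] [Finite R], IsPGroup p R →
      Nat.card R ≤ p ^ (n + 1) → Subgroup.upperCentralSeries R n = ⊤ := by
  have hp : p.Prime := Fact.out
  intro n hn
  induction n, hn using Nat.le_induction with
  | base =>
    intro R _ _ hR hc
    rw [Subgroup.upperCentralSeries_one]
    have := isMulCommutative_of_card_le_prime_sq hR hc
    rw [Subgroup.center_eq_top_iff]
    exact this
  | succ n hn ih =>
    intro R _ _ hR hc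
    rw [← Subgroup.comap_upperCentralSeries_quotient_center]
    rcases subsingleton_or_nontrivial R with hs | hnt
    · exact Subsingleton.elim _ _
    · have hQ : IsPGroup p (R ⧸ center R) := hR.to_quotient _
      have hZ : Nontrivial (center R) := hR.center_nontrivial
      have hZc : p ≤ Nat.card (center R) := by
        obtain ⟨k, hk0, hk⟩ := (IsPGroup.nontrivial_iff_card (hR.to_subgroup (center R))).mp hZ
        rw [hk]
        calc p = p ^ 1 := (pow_one p).symm
          _ ≤ p ^ k := Nat.pow_le_pow_right hp.pos hk0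
      have hcard : Nat.card (center R) * (center R).index = Nat.card R :=
        Subgroup.card_mul_index _
      have hQc : Nat.card (R ⧸ center R) ≤ p ^ (n + 1) := by
        change (center R).index ≤ _
        by_contra h
        push Not at h
        have : p * p ^ (n + 1) < Nat.card (center R) * (center R).index :=
          Nat.mul_lt_mul_of_le_of_lt hZc h Nat.card_pos
        rw [hcard] at this
        have h2 : p * p ^ (n + 1) = p ^ (n + 1 + 1) := by rw [pow_succ p (n + 1), mul_comm]
        omega
      rw [ih (R ⧸ center R) hQ hQc, Subgroup.comap_top]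

/-- A finite `p`-group of order at most `p ^ 4` has `γ₄ = 1`. -/
theorem class_three_of_card_le {R : Type*} [Group R] [Finite R] {p : ℕ} [Fact p.Prime]
    (hR : IsPGroup p R) (hc : Nat.card R ≤ p ^ 4) :
    ⁅⁅commutator R, (⊤ : Subgroup R)⁆, (⊤ : Subgroup R)⁆ = ⊥ := by
  haveI : Group.IsNilpotent R := hR.isNilpotent
  have h1 : Subgroup.upperCentralSeries R 3 = ⊤ := ucs_eq_top_of_card_le 3 (by norm_num) R hR hc
  rw [Subgroup.upperCentralSeries_eq_top_iff_nilpotencyClass_le,
    ← Subgroup.lowerCentralSeries_eq_bot_iff_nilpotencyClass_le] at h1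
  exact h1


/-- The rank condition passes to subgroups. -/
theorem rank_le_two_subgroup {R : Type*} [Group R] {p : ℕ}
    (hrk : ∀ E : Subgroup R, Cfsg.IsElementaryAbelian p E → Nat.card E ≤ p ^ 2) (M : Subgroup R) :
    ∀ E : Subgroup M, Cfsg.IsElementaryAbelian p E → Nat.card E ≤ p ^ 2 := by
  intro E hE
  have h1 : Cfsg.IsElementaryAbelian p (E.map M.subtype) := by
    refine ⟨?_, ?_⟩
    · haveI := hE.1
      infer_instance
    · rintro a ⟨e, he, rfl⟩
      have := hE.2 e he
      have h2 := congrArg Subtype.val this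
      rw [Subgroup.coe_pow] at h2
      exact h2
  have h2 := hrk _ h1
  rwa [Subgroup.card_map_of_injective M.subtype_injective] at h2

/-- A finite group of exponent `p` and rank at most `2` has order at most `p ^ 3`. -/
theorem card_le_cube_of_exponent {X : Type*} [Group X] [Finite X] {p : ℕ} [Fact p.Prime]
    (hexp : ∀ x : X, x ^ p = 1)
    (hrk : ∀ E : Subgroup X, Cfsg.IsElementaryAbelian p E → Nat.card E ≤ p ^ 2) :
    Nat.card X ≤ p ^ 3 := by
  have hp : p.Prime := Fact.out
  have hX : IsPGroup p X := fun g => ⟨1, by rw [pow_one]; exact hexp g⟩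
  obtain ⟨k, hk⟩ := IsPGroup.iff_card.mp hX
  by_cases hk2 : k ≤ 2
  · rw [hk]; exact Nat.pow_le_pow_right hp.pos (by omega)
  push Not at hk2
  have hne0 : (⊥ : Subgroup X) ≠ ⊤ := by
    intro h
    have h1 : Nat.card (⊥ : Subgroup X) = Nat.card (⊤ : Subgroup X) := by rw [h]
    rw [Subgroup.card_bot, Subgroup.card_top, hk] at h1
    have : 1 < p ^ k := Nat.one_lt_pow (by omega) hp.one_lt
    omega
  obtain ⟨E₁, hE₁n, -, -, hE₁c⟩ := Helper35.exists_normal_step hX ⊥ ⊤ bot_le hne0
  rw [Subgroup.card_bot, one_mul] at hE₁c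
  haveI := hE₁n
  have hne1 : E₁ ≠ ⊤ := by
    intro h
    rw [h, Subgroup.card_top, hk] at hE₁c
    have := Nat.pow_right_injective hp.two_le (hE₁c.trans (pow_one p).symm)
    omega
  obtain ⟨E, hEn, -, -, hEc⟩ := Helper35.exists_normal_step hX E₁ ⊤ le_top hne1
  rw [hE₁c, ← sq] at hEc
  haveI := hEn
  have hEcomm : IsMulCommutative E := IsPGroup.isMulCommutative_of_card_eq_prime_sq hEc
  have hCE : centralizer (E : Set X) ≤ E := by
    intro c hc
    have hFcomm : IsMulCommutative (closure ((E : Set X) ∪ {c})) := by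
      apply Subgroup.isMulCommutative_closure
      intro a ha b hb
      rcases ha with ha | ha <;> rcases hb with hb | hb
      · have := hEcomm.is_comm.comm ⟨a, ha⟩ ⟨b, hb⟩
        exact congrArg Subtype.val this
      · rw [Set.mem_singleton_iff] at hb
        subst hb
        exact (mem_centralizer_iff.mp hc a ha)
      · rw [Set.mem_singleton_iff] at ha
        subst ha
        exact (mem_centralizer_iff.mp hc b hb).symm
      · rw [Set.mem_singleton_iff] at ha hb
        rw [ha, hb]
    have hFel : Cfsg.IsElementaryAbelian p (closure ((E : Set X) ∪ {c})) :=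
      ⟨hFcomm, fun a _ => hexp a⟩
    have hFc := hrk _ hFel
    have hEF : E ≤ closure ((E : Set X) ∪ {c}) := by
      intro e he
      exact subset_closure (Or.inl he)
    have : E = closure ((E : Set X) ∪ {c}) :=
      Subgroup.eq_of_le_of_card_ge hEF (by rw [hEc]; exact hFc)
    rw [this]
    exact subset_closure (Or.inr rfl)
  have hEC : E ≤ centralizer (E : Set X) := by
    rw [Subgroup.le_centralizer_iff_isMulCommutative]; exact hEcomm
  have hCeq : centralizer (E : Set X) = E := le_antisymm hCE hEC
  have hidx := index_centralizer_normal_le hX E 2 hEc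
  rw [hCeq] at hidx
  have h22 : Nat.choose 2 2 = 1 := by decide
  rw [h22, pow_one] at hidx
  calc Nat.card X = Nat.card E * E.index := (Subgroup.card_mul_index E).symm
    _ ≤ p ^ 2 * p := by rw [hEc]; exact Nat.mul_le_mul_left _ hidx
    _ = p ^ 3 := by ring

universe u

/-- For `p > 3`, in a `p`-group of rank at most `2` the product of two elements of order
dividing `p` has order dividing `p`. -/
theorem mul_pow_eq_one_of_rank_le_two {p : ℕ} [Fact p.Prime] (hp3 : 3 < p) :
    ∀ (n : ℕ) (R : Type u) [Group R] [Finite R], Nat.card R = n → IsPGroup p R →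
    (∀ E : Subgroup R, Cfsg.IsElementaryAbelian p E → Nat.card E ≤ p ^ 2) →
    ∀ x y : R, x ^ p = 1 → y ^ p = 1 → (x * y) ^ p = 1 := by
  have hp : p.Prime := Fact.out
  intro n
  induction n using Nat.strong_induction_on with
  | _ n ih =>
  intro R _ _ hn hR hrk x y hx hy
  have ihM : ∀ M : Subgroup R, M ≠ ⊤ → ∀ g : M, g ∈ closure {z : M | z ^ p = 1} → g ^ p = 1 := by
    intro M hM g hg
    have hlt : Nat.card M < n := by
      rw [← hn]
      exact lt_of_le_of_ne (Subgroup.card_le_card_group M)
        (fun h => hM (Subgroup.eq_top_of_card_eq M h))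
    have key := ih (Nat.card M) hlt M rfl (hR.to_subgroup M) (rank_le_two_subgroup hrk M)
    induction hg using Subgroup.closure_induction with
    | mem z hz => exact hz
    | one => exact one_pow p
    | mul a b _ _ ha hb => exact key a b ha hb
    | inv a _ ha => rw [inv_pow, ha, inv_one]
  by_cases hM : closure ({x, y} : Set R) = ⊤
  swap
  · have hxM : x ∈ closure ({x, y} : Set R) := subset_closure (by simp)
    have hyM : y ∈ closure ({x, y} : Set R) := subset_closure (by simp)
    have h1 : (⟨x, hxM⟩ : closure ({x, y} : Set R)) ∈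
        closure {z : closure ({x, y} : Set R) | z ^ p = 1} :=
      subset_closure (Subtype.ext (by rw [Subgroup.coe_pow]; exact hx))
    have h2 : (⟨y, hyM⟩ : closure ({x, y} : Set R)) ∈
        closure {z : closure ({x, y} : Set R) | z ^ p = 1} :=
      subset_closure (Subtype.ext (by rw [Subgroup.coe_pow]; exact hy))
    have := ihM _ hM (⟨x, hxM⟩ * ⟨y, hyM⟩) (mul_mem h1 h2)
    have h3 := congrArg Subtype.val this
    rw [Subgroup.coe_pow] at h3
    exact h3
  by_cases hcomm : ∀ a b : R, a * b = b * a
  · have : Commute x y := hcomm x y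
    rw [this.mul_pow, hx, hy, one_mul]
  have hzx : zpowers x ≠ ⊤ := by
    intro h
    apply hcomm
    intro a b
    have : IsCyclic R := ⟨x, fun g => by
      have : g ∈ zpowers x := h ▸ mem_top g
      exact this⟩
    exact (IsCyclic.isMulCommutative (α := R)).is_comm.comm a b
  obtain ⟨M₁, hM₁co, hxM₁⟩ := (eq_top_or_exists_le_coatom (zpowers x)).resolve_left hzx
  haveI : Group.IsNilpotent R := hR.isNilpotent
  have hM₁n : M₁.Normal :=
    Subgroup.NormalizerCondition.normal_of_coatom M₁ Group.normalizerCondition_of_isNilpotent hM₁co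
  have hxM : x ∈ M₁ := hxM₁ (mem_zpowers x)
  have hXexp : ∀ n ∈ closure {z : R | z ∈ M₁ ∧ z ^ p = 1},
      ∃ h : n ∈ M₁, (⟨n, h⟩ : M₁) ∈ closure {z : M₁ | z ^ p = 1} := by
    intro n hn
    induction hn using Subgroup.closure_induction with
    | mem z hz =>
      exact ⟨hz.1, subset_closure (Subtype.ext (by rw [Subgroup.coe_pow]; exact hz.2))⟩
    | one => exact ⟨one_mem _, one_mem _⟩
    | mul a b _ _ ha hb =>
      obtain ⟨ha1, ha2⟩ := ha
      obtain ⟨hb1, hb2⟩ := hb
      exact ⟨mul_mem ha1 hb1, mul_mem ha2 hb2⟩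
    | inv a _ ha =>
      obtain ⟨ha1, ha2⟩ := ha
      exact ⟨inv_mem ha1, inv_mem ha2⟩
  have hXp : ∀ n ∈ closure {z : R | z ∈ M₁ ∧ z ^ p = 1}, n ^ p = 1 := by
    intro n hn
    obtain ⟨h, h2⟩ := hXexp n hn
    have := ihM M₁ hM₁co.1 _ h2
    have h3 := congrArg Subtype.val this
    rw [Subgroup.coe_pow] at h3
    exact h3
  have hXn : (closure {z : R | z ∈ M₁ ∧ z ^ p = 1}).Normal := by
    refine ⟨fun n hn g => ?_⟩
    induction hn using Subgroup.closure_induction with
    | mem z hz =>
      refine subset_closure ⟨hM₁n.conj_mem z hz.1 g, ?_⟩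
      rw [conj_pow, hz.2, mul_one, mul_inv_cancel]
    | one => rw [mul_one, mul_inv_cancel]; exact one_mem _
    | mul a b _ _ ha hb =>
      have : g * (a * b) * g⁻¹ = (g * a * g⁻¹) * (g * b * g⁻¹) := by group
      rw [this]; exact mul_mem ha hb
    | inv a _ ha =>
      have : g * a⁻¹ * g⁻¹ = (g * a * g⁻¹)⁻¹ := by group
      rw [this]; exact inv_mem ha
  have hxX : x ∈ closure {z : R | z ∈ M₁ ∧ z ^ p = 1} := subset_closure ⟨hxM, hx⟩
  have hXc : Nat.card (closure {z : R | z ∈ M₁ ∧ z ^ p = 1}) ≤ p ^ 3 :=
    card_le_cube_of_exponent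
      (fun n => Subtype.ext (by rw [Subgroup.coe_pow]; exact hXp n n.2))
      (rank_le_two_subgroup hrk _)
  have hidx : (closure {z : R | z ∈ M₁ ∧ z ^ p = 1}).index ≤ p := by
    haveI := hXn
    set X := closure {z : R | z ∈ M₁ ∧ z ^ p = 1} with hX
    have hall : ∀ q : R ⧸ X, q ∈ zpowers (QuotientGroup.mk' X y) := by
      intro q
      obtain ⟨g, rfl⟩ := QuotientGroup.mk'_surjective X q
      have hle : closure ({x, y} : Set R) ≤
          (zpowers (QuotientGroup.mk' X y)).comap (QuotientGroup.mk' X) := by
        rw [closure_le]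
        intro z hz
        rcases hz with rfl | hz
        · rw [SetLike.mem_coe, Subgroup.mem_comap]
          have : QuotientGroup.mk' X z = 1 := by
            rw [← MonoidHom.mem_ker, QuotientGroup.ker_mk']; exact hxX
          rw [this]; exact one_mem _
        · rw [Set.mem_singleton_iff] at hz
          subst hz
          rw [SetLike.mem_coe, Subgroup.mem_comap]
          exact mem_zpowers _
      rw [hM] at hle
      exact hle (mem_top g)
    have h1 := orderOf_eq_card_of_forall_mem_zpowers hall
    have h2 : orderOf (QuotientGroup.mk' X y) ∣ p :=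
      orderOf_dvd_of_pow_eq_one (by rw [← map_pow, hy, map_one])
    rw [Subgroup.index, ← h1]
    exact Nat.le_of_dvd hp.pos h2
  have hRc : Nat.card R ≤ p ^ 4 := by
    calc Nat.card R = Nat.card (closure {z : R | z ∈ M₁ ∧ z ^ p = 1}) *
          (closure {z : R | z ∈ M₁ ∧ z ^ p = 1}).index := (Subgroup.card_mul_index _).symm
      _ ≤ p ^ 3 * p := Nat.mul_le_mul hXc hidx
      _ = p ^ 4 := by ring
  have hcl := class_three_of_card_le hR hRc
  have hxy : x * y ∈ closure {z : R | z ^ p = 1} :=
    mul_mem (subset_closure hx) (subset_closure hy)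
  exact Helper35.pow_eq_one_of_mem_closure_class_three hp (by omega)
    (Helper35.central_of_class_three hcl)
    (Or.inl (Helper35.prime_dvd_choose_three_facts hp hp3)) _ hxy

/-- For `p > 3`, in a `p`-group of `p`-rank at most `2` the elements of order dividing `p`
generate a subgroup of exponent dividing `p`. -/
theorem pow_eq_one_of_rank_le_two {R : Type u} [Group R] [Finite R] {p : ℕ} [Fact p.Prime]
    (hp : 3 < p) (hR : IsPGroup p R)
    (hrk : ∀ E : Subgroup R, Cfsg.IsElementaryAbelian p E → Nat.card E ≤ p ^ 2) (g : R)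
    (hg : g ∈ Subgroup.closure {x : R | x ^ p = 1}) : g ^ p = 1 := by
  induction hg using Subgroup.closure_induction with
  | mem z hz => exact hz
  | one => exact one_pow p
  | mul a b _ _ ha hb => exact mul_pow_eq_one_of_rank_le_two hp _ R rfl hR hrk a b ha hb
  | inv a _ ha => rw [inv_pow, ha, inv_one]

end Cfsg.Agent.Helper3
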