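import Mathlib
import Cfsg.Agent.Lib.Helper64.S4017Defs

/-!
# S4017M (D4b), core: the Sylow `p`-subgroup through `z ∈ Z_t` is centralised by `t`

Stated with (D1), (D3), (D4a), (C1) of `tools/s4017_sigsD_helper64.lean.txt` as hypotheses.
-/

set_option autoImplicit false

namespace Cfsg.Agent.Helper3.S4017M

open Cfsg.Agent.Helper64.S4017

variable {G : Type*} [Group G] [Finite G] {a p : ℕ} {Q : Subgroup G} {x : G}

theorem h3_isPel_of_mem_sylow (hp : p.Prime) (P : Sylow p G) {g : G} (hg : g ∈ P) : IsPel p g := by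
  obtain ⟨k, hk⟩ := P.2 ⟨g, hg⟩
  have h1 : g ^ p ^ k = 1 := by
    have := congrArg Subtype.val hk
    simpa using this
  have h2 : orderOf g ∣ p ^ k := orderOf_dvd_of_pow_eq_one h1
  obtain ⟨j, _, hj⟩ := (Nat.dvd_prime_pow hp).1 h2
  exact ⟨j, hj⟩

theorem h3_exists_third (h : Setting a p Q x) (ha : a = 2) (t : G) :
    ∃ s ∈ Q, s ≠ 1 ∧ s ≠ t := by
  by_contra hcon
  push_neg at hcon
  have hsub : (Q : Set G) ⊆ {1, t} := by
    intro s hs
    by_cases hs1 : s = 1
    · simp [hs1]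
    · have := hcon s hs hs1
      simp [this]
  have h1 : Nat.card Q = Set.ncard (Q : Set G) := Nat.card_coe_set_eq (Q : Set G)
  have h2 : Set.ncard (Q : Set G) ≤ Set.ncard ({1, t} : Set G) :=
    Set.ncard_le_ncard hsub (Set.toFinite _)
  have h3 : Set.ncard ({1, t} : Set G) ≤ 2 := by
    have := Set.ncard_insert_le (1 : G) ({t} : Set G)
    rw [Set.ncard_singleton] at this
    exact this
  have h4 := h.card_Q
  rw [ha] at h4
  omega

theorem D_sylow_le_core (h : Setting a p Q x) (T : Tools a p Q x) (ha : a = 2)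
    (hD1 : ∀ {t s z : G}, t ∈ Q → t ≠ 1 → s ∈ Q → s ≠ 1 → s ≠ t → IsPel p z → z * t = t * z →
      s * z * s⁻¹ = z⁻¹)
    (hD3 : ∀ {t z : G}, t ∈ Q → t ≠ 1 → IsPel p z → z ≠ 1 → z * t = t * z →
      ∃ P : Sylow p G, z ∈ P ∧ (∀ P' : Sylow p G, z ∈ P' → P' = P) ∧
        (∀ g : G, g * z = z * g → IsPel p g → g ∈ P) ∧
        (∀ g : G, g * z = z * g → g ∈ P ∨ g * t ∈ P))
    (hD4a : ∀ {t t' : G}, t ∈ Q → t ≠ 1 → t' ∈ Q → t' ≠ 1 → t ≠ t' →
      (∃ z : G, z ≠ 1 ∧ IsPel p z ∧ z * t = t * z) →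
      (∀ z1 z2 : G, IsPel p z1 → z1 * t = t * z1 → IsPel p z2 → z2 * t' = t' * z2 →
        z1 * z2 = z2 * z1) → False)
    (hC1 : ∀ Z : Subgroup G, (∀ z ∈ Z, ∀ z' ∈ Z, z * z' = z' * z) →
      (∀ s ∈ Q, ∀ z ∈ Z, s * z * s⁻¹ ∈ Z) → (∀ z ∈ Z, Odd (orderOf z)) →
      Z ≤ Subgroup.closure {w | w ∈ Z ∧ IsEig Q w})
    {t z : G} (ht : t ∈ Q) (ht1 : t ≠ 1) (hz : IsPel p z) (hz1 : z ≠ 1)
    (hzt : z * t = t * z) (P : Sylow p G) (hzP : z ∈ P) : ∀ g ∈ P, g * t = t * g := by
  classical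
  have hp : p.Prime := h.prime
  have hp3 : p = 3 := by
    have := h.p_eq
    rw [ha] at this
    norm_num at this
    omega
  have hQ2 := h.elem
  have hQinv : ∀ s ∈ Q, s⁻¹ = s := fun s hs => inv_eq_of_mul_eq_one_left (hQ2 s hs)
  -- D3 at (t, z)
  obtain ⟨P₀, hzP₀, huniq, hpel, -⟩ := hD3 ht ht1 hz hz1 hzt
  have hPP₀ : P = P₀ := huniq P hzP
  subst hPP₀
  -- `Q` normalises `P`
  have hnorm : ∀ s ∈ Q, ∀ g ∈ P, s * g * s⁻¹ ∈ P := by
    intro s hs g hg
    have hszs : s * z * s⁻¹ ∈ P := by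
      by_cases hs1 : s = 1
      · subst hs1; simpa using hzP
      by_cases hst : s = t
      · subst hst
        have : s * z * s⁻¹ = z := by rw [← hzt]; group
        rw [this]; exact hzP
      · rw [hD1 ht ht1 hs hs1 hst hz hzt]; exact inv_mem hzP
    have hmem : z ∈ (s⁻¹ • P : Sylow p G) := by
      have : z ∈ ((s⁻¹ • P : Sylow p G) : Subgroup G) := by
        rw [Sylow.coe_subgroup_smul, Subgroup.mem_pointwise_smul_iff_inv_smul_mem]
        have h' : s * z * s⁻¹ ∈ (P : Subgroup G) := hszs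
        simpa [MulAut.smul_def, MulAut.conj_apply] using h'
      exact this
    have heq : (s⁻¹ • P : Sylow p G) = P := huniq _ hmem
    have hn := Sylow.smul_eq_iff_mem_normalizer.1 heq
    have hn' := inv_mem hn
    rw [inv_inv] at hn'
    exact (Subgroup.mem_normalizer_iff.1 hn' g).1 hg
  -- odd orders
  have hodd : ∀ g ∈ (P : Subgroup G), Odd (orderOf g) := by
    intro g hg
    obtain ⟨j, hj⟩ := h3_isPel_of_mem_sylow hp P hg
    rw [hj, hp3]
    exact Odd.pow (by decide)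
  have hgen := hC1 (P : Subgroup G) (fun g hg g' hg' => h.abel P g hg g' hg') hnorm hodd
  -- every eigenvector in `P` commutes with `t`
  have heig : ∀ w : G, w ∈ (P : Subgroup G) → IsEig Q w → t * w = w * t := by
    intro w hwP he
    by_contra hne
    have hw1 : w ≠ 1 := by
      rintro rfl
      exact hne (by simp)
    have htw : t * w * t⁻¹ = w⁻¹ := by
      rcases he t ht with h1 | h1
      · exact absurd (by
          calc t * w = (t * w * t⁻¹) * t := by group
            _ = w * t := by rw [h1]) hne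
      · exact h1
    obtain ⟨s, hs, hs1, hst⟩ := h3_exists_third h ha t
    have hwpel : IsPel p w := h3_isPel_of_mem_sylow hp P hwP
    -- find `t' ∈ Q \ {1, t}` commuting with `w`
    obtain ⟨t', ht', ht'1, ht't, hwt'⟩ : ∃ t' ∈ Q, t' ≠ 1 ∧ t' ≠ t ∧ w * t' = t' * w := by
      rcases he s hs with h1 | h1
      · refine ⟨s, hs, hs1, hst, ?_⟩
        calc w * s = (s * w * s⁻¹) * s := by rw [h1]
          _ = s * w := by group
      · refine ⟨t * s, mul_mem ht hs, ?_, ?_, ?_⟩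
        · intro h0
          apply hst
          have : s = t⁻¹ := by
            rw [eq_inv_iff_mul_eq_one]
            rw [← h0]
            have := hQ2 (t * s) (mul_mem ht hs)
            rw [h0] at this
            have hc : s * t = (t * s)⁻¹ := by
              rw [mul_inv_rev, hQinv s hs, hQinv t ht]
            rw [hc, h0]; simp
          rw [this, hQinv t ht]
        · intro h0
          apply hs1
          have := mul_left_cancel (a := t) (b := s) (c := 1) (by rw [h0, mul_one])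
          exact this
        · have h2 : (t * s) * w * (t * s)⁻¹ = w := by
            calc (t * s) * w * (t * s)⁻¹ = t * (s * w * s⁻¹) * t⁻¹ := by group
              _ = t * w⁻¹ * t⁻¹ := by rw [h1]
              _ = (t * w * t⁻¹)⁻¹ := by group
              _ = w := by rw [htw, inv_inv]
          calc w * (t * s) = ((t * s) * w * (t * s)⁻¹) * (t * s) := by rw [h2]
            _ = (t * s) * w := by group
    obtain ⟨P₁, hwP₁, huniq₁, hpel₁, -⟩ := hD3 ht' ht'1 hwpel hw1 hwt'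
    have hPP₁ : P = P₁ := huniq₁ P hwP
    subst hPP₁
    obtain ⟨Z, hZmem, hZab⟩ := T.ct t ht ht1
    obtain ⟨Z', hZ'mem, hZ'ab⟩ := T.ct t' ht' ht'1
    refine hD4a ht ht1 ht' ht'1 (Ne.symm ht't) ⟨z, hz1, hz, hzt⟩ ?_
    intro z1 z2 hz1p hz1t hz2p hz2t
    have hz1P : z1 ∈ P := hpel z1
      (hZab z1 ((hZmem z1).2 ⟨hz1t, hz1p⟩) z ((hZmem z).2 ⟨hzt, hz⟩)) hz1p
    have hz2P : z2 ∈ P := hpel₁ z2
      (hZ'ab z2 ((hZ'mem z2).2 ⟨hz2t, hz2p⟩) w ((hZ'mem w).2 ⟨hwt', hwpel⟩)) hz2p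
    exact h.abel P z1 hz1P z2 hz2P
  -- conclude
  have hle : Subgroup.closure {w | w ∈ (P : Subgroup G) ∧ IsEig Q w} ≤ Subgroup.centralizer {t} := by
    rw [Subgroup.closure_le]
    rintro w ⟨hwP, he⟩
    rw [SetLike.mem_coe, Subgroup.mem_centralizer_iff]
    intro y hy
    rw [Set.mem_singleton_iff] at hy
    subst hy
    exact heig w hwP he
  intro g hg
  have := hle (hgen hg)
  rw [Subgroup.mem_centralizer_iff] at this
  exact (this t rfl).symm

end Cfsg.Agent.Helper3.S4017M
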