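import Mathlib
import Cfsg.Agent.Lib.Helper31.SCHDefs

set_option autoImplicit false
set_option linter.unusedSectionVars false

namespace Cfsg.Agent.Helper3.SCH
open Cfsg Cfsg.Agent.Helper31.SCH

section P
variable {P : Type*} [Group P] [Finite P] {p : ℕ} [Fact p.Prime]

/-- (P7) [S] transport along an isomorphism: `β = e.trans (α.trans e.symm)`. -/
theorem SA_congr {Q : Type*} [Group Q] (e : Q ≃* P) (α : MulAut P) (h : SA p α) :
    ∃ β : MulAut Q, SA p β := by
  have happ : ∀ (γ : MulAut P) (x : Q), (MulAut.congr e.symm γ) x = e.symm (γ (e x)) := by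
    intro γ x
    rfl
  refine ⟨MulAut.congr e.symm α, ?_, ?_, ?_⟩
  · obtain ⟨q, hq, hqp, hα⟩ := h.ord
    refine ⟨q, hq, hqp, ?_⟩
    rw [← map_pow, hα, map_one]
  · intro h1
    apply h.ne
    have : MulAut.congr e.symm α = MulAut.congr e.symm 1 := by rw [h1, map_one]
    exact (MulAut.congr e.symm).injective this
  · intro R hR hinv x hx
    have hR' : R.map e.toMonoidHom ≠ ⊤ := by
      intro htop
      apply hR
      rw [eq_top_iff]
      intro y _
      have : e y ∈ R.map e.toMonoidHom := by rw [htop]; trivial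
      obtain ⟨z, hz, hzy⟩ := this
      have : z = y := e.injective hzy
      rwa [← this]
    have hinv' : ∀ y ∈ R.map e.toMonoidHom, α y ∈ R.map e.toMonoidHom := by
      rintro _ ⟨z, hz, rfl⟩
      refine ⟨e.symm (α (e z)), ?_, by simp⟩
      have := hinv z hz
      rwa [happ] at this
    have := h.fix _ hR' hinv' (e x) ⟨x, hx, rfl⟩
    rw [happ, this]
    simp

end P

end Cfsg.Agent.Helper3.SCH
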