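import Mathlib
import Cfsg.Agent.Lib.Helper62.SLN0

/-!
# SLN server (helper62, S2332): piece K1b3
-/

set_option autoImplicit false

namespace Cfsg.Agent.Helper3.SLN

open Matrix Module Cfsg.Agent.Helper93.U2 Cfsg.Agent.Helper62.SLN

section SLN

variable {F : Type*} [Field F] [Fintype F] [DecidableEq F] {κ : Type} [Fintype κ] [DecidableEq κ]
  {V : Type*} [AddCommGroup V] [Module ℂ V] [FiniteDimensional ℂ V]
  (ψ : AddChar F ℂ) (pr : Pairing (κ → F)) (hpr : ∀ w u, pr.β w u = ψ (w ⬝ᵥ u))
  (ρ : Representation ℂ (SpecialLinearGroup (Unit ⊕ κ) F) V)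

include hpr

omit [DecidableEq F] in
/-- piece K1b3 : for `n = 3` the stabiliser in `Q` of a weight `w ∉ F e_j` is trivial -/
theorem k1b_three (hκ : Fintype.card κ = 2) (j : κ) (w : κ → F) (hwj : w j = 0) (hw : w ≠ 0)
    (t : κ → F) (ht : t ⬝ᵥ w = 0) : qEl (F := F) j t = 1 := by
  -- the other index
  obtain ⟨i, hi⟩ : ∃ i, w i ≠ 0 := by
    by_contra hcon
    simp only [not_exists, not_not] at hcon
    exact hw (funext hcon)
  have hij : i ≠ j := by
    intro h
    rw [h] at hi
    exact hi hwj
  have huniv : (Finset.univ : Finset κ) = {j, i} := by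
    symm
    apply Finset.eq_univ_of_card
    rw [Finset.card_pair hij.symm, hκ]
  have hti : t i = 0 := by
    unfold dotProduct at ht
    rw [huniv, Finset.sum_pair hij.symm, hwj, mul_zero, zero_add] at ht
    rcases mul_eq_zero.1 ht with h | h
    · exact h
    · exact absurd h hi
  have hupd : Function.update t j 0 = 0 := by
    funext x
    have hx : x ∈ ({j, i} : Finset κ) := by rw [← huniv]; exact Finset.mem_univ x
    rw [Finset.mem_insert, Finset.mem_singleton] at hx
    rcases hx with rfl | rfl
    · simp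
    · rw [Function.update_of_ne hij]
      exact hti
  have htv : tvEl (F := F) j t = 1 := by
    apply Subtype.ext
    rw [tvEl_val, hupd]
    simp
  unfold qEl
  rw [htv]
  apply Subtype.ext
  rw [lEl_val]
  simp

end SLN

end Cfsg.Agent.Helper3.SLN
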