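import Mathlib

/-!
# SLN server (helper62, S2332): piece TR, reindexing `SL (Unit ⊕ Fin m) F ≃* SL (Fin (m + 1)) F`
-/

set_option autoImplicit false

namespace Cfsg.Agent.Helper3.SLN

open Matrix

/-- reindexing a special linear group along an equivalence of index types -/
def h3_slReindex {m n : Type*} [Fintype m] [DecidableEq m] [Fintype n] [DecidableEq n]
    (F : Type*) [CommRing F] (e : m ≃ n) : SpecialLinearGroup m F ≃* SpecialLinearGroup n F where
  toFun A := ⟨Matrix.reindex e e A.1, by rw [Matrix.det_reindex_self]; exact A.2⟩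
  invFun A := ⟨Matrix.reindex e.symm e.symm A.1, by rw [Matrix.det_reindex_self]; exact A.2⟩
  left_inv A := by
    apply Subtype.ext
    ext i j
    simp [Matrix.reindex_apply]
  right_inv A := by
    apply Subtype.ext
    ext i j
    simp [Matrix.reindex_apply]
  map_mul' A B := by
    apply Subtype.ext
    show Matrix.reindex e e (A.1 * B.1) = Matrix.reindex e e A.1 * Matrix.reindex e e B.1
    simp only [Matrix.reindex_apply]
    rw [Matrix.submatrix_mul_equiv]

/-- piece TR : reindexing -/
theorem exists_reindex (F : Type*) [Field F] (m : ℕ) :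
    Nonempty (SpecialLinearGroup (Unit ⊕ Fin m) F ≃* SpecialLinearGroup (Fin (m + 1)) F) := by
  have hcard : Fintype.card (Unit ⊕ Fin m) = m + 1 := by
    simp [Fintype.card_sum, add_comm]
  exact ⟨h3_slReindex F (Fintype.equivFinOfCardEq hcard)⟩

end Cfsg.Agent.Helper3.SLN
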