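import Mathlib
import Cfsg.Agent.Lib.Helper62.SUO0

/-!
# SUO server (helper62, S2282): the piece (U1) `superdiag_mul`
-/

set_option autoImplicit false
set_option linter.unusedSectionVars false
set_option linter.unusedVariables false
set_option quotPrecheck false

namespace Cfsg.Agent.Helper3.SUO

open Matrix Cfsg Cfsg.Agent.Helper13 Cfsg.Agent.Helper87.PsuA Cfsg.Agent.Helper62.SUO

section U
variable {F : Type*} [Field F] [Fintype F] {q n : ℕ} (hF : Fintype.card F = q ^ 2)
  {b : Fin n → Fin n → F}

local notation "V" => Fin n → F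
local notation "G" => ↥(Cfsg.SU n F q)
local notation "H" => Cfsg.hermForm n F q

include hF

/-- (U1) `rhoM_mul`, `mem_Usub`: superdiagonal entries add -/
theorem superdiag_mul (hb : HB q b) {g h : G} (hg : g ∈ Usub hb) (hh : h ∈ Usub hb)
    (i j : Fin n) (hij : i.val + 1 = j.val) :
    co q b (actv (g * h) (b j)) i = co q b (actv g (b j)) i + co q b (actv h (b j)) i := by
  have hg' := (mem_Usub_iff hb).1 hg
  have hh' := (mem_Usub_iff hb).1 hh
  have e : ∀ (x : G) (r s : Fin n), co q b (actv x (b s)) r = rhoM q b x r s :=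
    fun x r s => (rhoM_apply x r s).symm
  rw [e (g * h), rhoM_mul hb, Matrix.mul_apply]
  have hne : j ≠ i := by
    intro h0
    rw [h0] at hij
    omega
  rw [Finset.sum_eq_add j i hne]
  · rw [← e, ← e, ← e, ← e, hh' j j le_rfl, hg' i i le_rfl, if_pos rfl, if_pos rfl, mul_one,
      one_mul]
  · intro k _ hk
    obtain ⟨hkj, hki⟩ := hk
    rcases lt_or_gt_of_ne hki with hlt | hgt
    · rw [← e g i k, hg' i k hlt.le, if_neg hlt.ne', zero_mul]
    · have hkj' : j < k := by
        rw [Fin.lt_def] at hgt ⊢
        have : k.val ≠ j.val := fun h0 => hkj (Fin.ext h0)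
        omega
      rw [← e h k j, hh' k j hkj'.le, if_neg hkj'.ne', mul_zero]
  · intro h0
    exact absurd (Finset.mem_univ _) h0
  · intro h0
    exact absurd (Finset.mem_univ _) h0

end U

end Cfsg.Agent.Helper3.SUO
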