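import Mathlib
import Cfsg.Agent.S1017
import Cfsg.Agent.S0215
import Cfsg.Agent.Lib.Helper75.FixKill

/-!
# S0983 exercise order 5940 = 2^2 * 3^3 * 5 * 11 (helper3)

`n_11 = 45` is forced (the sieve's `Bad` kills 1, 12, 540); then `|C(P)| = 66` and an involution
`t ∈ C(P)` fixes exactly one Sylow 11-subgroup, hence is isolated in a Sylow 2-subgroup (order 4):
Glauberman's Z*-theorem (`S0215`) finishes.
-/

set_option autoImplicit false

namespace Cfsg.Agent.Helper3.SV

open Nat MulAction Cfsg.Agent.Helper17 Cfsg.Agent.Helper17.Sieve Cfsg.Agent.Helper75.FixKill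

/-- an isolated involution cannot exist in a nonabelian simple group of even order -/
theorem sv_false_of_isolated {G : Type*} [Group G] [Finite G] [IsSimpleGroup G]
    (hna : ¬ IsMulCommutative G) (heven : Even (Nat.card G)) (S : Sylow 2 G) (u : G)
    (hu : orderOf u = 2) (huS : u ∈ S) (hiso : ∀ g : G, g * u * g⁻¹ ∈ S → g * u * g⁻¹ = u) :
    False := by
  obtain ⟨N, hNn, hNodd, hN⟩ := Cfsg.Agent.S0215.result S u hu huS hiso
  have hu1 : u ≠ 1 := by
    intro h
    rw [h, orderOf_one] at hu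
    norm_num at hu
  rcases hNn.eq_bot_or_eq_top with h | h
  · have hcen : u ∈ Subgroup.center G := by
      rw [Subgroup.mem_center_iff]
      intro g
      have h1 := hN g
      rw [h, Subgroup.mem_bot] at h1
      have h2 : u * g = g * u := by
        calc u * g = (u * g * u⁻¹ * g⁻¹) * (g * u) := by group
          _ = g * u := by rw [h1, one_mul]
      exact h2.symm
    have hcn : (Subgroup.center G).Normal := inferInstance
    rcases hcn.eq_bot_or_eq_top with h' | h'
    · rw [h', Subgroup.mem_bot] at hcen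
      exact hu1 hcen
    · apply hna
      refine ⟨⟨fun a b => ?_⟩⟩
      have ha : a ∈ Subgroup.center G := by rw [h']; exact Subgroup.mem_top a
      exact ((Subgroup.mem_center_iff.1 ha) b).symm
  · rw [h, Subgroup.card_top] at hNodd
    exact (Nat.not_even_iff_odd.2 hNodd) heven

set_option maxRecDepth 100000 in
theorem sv5940_d : ∀ d ∈ List.range 541, d ∣ 540 → d % 11 = 1 →
    ¬ Bad (11 ^ 1 * 540) 11 1 540 d → d = 45 := by decide +kernel

theorem sv5940_e (c e : ℕ) (he1 : e ∣ 11 - 1) (he2 : e ≠ 1) (h : c * e = 132) : c = 66 := by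
  have hle : e ≤ 10 := Nat.le_of_dvd (by norm_num) he1
  interval_cases e <;> omega

/-- no nonabelian simple group of order 5940 -/
theorem no_5940.{u} : NoSimple.{u} 5940 := by
  intro G _ _ _ hna hn0
  classical
  have hp11 : Fact (Nat.Prime 11) := ⟨by norm_num⟩
  have hn : Nat.card G = 11 ^ 1 * 540 := by rw [hn0]; norm_num
  have hpm : ¬ 11 ∣ 540 := by norm_num
  obtain ⟨P⟩ : Nonempty (Sylow 11 G) := inferInstance
  have hPc : Nat.card (P : Subgroup G) = 11 := by
    have h0 := sylow_card_eq P hn hpm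
    rwa [pow_one] at h0
  obtain ⟨hdm, hdp⟩ := sylow_count (G := G) hn hpm
  have hnb := not_bad hna 11 1 540 one_ne_zero (by norm_num) hn hpm
  have hNd := card_normalizer_mul_sylow_count P
  have hGp : Nat.card G ≠ 11 := by rw [hn0]; norm_num
  obtain ⟨e, he1, he2, he3⟩ := exists_e P hPc hGp
  have hdle : Nat.card (Sylow 11 G) ≤ 540 := Nat.le_of_dvd (by norm_num) hdm
  have hd : Nat.card (Sylow 11 G) = 45 :=
    sv5940_d _ (List.mem_range.2 (by omega)) hdm hdp hnb
  have hN : Nat.card ↥(Subgroup.normalizer ((P : Subgroup G) : Set G)) = 132 := by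
    rw [hd, hn0] at hNd
    omega
  have hc : Nat.card ↥(Subgroup.centralizer ((P : Subgroup G) : Set G)) = 66 :=
    sv5940_e _ e he1 he2 (by rw [he3, hN])
  -- an involution in `C(P)`
  have hp2 : Fact (Nat.Prime 2) := ⟨Nat.prime_two⟩
  obtain ⟨t', ht'⟩ := exists_prime_orderOf_dvd_card'
    (G := ↥(Subgroup.centralizer ((P : Subgroup G) : Set G))) 2 (by rw [hc]; norm_num)
  have ht : orderOf (t' : G) = 2 := by rw [Subgroup.orderOf_coe]; exact ht'
  have htC : (t' : G) ∈ Subgroup.centralizer ((P : Subgroup G) : Set G) := t'.2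
  set t : G := (t' : G) with htdef
  have ht1 : t ≠ 1 := Cfsg.Agent.S1017.ne_one_of_orderOf_prime t Nat.prime_two ht
  have h2G : 2 < Nat.card G := by rw [hn0]; norm_num
  -- `t` fixes exactly one Sylow 11-subgroup
  have hf1 : Nat.card (fixedBy (Sylow 11 G) t) = 1 := by
    have h1 := Cfsg.Agent.S1017.card_fixedBy_sylow_modEq P hPc t htC
    have h4 := Cfsg.Agent.S1017.card_fixedBy_mod_four h2G (α := Sylow 11 G) t ht
    have hle := Cfsg.Agent.S1017.card_fixedBy_le (α := Sylow 11 G) t
    have hne := Cfsg.Agent.S1017.card_fixedBy_ne (α := Sylow 11 G)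
      (Cfsg.Agent.S1017.sylow_action_nontrivial (by rw [hd]; norm_num)) t ht1
    rw [hd] at h4 hle hne
    unfold Nat.ModEq at h1 h4
    omega
  have htP : t • P = P :=
    Sylow.smul_eq_iff_mem_normalizer.mpr (Subgroup.centralizer_le_normalizer _ htC)
  have hfix : ∀ Q : Sylow 11 G, t • Q = Q → Q = P := by
    intro Q hQ
    have hss : Subsingleton ↥(fixedBy (Sylow 11 G) t) := (Nat.card_eq_one_iff_unique.1 hf1).1
    have := Subsingleton.elim (⟨Q, hQ⟩ : ↥(fixedBy (Sylow 11 G) t)) ⟨P, htP⟩
    exact Subtype.ext_iff.1 this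
  -- a Sylow 2-subgroup containing `t`
  obtain ⟨S, htS⟩ := Cfsg.Agent.S1017.exists_sylow_mem_of_orderOf t ht
  have hSc : Nat.card (S : Subgroup G) = 2 ^ 2 :=
    sylow_card_eq S (k := 2) (m := 1485) (by rw [hn0]; norm_num) (by norm_num)
  have hSab : IsMulCommutative ↥(S : Subgroup G) :=
    IsPGroup.isMulCommutative_of_card_eq_prime_sq hSc
  have hScomm : ∀ a ∈ (S : Subgroup G), ∀ b ∈ (S : Subgroup G), a * b = b * a := by
    intro a ha b hb
    have := hSab.is_comm.comm (⟨a, ha⟩ : ↥(S : Subgroup G)) ⟨b, hb⟩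
    exact Subtype.ext_iff.1 this
  -- `S ⊓ C(P) = zpowers t`
  have hHcard : Nat.card ↥((S : Subgroup G) ⊓ Subgroup.centralizer ((P : Subgroup G) : Set G)) = 2 := by
    have hd4 : Nat.card ↥((S : Subgroup G) ⊓ Subgroup.centralizer ((P : Subgroup G) : Set G)) ∣ 4 := by
      have := Subgroup.card_dvd_of_le (inf_le_left :
        (S : Subgroup G) ⊓ Subgroup.centralizer ((P : Subgroup G) : Set G) ≤ (S : Subgroup G))
      rwa [hSc] at this
    have hd66 : Nat.card ↥((S : Subgroup G) ⊓ Subgroup.centralizer ((P : Subgroup G) : Set G)) ∣ 66 := by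
      have := Subgroup.card_dvd_of_le (inf_le_right :
        (S : Subgroup G) ⊓ Subgroup.centralizer ((P : Subgroup G) : Set G) ≤
          Subgroup.centralizer ((P : Subgroup G) : Set G))
      rwa [hc] at this
    have hd2 : Nat.card ↥((S : Subgroup G) ⊓ Subgroup.centralizer ((P : Subgroup G) : Set G)) ∣ 2 :=
      Nat.dvd_gcd hd4 hd66
    have h2d : 2 ∣ Nat.card ↥((S : Subgroup G) ⊓ Subgroup.centralizer ((P : Subgroup G) : Set G)) := by
      have hmem : t ∈ (S : Subgroup G) ⊓ Subgroup.centralizer ((P : Subgroup G) : Set G) :=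
        ⟨htS, htC⟩
      have := Subgroup.orderOf_dvd_natCard _ hmem
      rwa [ht] at this
    exact Nat.dvd_antisymm hd2 h2d
  have hHz : Subgroup.zpowers t =
      (S : Subgroup G) ⊓ Subgroup.centralizer ((P : Subgroup G) : Set G) := by
    apply Subgroup.eq_of_le_of_card_ge
    · rw [Subgroup.zpowers_le]; exact ⟨htS, htC⟩
    · rw [hHcard, Nat.card_zpowers, ht]
  -- `t` is isolated in `S`
  have hiso : ∀ g : G, g * t * g⁻¹ ∈ S → g * t * g⁻¹ = t := by
    intro g hg
    have hcomm : (g * t * g⁻¹) * t = t * (g * t * g⁻¹) := hScomm _ hg _ htS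
    have h1 : (g * t * g⁻¹) • P = P := by
      apply hfix
      rw [← mul_smul, ← hcomm, mul_smul, htP]
    have h2 : g⁻¹ • P = P := by
      apply hfix
      have h3 : t • g⁻¹ • P = g⁻¹ • (g * t * g⁻¹) • P := by
        simp only [← mul_smul]
        congr 1
        group
      rw [h3, h1]
    have hgN : g⁻¹ ∈ Subgroup.normalizer ((P : Subgroup G) : Set G) :=
      Sylow.smul_eq_iff_mem_normalizer.mp h2
    have hconjC : g * t * g⁻¹ ∈ Subgroup.centralizer ((P : Subgroup G) : Set G) := by
      rw [Subgroup.mem_centralizer_iff]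
      intro x hx
      have hx' : g⁻¹ * x * g⁻¹⁻¹ ∈ (P : Subgroup G) :=
        (Subgroup.mem_normalizer_iff.1 hgN x).1 hx
      rw [inv_inv] at hx'
      have hxc := Subgroup.mem_centralizer_iff.1 htC (g⁻¹ * x * g) hx'
      calc x * (g * t * g⁻¹) = g * ((g⁻¹ * x * g) * t) * g⁻¹ := by group
        _ = g * (t * (g⁻¹ * x * g)) * g⁻¹ := by rw [hxc]
        _ = g * t * g⁻¹ * x := by group
    have hz : g * t * g⁻¹ ∈ Subgroup.zpowers t := by
      rw [hHz]; exact ⟨hg, hconjC⟩
    rw [mem_zpowers_iff_mem_range_orderOf, ht] at hz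
    simp only [Finset.mem_image, Finset.mem_range] at hz
    obtain ⟨k, hk, hkt⟩ := hz
    interval_cases k
    · exfalso
      apply ht1
      rw [pow_zero] at hkt
      have : t = g⁻¹ * (g * t * g⁻¹) * g := by group
      rw [this, ← hkt]; group
    · rw [pow_one] at hkt
      exact hkt.symm
  exact sv_false_of_isolated hna (by rw [hn0]; decide) S t ht htS hiso

end Cfsg.Agent.Helper3.SV
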