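import Mathlib
import Cfsg.Prelude.Def_Characters
import Cfsg.Prelude.Def_KGroupFacts
import Cfsg.Agent.Lib.Helper3.CharBrauer
import Cfsg.Agent.Lib.Helper3.CharExceptional
import Cfsg.Agent.Lib.Helper79.Completeness

set_option autoImplicit false
set_option linter.unusedSectionVars false

namespace Cfsg.Agent.Helper3

open Module Representation

open scoped ComplexConjugate

universe u

section SchurExp

variable {Γ : Type u} [Group Γ] [Fintype Γ]

/-- An element that is central and in the commutator subgroup acts in an irreducible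
representation of degree `n` as a scalar `c` with `c ^ n = 1`. -/
theorem central_commutator_scalar {n : ℕ} (ρ : Representation ℂ Γ (Fin n → ℂ))
    [ρ.IsIrreducible] (m : Γ) (hc : m ∈ Subgroup.center Γ) (hd : m ∈ commutator Γ) :
    ∃ c : ℂ, c ^ n = 1 ∧ ∀ g, ρ.character (g * m) = c * ρ.character g := by
  have hT : ∀ g : Γ, ρ m ∘ₗ ρ g = ρ g ∘ₗ ρ m := by
    intro g
    have h1 : ρ m * ρ g = ρ g * ρ m := by
      rw [← map_mul, ← map_mul, (Subgroup.mem_center_iff.mp hc g)]
    exact h1
  obtain ⟨c, hc1, -⟩ := Cfsg.Agent.Helper79.schur_scalar ρ (ρ m) hT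
  refine ⟨c, ?_, ?_⟩
  · have hdet : LinearMap.det (ρ m) = 1 := by
      let d : Γ →* ℂˣ := (LinearMap.det.comp (ρ : Γ →* Module.End ℂ (Fin n → ℂ))).toHomUnits
      have hker : m ∈ d.ker := Abelianization.commutator_subset_ker d hd
      have h1 : d m = 1 := hker
      have h2 := congrArg Units.val h1
      exact h2
    rw [hc1, LinearMap.det_smul, Module.finrank_fin_fun, map_one, mul_one] at hdet
    exact hdet
  · intro g
    unfold Representation.character
    rw [map_mul, hc1, mul_smul_comm, mul_one, map_smul, smul_eq_mul]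

/-- Schur: for `M` central and inside the commutator subgroup, `exp(M)² ∣ [Γ : M]`. -/
theorem exponent_sq_dvd_index (M : Subgroup Γ) (hMc : M ≤ Subgroup.center Γ)
    (hMd : M ≤ commutator Γ) : (Monoid.exponent M) ^ 2 ∣ M.index := by
  classical
  haveI : Fintype M := Fintype.ofFinite M
  letI : CommGroup M := { (inferInstance : Group M) with
    mul_comm := fun a b => Subtype.ext (by
      have := Subgroup.mem_center_iff.mp (hMc a.2) b
      exact this.symm) }
  haveI : NeZero (Monoid.exponent M) := ⟨Monoid.exponent_ne_zero_of_finite⟩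
  obtain ⟨φ⟩ := CommGroup.monoidHom_mulEquiv_of_hasEnoughRootsOfUnity M ℂ
  have hexp : Monoid.exponent (M →* ℂˣ) = Monoid.exponent M := Monoid.exponent_eq_of_mulEquiv φ
  haveI : Finite (M →* ℂˣ) := Finite.of_equiv M φ.symm.toEquiv
  have hEE : Monoid.ExponentExists (M →* ℂˣ) := by
    rw [← Monoid.exponent_ne_zero, hexp]
    exact Monoid.exponent_ne_zero_of_finite
  obtain ⟨lam, hlam⟩ := Monoid.exists_orderOf_eq_exponent (G := M →* ℂˣ) hEE
  rw [hexp] at hlam
  have hkey : ∀ k : ℕ, (∀ m : M, ((lam m : ℂˣ) : ℂ) ^ k = 1) → Monoid.exponent M ∣ k := by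
    intro k hk
    rw [← hlam]
    apply orderOf_dvd_of_pow_eq_one
    ext m
    rw [MonoidHom.pow_apply, Units.val_pow_eq_pow_val, hk m]
    rfl
  -- the induced character
  set ψ : Γ → ℂ := Cfsg.indFun M (fun m => ((lam m : ℂˣ) : ℂ)) with hψdef
  have hψ : Cfsg.IsCharacter Γ ψ := isCharacter_indFun M _ (isCharacter_of_hom lam)
  have hΓ : (Nat.card Γ : ℂ) ≠ 0 := card_ne_zero_complex
  have hMcard : (Nat.card M : ℂ) ≠ 0 := by
    have : 0 < Nat.card M := Nat.card_pos
    exact_mod_cast this.ne'
  have hψ1 : ψ 1 = (M.index : ℂ) := by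
    rw [hψdef, indFun_apply]
    have h1 : ∀ x : Γ, Cfsg.extendByZero M (fun m => ((lam m : ℂˣ) : ℂ)) (x⁻¹ * 1 * x) = 1 := by
      intro x
      have : x⁻¹ * 1 * x = ((1 : M) : Γ) := by simp
      rw [this, extendByZero_mem, map_one, Units.val_one]
    simp_rw [h1]
    rw [Finset.sum_const, Finset.card_univ, nsmul_eq_mul, mul_one, ← Nat.card_eq_fintype_card]
    have := Subgroup.card_mul_index M
    rw [← this]
    push_cast
    field_simp
  -- analysis of each irreducible constituent
  have hχ : ∀ χ : Cfsg.IrrCharacter Γ, ∃ nχ : ℕ, (χ : Γ → ℂ) 1 = (nχ : ℂ) ∧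
      (irrMult ψ χ = 0 ∨ (irrMult ψ χ = nχ ∧ Monoid.exponent M ∣ nχ)) := by
    intro χ
    have hmult := irrMult_spec hψ χ
    obtain ⟨n, ρ, hirr, hχeq⟩ := χ.2
    haveI := hirr
    have hV := nontrivial_of_irr ρ
    have hnpos : 0 < n := by
      have := Module.finrank_pos (R := ℂ) (M := Fin n → ℂ)
      simpa using this
    have hχ1 : (χ : Γ → ℂ) 1 = (n : ℂ) := by
      rw [← hχeq, Representation.char_one]; simp
    have hn0 : (n : ℂ) ≠ 0 := by exact_mod_cast hnpos.ne'
    refine ⟨n, hχ1, ?_⟩
    have hsc : ∀ m : M, ∃ c : ℂ, c ^ n = 1 ∧ ∀ g, ρ.character (g * m) = c * ρ.character g :=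
      fun m => central_commutator_scalar ρ m (hMc m.2) (hMd m.2)
    choose c hcn hcχ using hsc
    have hχm : ∀ m : M, (χ : Γ → ℂ) m = c m * n := by
      intro m
      have := hcχ m 1
      rw [one_mul, Representation.char_one] at this
      rw [← hχeq, this]; simp
    have hc1 : c 1 = 1 := by
      have := hχm 1
      rw [Subgroup.coe_one, hχ1] at this
      have h2 : (c 1 - 1) * (n : ℂ) = 0 := by rw [sub_mul, ← this]; ring
      rcases mul_eq_zero.mp h2 with h | h
      · exact sub_eq_zero.mp h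
      · exact absurd h hn0
    have hcmul : ∀ a b : M, c (a * b) = c a * c b := by
      intro a b
      have h1 := hχm (a * b)
      have h2 := hcχ b a
      rw [hχeq] at h2
      rw [Subgroup.coe_mul, h2, hχm a] at h1
      have h3 : (c (a * b) - c a * c b) * (n : ℂ) = 0 := by rw [sub_mul, ← h1]; ring
      rcases mul_eq_zero.mp h3 with h | h
      · exact sub_eq_zero.mp h
      · exact absurd h hn0
    let cMon : M →* ℂ := { toFun := c, map_one' := hc1, map_mul' := hcmul }
    let cHom : M →* ℂˣ := cMon.toHomUnits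
    have hcHom : ∀ m : M, ((cHom m : ℂˣ) : ℂ) = c m := fun m => rfl
    -- Frobenius reciprocity
    have hfr := frobenius_reciprocity M (fun m => ((lam m : ℂˣ) : ℂ)) (χ : Γ → ℂ)
      (isClassFunction_of_isIrrCharacter χ.2)
    have hinner : Cfsg.classInner ψ (χ : Γ → ℂ) =
        (Nat.card M : ℂ)⁻¹ * ((n : ℂ) * ∑ m : M, (((lam * cHom⁻¹) m : ℂˣ) : ℂ)) := by
      rw [hψdef, hfr]
      unfold Cfsg.classInner
      congr 1
      rw [Finset.mul_sum]
      apply Finset.sum_congr rfl
      intro m _
      show ((lam m : ℂˣ) : ℂ) * conj ((χ : Γ → ℂ) m) = _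
      rw [hχm m, map_mul, Complex.conj_natCast, MonoidHom.mul_apply, MonoidHom.inv_apply,
        Units.val_mul, Units.val_inv_eq_inv_val, hcHom]
      have hnorm : ‖c m‖ = 1 := Complex.norm_eq_one_of_pow_eq_one (hcn m) hnpos.ne'
      rw [← Complex.inv_eq_conj hnorm]
      ring
    by_cases hμ : lam * cHom⁻¹ = 1
    · right
      have hlc : lam = cHom := by
        ext m
        have h1 := congrArg (fun f : M →* ℂˣ => f m) hμ
        simp only [MonoidHom.mul_apply, MonoidHom.inv_apply, MonoidHom.one_apply] at h1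
        rw [mul_inv_eq_one.mp h1]
      have hsum : ∑ m : M, (((lam * cHom⁻¹) m : ℂˣ) : ℂ) = (Nat.card M : ℂ) := by
        rw [hμ]
        simp [Nat.card_eq_fintype_card]
      rw [hsum] at hinner
      have h1 : Cfsg.classInner ψ (χ : Γ → ℂ) = (n : ℂ) := by
        rw [hinner]; field_simp
      rw [hmult] at h1
      refine ⟨by exact_mod_cast h1, ?_⟩
      apply hkey
      intro m
      rw [hlc, hcHom, hcn m]
    · left
      have hf : (Units.coeHom ℂ).comp (lam * cHom⁻¹) ≠ 1 := by
        intro h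
        apply hμ
        ext m
        have := congrArg (fun f : M →* ℂ => f m) h
        simpa using this
      have hsum : ∑ m : M, (((lam * cHom⁻¹) m : ℂˣ) : ℂ) = 0 := by
        have := sum_hom_units_eq_zero ((Units.coeHom ℂ).comp (lam * cHom⁻¹)) hf
        simpa using this
      rw [hsum, mul_zero, mul_zero, hmult] at hinner
      exact_mod_cast hinner
  choose deg hdeg hcase using hχ
  have hsum : M.index = ∑ χ : Cfsg.IrrCharacter Γ, irrMult ψ χ * deg χ := by
    have h1 := congrFun (isCharacter_eq_sum_irrMult hψ) 1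
    rw [hψ1, Finset.sum_apply] at h1
    have : ∀ χ : Cfsg.IrrCharacter Γ, ((irrMult ψ χ : ℂ) • (χ : Γ → ℂ)) 1 =
        ((irrMult ψ χ * deg χ : ℕ) : ℂ) := by
      intro χ
      rw [Pi.smul_apply, hdeg χ, smul_eq_mul]
      push_cast
      rfl
    simp_rw [this] at h1
    exact_mod_cast h1
  rw [hsum]
  apply Finset.dvd_sum
  intro χ _
  rcases hcase χ with h | ⟨h1, h2⟩
  · rw [h, zero_mul]; exact dvd_zero _
  · rw [h1, ← sq]
    exact pow_dvd_pow_of_dvd h2 2

end SchurExp

/-- Schur: the square of the exponent of the Schur multiplier divides the group order. -/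
theorem exponent_schurMultiplier_sq_dvd {Q : Type*} [Group Q] [Finite Q] {A : Type*}
    [CommGroup A] (hA : Cfsg.HasSchurMultiplier Q A) : Monoid.exponent A ^ 2 ∣ Nat.card Q := by
  obtain ⟨⟨Γ, instG, instF, σ, ⟨hsurj, hcen, hcomm⟩, ⟨iso⟩⟩, -⟩ := hA
  haveI := instF
  haveI : Fintype Γ := Fintype.ofFinite Γ
  have h := exponent_sq_dvd_index σ.ker hcen hcomm
  rw [Monoid.exponent_eq_of_mulEquiv iso, Subgroup.index_ker,
    MonoidHom.range_eq_top.mpr hsurj, Subgroup.card_top] at h
  exact h

end Cfsg.Agent.Helper3
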