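import Mathlib
import Cfsg.Agent.Lib.Helper64.Basic
import Cfsg.Agent.Lib.Helper64.DirectFactor

set_option autoImplicit false
set_option linter.unusedSectionVars false
set_option linter.style.haveILetI false

namespace Cfsg.Agent.Helper3

open Subgroup

/-- The centralizer of a self-centralizing normal subgroup `A` of a Sylow `p`-subgroup splits as
`A` times a normal `p'`-subgroup. -/
theorem centralizer_scn_splits {G : Type*} [Group G] [Finite G] {p : ℕ} [Fact p.Prime]
    (R : Sylow p G) (A : Subgroup G) (hAR : A ≤ (R : Subgroup G))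
    (hAn : (R : Subgroup G) ≤ Subgroup.normalizer (A : Set G))
    (hC : (R : Subgroup G) ⊓ Subgroup.centralizer (A : Set G) = A) :
    ∃ H : Subgroup G, H ≤ Subgroup.centralizer (A : Set G) ∧ Nat.Coprime (Nat.card H) p ∧
      Subgroup.centralizer (A : Set G) ≤ Subgroup.normalizer (H : Set G) ∧ H ⊓ A = ⊥ ∧
      H ⊔ A = Subgroup.centralizer (A : Set G) := by
  classical
  have hp : p.Prime := Fact.out
  set T := Subgroup.normalizer (A : Set G) with hT
  set C := Subgroup.centralizer (A : Set G) with hCdef
  have hCT : C ≤ T := Subgroup.centralizer_le_normalizer _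
  have hAC : A ≤ C := by rw [← hC]; exact inf_le_right
  haveI hCn : (C.subgroupOf T).Normal := Subgroup.normal_subgroupOf_centralizer_normalizer _
  have hidx : ¬ p ∣ A.relIndex C := by
    intro hdvd
    have h1 := Cfsg.Agent.Helper64.inf_relIndex_dvd_index ((R : Subgroup G).subgroupOf T)
      (C.subgroupOf T)
    have h2 : (((R : Subgroup G).subgroupOf T) ⊓ (C.subgroupOf T)) = A.subgroupOf T := by
      rw [← hC]
      exact (Subgroup.comap_inf _ _ _).symm
    rw [h2, Subgroup.relIndex_subgroupOf hCT] at h1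
    have h3 : ((R : Subgroup G).subgroupOf T).index ∣ (R : Subgroup G).index :=
      Subgroup.relIndex_dvd_index_of_le hAn
    exact R.not_dvd_index (dvd_trans hdvd (dvd_trans h1 h3))
  have hpg : IsPGroup p (A.subgroupOf C) := by
    have h : IsPGroup p A := R.2.to_le hAR
    exact h.comap_subtype
  let Z : Sylow p C := hpg.toSylow hidx
  have hZcoe : (Z : Subgroup C) = A.subgroupOf C := rfl
  have hZcen : (Z : Subgroup C) ≤ Subgroup.center C := by
    intro z hz
    rw [hZcoe, Subgroup.mem_subgroupOf] at hz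
    rw [Subgroup.mem_center_iff]
    intro c
    apply Subtype.ext
    have := Subgroup.mem_centralizer_iff.mp c.2 (z : G) hz
    simpa using this.symm
  obtain ⟨N, hNn, hNZ⟩ := Cfsg.Agent.Helper64.exists_normal_complement_of_central Z hZcen
  have hZmap : (Z : Subgroup C).map C.subtype = A := by
    rw [hZcoe, Subgroup.subgroupOf_map_subtype]
    exact inf_eq_left.mpr hAC
  refine ⟨N.map C.subtype, Subgroup.map_subtype_le N, ?_, ?_, ?_, ?_⟩
  · rw [Subgroup.card_map_of_injective C.subtype_injective]
    have h1 : (Z : Subgroup C).index = Nat.card N := hNZ.index_eq_card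
    rw [← h1, Nat.coprime_comm, Nat.Prime.coprime_iff_not_dvd hp]
    exact Z.not_dvd_index
  · intro c hc
    rw [Subgroup.mem_normalizer_iff]
    intro h
    constructor
    · rintro ⟨n, hn, rfl⟩
      exact ⟨⟨c, hc⟩ * n * ⟨c, hc⟩⁻¹, hNn.conj_mem n hn ⟨c, hc⟩, by simp⟩
    · rintro ⟨n, hn, hn'⟩
      refine ⟨⟨c, hc⟩⁻¹ * n * ⟨c, hc⟩, ?_, ?_⟩
      · have := hNn.conj_mem n hn (⟨c, hc⟩⁻¹ : C)
        simpa using this
      · have h5 : (C.subtype n : G) = c * h * c⁻¹ := hn'
        simp only [map_mul, map_inv, Subgroup.subtype_apply] at h5 ⊢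
        rw [h5]; group
  · have hdisj : N ⊓ (Z : Subgroup C) = ⊥ := hNZ.disjoint.eq_bot
    have := congrArg (Subgroup.map C.subtype) hdisj
    rw [Subgroup.map_inf _ _ _ C.subtype_injective, hZmap, Subgroup.map_bot] at this
    exact this
  · have hsup : N ⊔ (Z : Subgroup C) = ⊤ := hNZ.sup_eq_top
    have := congrArg (Subgroup.map C.subtype) hsup
    rw [Subgroup.map_sup, hZmap, ← MonoidHom.range_eq_map, Subgroup.range_subtype] at this
    exact this

end Cfsg.Agent.Helper3
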