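import Mathlib
import Cfsg.Agent.Lib.Helper73.W44Defs

set_option autoImplicit false

namespace Cfsg.Agent.Helper3.W44

open Cfsg.Agent.Helper73.W44

section graded
variable {k : Type*} [Field k] {G : Type*} [Group G] {V : Type*} [AddCommGroup V] [Module k V]
variable {X : Type*} [DecidableEq X]

theorem h3_symm_of_mem (W : X → Submodule k V) (hI : DirectSum.IsInternal W) (x : X) (v : V)
    (hv : v ∈ W x) :
    (LinearEquiv.ofBijective (DirectSum.coeLinearMap W) hI).symm v
      = DirectSum.lof k X (fun i => W i) x ⟨v, hv⟩ := by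
  rw [LinearEquiv.symm_apply_eq]
  change v = DirectSum.coeLinearMap W (DirectSum.lof k X (fun i => W i) x ⟨v, hv⟩)
  exact (DirectSum.coeLinearMap_of W x ⟨v, hv⟩).symm

/-- **(PJ1)** -/
theorem proj_of_mem_same (W : X → Submodule k V) (hI : DirectSum.IsInternal W) (x : X) (v : V)
    (hv : v ∈ W x) : proj W hI x v = v := by
  unfold proj
  simp only [LinearMap.coe_comp, Function.comp_apply, LinearEquiv.coe_coe]
  rw [h3_symm_of_mem W hI x v hv, DirectSum.component.lof_self]
  rfl

/-- **(PJ2)** -/
theorem proj_of_mem_ne (W : X → Submodule k V) (hI : DirectSum.IsInternal W) (x y : X) (v : V)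
    (hv : v ∈ W x) (hxy : x ≠ y) : proj W hI y v = 0 := by
  unfold proj
  simp only [LinearMap.coe_comp, Function.comp_apply, LinearEquiv.coe_coe]
  rw [h3_symm_of_mem W hI x v hv, DirectSum.component.of, dif_neg (fun h => hxy h)]
  simp

/-- **(PJ3)** -/
theorem eq_zero_of_forall_proj (W : X → Submodule k V) (hI : DirectSum.IsInternal W) (v : V)
    (hv : ∀ x, proj W hI x v = 0) : v = 0 := by
  have h0 : (LinearEquiv.ofBijective (DirectSum.coeLinearMap W) hI).symm v = 0 := by
    apply DirectSum.ext_component k
    intro x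
    have := hv x
    unfold proj at this
    simp only [LinearMap.coe_comp, Function.comp_apply, LinearEquiv.coe_coe,
      Submodule.coe_subtype] at this
    rw [map_zero]
    exact Subtype.ext this
  exact (LinearEquiv.map_eq_zero_iff _).mp h0

/-- **(PJ4)** equivariance -/
theorem proj_equivariant [MulAction G X] (ρ : G →* Module.End k V) (W : X → Submodule k V)
    (hI : DirectSum.IsInternal W) (hmap : ∀ g x, (W x).map (ρ g) = W (g • x))
    (g : G) (x : X) (v : V) : proj W hI (g • x) (ρ g v) = ρ g (proj W hI x v) := by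
  have htop : (⨆ z, W z) = ⊤ := hI.submodule_iSup_eq_top
  have hv : v ∈ ⨆ z, W z := by rw [htop]; trivial
  refine Submodule.iSup_induction W (motive := fun v => proj W hI (g • x) (ρ g v) = ρ g (proj W hI x v)) hv ?_ ?_ ?_
  · intro z w hw
    have hgw : ρ g w ∈ W (g • z) := by
      rw [← hmap g z]
      exact ⟨w, hw, rfl⟩
    by_cases hzx : z = x
    · subst hzx
      rw [proj_of_mem_same W hI _ _ hgw, proj_of_mem_same W hI _ _ hw]
    · have hne : g • z ≠ g • x := by
        intro h
        exact hzx (MulAction.injective g h)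
      rw [proj_of_mem_ne W hI _ _ _ hgw hne, proj_of_mem_ne W hI _ _ _ hw hzx, map_zero]
  · simp
  · intro a b ha hb
    rw [map_add, map_add, ha, hb, map_add, map_add]

end graded

end Cfsg.Agent.Helper3.W44
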