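import Mathlib
import Cfsg.Agent.Lib.Helper73.W44Defs
import Cfsg.Agent.Lib.Helper3.W44PJ
import Cfsg.Agent.Lib.Helper3.W44SP1

set_option autoImplicit false

namespace Cfsg.Agent.Helper3.W44

open Cfsg.Agent.Helper73.W44

section thmA
variable {k : Type*} [Field k] {G : Type*} [Group G] {V : Type*} [AddCommGroup V]
  [Module k V]
variable {X : Type*} [DecidableEq X] [MulAction G X]

/-- (K1) with the conclusion of (A5) for the subspace `⨆ y ∈ orbit P x, W y` as a hypothesis. -/
theorem h3_exists_fixed_supp_eq_orbit_of (ρ : G →* Module.End k V) (W : X → Submodule k V)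
    (hI : DirectSum.IsInternal W) (hmap : ∀ g x, (W x).map (ρ g) = W (g • x))
    (P : Subgroup G) (x : X) (hx : W x ≠ ⊥)
    (hA5 : ∀ U : Submodule k V, U ≠ ⊥ → (∀ s ∈ P, ∀ u ∈ U, ρ s u ∈ U) →
      ∃ f ∈ U, f ≠ 0 ∧ f ∈ fixS ρ P) :
    ∃ f ∈ fixS ρ P, f ≠ 0 ∧ supp W hI f = MulAction.orbit P x := by
  classical
  set U : Submodule k V := ⨆ y ∈ MulAction.orbit P x, W y with hUdef
  have hxU : W x ≤ U := by
    apply le_biSup W (MulAction.mem_orbit_self (M := P) x)
  have hU : U ≠ ⊥ := by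
    intro h
    apply hx
    rw [eq_bot_iff, ← h]
    exact hxU
  have hinv : ∀ s ∈ P, ∀ u ∈ U, ρ s u ∈ U := by
    intro s hs
    have hle : U ≤ U.comap (ρ s) := by
      apply iSup₂_le
      intro y hy w hw
      rw [Submodule.mem_comap]
      have h1 : ρ s w ∈ W (s • y) := by
        rw [← hmap s y]
        exact ⟨w, hw, rfl⟩
      have h2 : s • y ∈ MulAction.orbit P x := by
        obtain ⟨t, ht⟩ := hy
        refine ⟨⟨s, hs⟩ * t, ?_⟩
        show (⟨s, hs⟩ * t : P) • x = s • y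
        rw [mul_smul, show t • x = y from ht]
        rfl
      exact (le_biSup W h2) h1
    intro u hu
    exact hle hu
  obtain ⟨f, hfU, hf0, hfix⟩ := hA5 U hU hinv
  refine ⟨f, hfix, hf0, ?_⟩
  have hsub : supp W hI f ⊆ MulAction.orbit P x :=
    supp_subset_of_mem_biSup W hI _ f hfU
  -- the support is `P`-invariant
  have hsinv : ∀ s ∈ P, ∀ y ∈ supp W hI f, s • y ∈ supp W hI f := by
    intro s hs y hy
    rw [mem_supp] at hy ⊢
    have hfs : ρ s f = f := (mem_fixS ρ P f).mp hfix s hs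
    have := proj_equivariant ρ W hI hmap s y f
    rw [hfs] at this
    rw [this]
    intro h0
    apply hy
    have h1 : ρ s⁻¹ (ρ s (proj W hI y f)) = proj W hI y f := by
      rw [← Module.End.mul_apply, ← map_mul, inv_mul_cancel, map_one, Module.End.one_apply]
    rw [← h1, h0, map_zero]
  -- the support is nonempty
  have hne : ∃ y₀, y₀ ∈ supp W hI f := by
    by_contra hcon
    push_neg at hcon
    apply hf0
    apply eq_zero_of_forall_proj W hI f
    intro y
    by_contra hy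
    exact hcon y hy
  obtain ⟨y₀, hy₀⟩ := hne
  obtain ⟨s₀, hs₀⟩ := hsub hy₀
  apply Set.Subset.antisymm hsub
  rintro z ⟨s, hs⟩
  have hz : z = ((s * s₀⁻¹ : P) : G) • y₀ := by
    rw [← hs, ← hs₀]
    show s • x = ((s * s₀⁻¹ : P) : G) • ((s₀ : G) • x)
    rw [← mul_smul]
    show (s : G) • x = _
    congr 1
    simp
  rw [hz]
  exact hsinv _ (s * s₀⁻¹).2 y₀ hy₀

end thmA

end Cfsg.Agent.Helper3.W44
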