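import Mathlib
import Cfsg.Agent.Lib.Helper73.W44Defs
import Cfsg.Agent.Lib.Helper3.W44K1Core
import Cfsg.Agent.Lib.Helper23.W44A5

set_option autoImplicit false

namespace Cfsg.Agent.Helper3.W44

open Cfsg.Agent.Helper73.W44

section thmA
variable {k : Type*} [Field k] [CharP k 2] {G : Type*} [Group G] {V : Type*} [AddCommGroup V]
  [Module k V] [FiniteDimensional k V] [Nontrivial V]
variable {X : Type*} [DecidableEq X] [MulAction G X]

/-- **(K1)** for every nonzero component there is a nonzero `P`-fixed vector whose support is the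
`P`-orbit of its index (use A5 on `⨆ y ∈ orbit P x, W y`, then SP1, PJ3, PJ4) -/
theorem exists_fixed_supp_eq_orbit (ρ : G →* Module.End k V) (W : X → Submodule k V)
    (hI : DirectSum.IsInternal W) (hmap : ∀ g x, (W x).map (ρ g) = W (g • x))
    (P : Subgroup G) [Finite P] (hP : IsPGroup 2 P) (x : X) (hx : W x ≠ ⊥) :
    ∃ f ∈ fixS ρ P, f ≠ 0 ∧ supp W hI f = MulAction.orbit P x :=
  h3_exists_fixed_supp_eq_orbit_of ρ W hI hmap P x hx
    (fun U hU hinv => Cfsg.Agent.Helper23.W44.exists_fixed_vector ρ P hP U hU hinv)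

end thmA

end Cfsg.Agent.Helper3.W44
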